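import Cfsg.Agent.Lib.Linear.Suzuki.SubgroupApps

/-!
# The cyclic components of a Suzuki group and their normalisers

Index of a component in its normaliser, odd order elements of the normaliser, fixed points.
-/

set_option autoImplicit false

namespace Cfsg.Lib.Linear.Suz

open scoped Matrix LinearAlgebra.Projectivization

variable {F : Type*} [Field F] [Fintype F] {m : ℕ} (h : Params F m)
include h

/-- The normaliser of the centraliser of an element. -/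
def NC (_h : Params F m) (u : ↥(Cfsg.Sz F m)) : Subgroup ↥(Cfsg.Sz F m) :=
  Subgroup.normalizer (Subgroup.centralizer ({u} : Set ↥(Cfsg.Sz F m)) : Set ↥(Cfsg.Sz F m))

theorem comp_coprime_four {a : ℕ} (ha : a ∈ compOrders h) : Nat.Coprime a 4 :=
  Nat.Coprime.pow_right 2 (Nat.prime_two.coprime_iff_not_dvd.mpr (comp_two_le h ha).2).symm

theorem comp_centralizer {U : Subgroup ↥(Cfsg.Sz F m)} (hU : IsCyclic ↥U)
    (hk : Nat.card ↥U ∈ compOrders h) {c : ↥(Cfsg.Sz F m)} (hc : c ∈ U) (hne : c ≠ 1) :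
    ¬ 2 ∣ orderOf c ∧ U = Subgroup.centralizer {c} := by
  have hodd : ¬ 2 ∣ orderOf c := fun h' =>
    (comp_two_le h hk).2 (h'.trans (Subgroup.orderOf_dvd_natCard U hc))
  refine ⟨hodd, ?_⟩
  rcases cases_centralizer h hne with ⟨h4, -⟩ | ⟨hCc, hCk⟩
  · have hd := Nat.dvd_gcd (Subgroup.orderOf_dvd_natCard U hc) (orderOf_dvd_of_pow_eq_one h4)
    rw [show (Nat.card ↥U).gcd 4 = 1 from comp_coprime_four h hk, Nat.dvd_one, orderOf_eq_one_iff] at hd
    exact absurd hd hne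
  · obtain ⟨U', -, -, -, huniq⟩ := comp_of_odd h hne hodd
    rw [huniq U hU hk hc, huniq _ hCc hCk (Subgroup.mem_centralizer_singleton_iff.mpr rfl)]

theorem comp_of_elem {u : ↥(Cfsg.Sz F m)} (hu : u ≠ 1) (hodd : ¬ 2 ∣ orderOf u) :
    IsCyclic ↥(Subgroup.centralizer ({u} : Set ↥(Cfsg.Sz F m))) ∧
      Nat.card ↥(Subgroup.centralizer ({u} : Set ↥(Cfsg.Sz F m))) ∈ compOrders h := by
  obtain ⟨U, hU, hk, hc, -⟩ := comp_of_odd h hu hodd
  obtain ⟨-, e⟩ := comp_centralizer h hU hk hc hu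
  exact ⟨e ▸ hU, e ▸ hk⟩

theorem dS_fix_cases {k : Fˣ} (hk : k ≠ 1) {p : ℙ F (Fin 4 → F)} (hp : p ∈ Cfsg.suzukiOvoid F m)
    (e : (dS h k).1 • p = p) : p = Cfsg.suzukiPointInfinity F ∨ p = pA m (0 : F) 0 := by
  rcases mem_ovoid_iff.mp hp with rfl | ⟨x, y, rfl⟩
  · exact Or.inl rfl
  · obtain ⟨rfl, rfl⟩ := dS_fix h hk e
    exact Or.inr rfl

theorem dS_fix_both (k : Fˣ) :
    (dS h k).1 • Cfsg.suzukiPointInfinity F = Cfsg.suzukiPointInfinity F ∧
      (dS h k).1 • pA m (0 : F) 0 = pA m 0 0 := by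
  refine ⟨dHom_inf k, ?_⟩
  show dHom F m k • pA m (0 : F) 0 = pA m 0 0
  rw [dHom_pA h, mul_zero, mul_zero]

theorem isCyclic_DS : IsCyclic ↥(dS h).range :=
  isCyclic_of_surjective (dS h).rangeRestrict (dS h).rangeRestrict_surjective

theorem q_sub_one_mem : 2 ^ (2 * m + 1) - 1 ∈ compOrders h := Or.inl rfl

theorem comp_index {U : Subgroup ↥(Cfsg.Sz F m)} (hU : IsCyclic ↥U)
    (hk : Nat.card ↥U ∈ compOrders h) :
    (Nat.card ↥U = 2 ^ (2 * m + 1) - 1 → (∃ σ, U = (dS h).range.map (MulAut.conj σ).toMonoidHom) ∧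
      Nat.card ↥(Subgroup.normalizer (U : Set ↥(Cfsg.Sz F m))) = 2 * Nat.card ↥U) ∧
    (Nat.card ↥U ≠ 2 ^ (2 * m + 1) - 1 → (∀ c ∈ U, c ≠ 1 → Fpf h c) ∧
      Nat.card ↥(Subgroup.normalizer (U : Set ↥(Cfsg.Sz F m))) = 4 * Nat.card ↥U) := by
  classical
  have h2 := (comp_two_le h hk).1
  obtain ⟨c, hcU, hc⟩ : ∃ c ∈ U, c ≠ 1 := (Subgroup.bot_or_exists_ne_one U).resolve_left fun e => by
    rw [e, Subgroup.card_bot] at h2; omega
  obtain ⟨hodd, hUC⟩ := comp_centralizer h hU hk hcU hc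
  have hnorm : ∀ (T : Subgroup ↥(Cfsg.Sz F m)) (σ : ↥(Cfsg.Sz F m)), U = T.map (MulAut.conj σ).toMonoidHom →
      Nat.card ↥(Subgroup.normalizer (U : Set ↥(Cfsg.Sz F m))) =
        Nat.card ↥(Subgroup.normalizer (T : Set ↥(Cfsg.Sz F m))) := by
    rintro T σ rfl
    rw [← Subgroup.map_equiv_normalizer_eq T (MulAut.conj σ)]
    exact Subgroup.card_map_of_injective (f := (MulAut.conj σ).toMonoidHom) (MulAut.conj σ).injective
  have hds : ∀ x ∈ U, x ≠ 1 → ∀ σ, σ * x * σ⁻¹ ∈ (dS h).range →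
      U = (dS h).range.map (MulAut.conj σ⁻¹).toMonoidHom := by
    intro x hx hx1 σ hσ
    have hne : σ * x * σ⁻¹ ≠ 1 := fun e => hx1 (by rwa [mul_inv_eq_one, mul_eq_left] at e)
    rw [(comp_centralizer h hU hk hx hx1).2, ← centralizer_DS h hσ hne, ← conj_centralizer h,
      show σ⁻¹ * (σ * x * σ⁻¹) * σ⁻¹⁻¹ = x by group]
  have hnotUS : ∀ x ∈ U, x ≠ 1 → x ∉ conjSet (US h) := by
    rintro x hx hx1 ⟨-, σ, hσ⟩
    have h4 := pow_four_of_mem_US h hσ
    rw [conj_pow, mul_inv_eq_one, mul_eq_left] at h4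
    have hd := Nat.dvd_gcd (Subgroup.orderOf_dvd_natCard U hx) (orderOf_dvd_of_pow_eq_one h4)
    rw [show (Nat.card ↥U).gcd 4 = 1 from comp_coprime_four h hk, Nat.dvd_one, orderOf_eq_one_iff] at hd
    exact hx1 hd
  constructor
  · intro hcard
    obtain ⟨σ, hσ⟩ : ∃ σ, σ * c * σ⁻¹ ∈ (dS h).range := by
      by_cases hf : Fpf h c
      · exfalso
        obtain ⟨x₁, x₂, hx₁, hx₂, c₁, c₂, -, -, hall⟩ := tori h
        have hq := q_ge h
        have hr : 2 ^ (m + 1) ≤ 2 ^ (2 * m + 1) := Nat.pow_le_pow_right two_pos (by omega)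
        have hr2 : 2 ^ 2 ≤ 2 ^ (m + 1) := Nat.pow_le_pow_right two_pos (by have := h.pos; omega)
        rw [hUC] at hcard
        rcases hall c hf with hc' | hc'
        · rw [(torus_conjSet h hx₁).2.2 c hc', c₁] at hcard
          have := Nat.one_le_two_pow (n := m + 1)
          omega
        · rw [(torus_conjSet h hx₂).2.2 c hc', c₂] at hcard
          omega
      · rcases classify h hc hf with hc' | ⟨-, hc'⟩
        · exact absurd hc' (hnotUS c hcU hc)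
        · exact hc'
    refine ⟨⟨σ⁻¹, hds c hcU hc σ hσ⟩, ?_⟩
    rw [hnorm _ _ (hds c hcU hc σ hσ), card_NDS h, hcard]
  · intro hcard
    have hf : ∀ x ∈ U, x ≠ 1 → Fpf h x := by
      intro x hx hx1
      by_contra hf
      rcases classify h hx1 hf with hx' | ⟨-, σ, hσ⟩
      · exact hnotUS x hx hx1 hx'
      · refine hcard ?_
        rw [hds x hx hx1 σ hσ, Subgroup.card_map_of_injective (f := (MulAut.conj σ⁻¹).toMonoidHom)
          (MulAut.conj σ⁻¹).injective, card_DS h]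
    refine ⟨hf, ?_⟩
    obtain ⟨x₁, x₂, hx₁, hx₂, -, -, n₁, n₂, hall⟩ := tori h
    have key : ∀ y, Fpf h y → Nat.card ↥(Subgroup.normalizer (Subgroup.centralizer ({y} : Set ↥(Cfsg.Sz F m)) : Set ↥(Cfsg.Sz F m))) = 4 * Nat.card ↥(Subgroup.centralizer ({y} : Set ↥(Cfsg.Sz F m))) →
        c ∈ conjSet (Subgroup.centralizer ({y} : Set ↥(Cfsg.Sz F m))) →
        Nat.card ↥(Subgroup.normalizer (U : Set ↥(Cfsg.Sz F m))) = 4 * Nat.card ↥U := by
      rintro y hy hN ⟨-, σ, hσ⟩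
      have e := ((torus_data h hy).2.1 _ hσ fun e => hc (by rwa [mul_inv_eq_one, mul_eq_left] at e)).2
      have hU' : U = (Subgroup.centralizer ({y} : Set ↥(Cfsg.Sz F m))).map (MulAut.conj σ⁻¹).toMonoidHom := by
        rw [hUC, ← e, ← conj_centralizer h, show σ⁻¹ * (σ * c * σ⁻¹) * σ⁻¹⁻¹ = c by group]
      rw [hnorm _ _ hU', hN, hU']
      rw [Subgroup.card_map_of_injective (f := (MulAut.conj σ⁻¹).toMonoidHom) (MulAut.conj σ⁻¹).injective]
    rcases hall c (hf c hcU hc) with hc' | hc'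
    exacts [key x₁ hx₁ n₁ hc', key x₂ hx₂ n₂ hc']

theorem comp_index_dvd {U : Subgroup ↥(Cfsg.Sz F m)} (hU : IsCyclic ↥U)
    (hk : Nat.card ↥U ∈ compOrders h) :
    (U.subgroupOf (Subgroup.normalizer (U : Set ↥(Cfsg.Sz F m)))).index ∣ 4 := by
  have hc := (U.subgroupOf (Subgroup.normalizer (U : Set ↥(Cfsg.Sz F m)))).index_mul_card
  rw [Nat.card_congr (Subgroup.subgroupOfEquivOfLe (Subgroup.le_normalizer (H := U))).toEquiv] at hc
  by_cases e : Nat.card ↥U = 2 ^ (2 * m + 1) - 1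
  · rw [((comp_index h hU hk).1 e).2] at hc
    rw [Nat.eq_of_mul_eq_mul_right Nat.card_pos hc]
    norm_num
  · rw [((comp_index h hU hk).2 e).2] at hc
    rw [Nat.eq_of_mul_eq_mul_right Nat.card_pos hc]

theorem odd_mem {U : Subgroup ↥(Cfsg.Sz F m)} (hU : IsCyclic ↥U)
    (hk : Nat.card ↥U ∈ compOrders h) {y : ↥(Cfsg.Sz F m)}
    (hy : y ∈ Subgroup.normalizer (U : Set ↥(Cfsg.Sz F m))) (hodd : ¬ 2 ∣ orderOf y) : y ∈ U := by
  have hn := (U.subgroupOf (Subgroup.normalizer (U : Set ↥(Cfsg.Sz F m)))).pow_index_mem ⟨y, hy⟩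
  rw [Subgroup.mem_subgroupOf, SubmonoidClass.coe_pow] at hn
  have hy4 : y ^ 4 ∈ U := by
    obtain ⟨d, hd⟩ := comp_index_dvd h hU hk
    generalize hj : (U.subgroupOf (Subgroup.normalizer (U : Set ↥(Cfsg.Sz F m)))).index = j at hn hd
    rw [show y ^ 4 = (y ^ j) ^ d by rw [← pow_mul, ← hd]]
    exact pow_mem hn d
  have hco : Nat.Coprime 4 (orderOf y) :=
    Nat.Coprime.pow_left 2 (Nat.prime_two.coprime_iff_not_dvd.mpr hodd)
  obtain ⟨i, hi⟩ := exists_pow_eq_self_of_coprime hco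
  exact hi ▸ pow_mem hy4 i

/-- A two-element normalising a component meets it, inside its own point stabiliser, trivially. -/
theorem US_meet {x : ↥(Cfsg.Sz F m)} (hx : x ∈ US h) (hx1 : x ≠ 1) {U : Subgroup ↥(Cfsg.Sz F m)}
    (hU : IsCyclic ↥U) (hk : Nat.card ↥U ∈ compOrders h)
    (hxN : x ∈ Subgroup.normalizer (U : Set ↥(Cfsg.Sz F m))) {c : ↥(Cfsg.Sz F m)} (hc : c ∈ U)
    (hfix : c.1 • Cfsg.suzukiPointInfinity F = Cfsg.suzukiPointInfinity F) : c = 1 := by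
  by_contra hne
  have hcard : Nat.card ↥U = 2 ^ (2 * m + 1) - 1 := by
    by_contra e
    exact ((comp_index h hU hk).2 e).1 c hc hne _ (mem_inf m) hfix
  obtain ⟨σ, hσ⟩ := ((comp_index h hU hk).1 hcard).1
  have hmem : ∀ d ∈ U, d ≠ 1 → (∀ p ∈ Cfsg.suzukiOvoid F m, d.1 • p = p →
      p = σ.1 • Cfsg.suzukiPointInfinity F ∨ p = σ.1 • pA m (0 : F) 0) ∧
      d.1 • (σ.1 • Cfsg.suzukiPointInfinity F) = σ.1 • Cfsg.suzukiPointInfinity F ∧
      d.1 • (σ.1 • pA m (0 : F) 0) = σ.1 • pA m (0 : F) 0 := by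
    intro d hd hd1
    rw [hσ] at hd
    obtain ⟨_, ⟨k, rfl⟩, rfl⟩ := hd
    have hk1 : k ≠ 1 := fun e => hd1 (by rw [e, map_one, map_one])
    refine ⟨fun p hp e => ?_, ?_, ?_⟩
    · change (σ.1 * (dS h k).1 * σ.1⁻¹) • p = p at e
      rw [mul_smul, mul_smul, smul_eq_iff_eq_inv_smul] at e
      rcases dS_fix_cases h hk1 (mem_Sz_iff.mp (σ⁻¹).2 _ hp) e with e' | e'
      · exact Or.inl (inv_smul_eq_iff.mp e')
      · exact Or.inr (inv_smul_eq_iff.mp e')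
    · show (σ.1 * (dS h k).1 * σ.1⁻¹) • _ = _
      rw [mul_smul, mul_smul, inv_smul_smul, (dS_fix_both h k).1]
    · show (σ.1 * (dS h k).1 * σ.1⁻¹) • _ = _
      rw [mul_smul, mul_smul, inv_smul_smul, (dS_fix_both h k).2]
  obtain ⟨r, hr, hrne, hall⟩ : ∃ r ∈ Cfsg.suzukiOvoid F m, r ≠ Cfsg.suzukiPointInfinity F ∧
      ∀ d ∈ U, d ≠ 1 → d.1 • r = r ∧ ∀ p ∈ Cfsg.suzukiOvoid F m, d.1 • p = p →
        p = Cfsg.suzukiPointInfinity F ∨ p = r := by
    have h1 : σ.1 • Cfsg.suzukiPointInfinity F ≠ σ.1 • pA m (0 : F) 0 := fun e =>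
      inf_ne_pA m (0 : F) 0 (MulAction.injective σ.1 e)
    rcases (hmem c hc hne).1 _ (mem_inf m) hfix with e | e
    · refine ⟨σ.1 • pA m (0 : F) 0, mem_Sz_iff.mp σ.2 _ (mem_pA m 0 0), fun e' => h1 (e.symm.trans e'.symm),
        fun d hd hd1 => ⟨(hmem d hd hd1).2.2, fun p hp hp' => ?_⟩⟩
      exact ((hmem d hd hd1).1 p hp hp').imp_left fun x => x.trans e.symm
    · refine ⟨σ.1 • Cfsg.suzukiPointInfinity F, mem_Sz_iff.mp σ.2 _ (mem_inf m), fun e' => h1 (e'.trans e),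
        fun d hd hd1 => ⟨(hmem d hd hd1).2.1, fun p hp hp' => ?_⟩⟩
      exact ((hmem d hd hd1).1 p hp hp').symm.imp_left fun x => x.trans e.symm
  obtain ⟨a, b, rfl⟩ := hx
  refine hrne (fix_unique h hx1 hr ?_)
  have hd : (uS h a b)⁻¹ * c * (uS h a b) ∈ U := (Subgroup.mem_normalizer_iff''.mp hxN c).mp hc
  obtain ⟨e1, -⟩ := hall _ hd fun e => hne (by rwa [mul_eq_one_iff_eq_inv, mul_eq_left] at e)
  change ((uSL m a b)⁻¹ * c.1 * uSL m a b) • r = r at e1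
  rw [mul_smul, mul_smul, inv_smul_eq_iff] at e1
  rcases (hall c hc hne).2 _ (mem_Sz_iff.mp (uSL_mem h a b) _ hr) e1 with e2 | e2
  · exact absurd (MulAction.injective (uSL m a b) (e2.trans (uSL_inf a b).symm)) hrne
  · exact e2

end Cfsg.Lib.Linear.Suz
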