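import Cfsg.Agent.Lib.Linear.Suzuki.SubgroupMain

/-!
# The subgroups of a Suzuki group

Every subgroup fixes a point of the ovoid, normalises a cyclic component, or is conjugate to the Suzuki
group over a subfield; the first two kinds are solvable.
-/

set_option autoImplicit false

namespace Cfsg.Lib.Linear.Suz

open scoped Matrix LinearAlgebra.Projectivization

variable {F : Type*} [Field F] [Fintype F] {m : ℕ} (h : Params F m)
include h

theorem isCyclic_sylow_of_zero {M : Subgroup ↥(Cfsg.Sz F m)} (hz : uS h 0 1 ∈ M)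
    (hS : ∀ b, uS h 0 b ∈ M ↔ Fx h 0 b) (hA : ∀ a b, uS h a b ∈ M → Fx h 0 a) (P : Sylow 2 ↥M) :
    IsCyclic ↥(P : Subgroup ↥M) := by
  haveI : Fact (Nat.Prime 2) := ⟨Nat.prime_two⟩
  have hz2 : IsPGroup 2 ↥(Subgroup.zpowers (⟨uS h 0 1, hz⟩ : ↥M)) := by
    refine IsPGroup.of_card (n := 1) ?_
    rw [Nat.card_zpowers, ← Subgroup.orderOf_coe, orderOf_uS_zero h one_ne_zero, pow_one]
  obtain ⟨Q, hQ⟩ := hz2.exists_le_sylow
  suffices IsCyclic ↥(Q : Subgroup ↥M) from (P.equiv Q).isCyclic.mpr this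
  have hzQ : (⟨uS h 0 1, hz⟩ : ↥M) ∈ (Q : Subgroup ↥M) := hQ (Subgroup.mem_zpowers _)
  have hle : (Q : Subgroup ↥M).map M.subtype ≤ US h :=
    two_group_le_US h (Q.isPGroup'.map _) ⟨_, hzQ, rfl⟩ ⟨0, 1, rfl⟩
      (fun e => one_ne_zero (uS_inj h (e.trans (uS_zero h).symm)).2)
  have hfx : ∀ x : F, Fx h 0 x → x = 0 ∨ x = 1 := fun x hx => by
    have : x * (x - 1) = 0 := by
      have e : x ^ 2 = x := hx
      linear_combination e
    exact (mul_eq_zero.mp this).imp id sub_eq_zero.mp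
  have hcoord : ∀ g : ↥M, g ∈ (Q : Subgroup ↥M) → ∃ a b, g.1 = uS h a b ∧ (a = 0 ∨ a = 1) := by
    intro g hg
    obtain ⟨a, b, e⟩ := hle ⟨g, hg, rfl⟩
    exact ⟨a, b, e, hfx a (hA a b (e ▸ g.2))⟩
  by_cases hex : ∃ u : ↥M, u ∈ (Q : Subgroup ↥M) ∧ ∃ b, u.1 = uS h 1 b
  · obtain ⟨u, huQ, b, hu⟩ := hex
    have hu2 : u ^ 2 = ⟨uS h 0 1, hz⟩ := Subtype.ext (by
      show u.1 ^ 2 = uS h 0 1
      rw [hu, sq, uS_mul h, add_self h, add_self h, th_one h, one_mul, zero_add])
    have key : ∀ g : ↥M, g ∈ (Q : Subgroup ↥M) → (∃ c, g.1 = uS h 0 c) → g ∈ Subgroup.zpowers u := by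
      rintro g hg ⟨c, hc⟩
      rcases hfx c ((hS c).mp (hc ▸ g.2)) with e | e
      · rw [show g = 1 from Subtype.ext (by rw [hc, e, uS_zero h]; rfl)]
        exact one_mem _
      · rw [show g = ⟨uS h 0 1, hz⟩ from Subtype.ext (by rw [hc, e]), ← hu2]
        exact pow_mem (Subgroup.mem_zpowers u) 2
    have hQu : (Q : Subgroup ↥M) ≤ Subgroup.zpowers u := by
      intro g hg
      obtain ⟨a, c, hc, rfl | rfl⟩ := hcoord g hg
      · exact key g hg ⟨c, hc⟩
      · have := key (g * u⁻¹) (mul_mem hg (inv_mem huQ)) ⟨_, by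
          rw [Subgroup.coe_mul, Subgroup.coe_inv, hc, hu, uS_inv h, uS_mul h, add_self h]⟩
        simpa using mul_mem this (Subgroup.mem_zpowers u)
    exact isCyclic_of_injective (Subgroup.inclusion hQu) (Subgroup.inclusion_injective hQu)
  · have hQu : (Q : Subgroup ↥M) ≤ Subgroup.zpowers (⟨uS h 0 1, hz⟩ : ↥M) := by
      intro g hg
      obtain ⟨a, c, hc, rfl | rfl⟩ := hcoord g hg
      · rcases hfx c ((hS c).mp (hc ▸ g.2)) with e | e
        · rw [show g = 1 from Subtype.ext (by rw [hc, e, uS_zero h]; rfl)]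
          exact one_mem _
        · rw [show g = ⟨uS h 0 1, hz⟩ from Subtype.ext (by rw [hc, e])]
          exact Subgroup.mem_zpowers _
      · exact absurd ⟨g, hg, c, hc⟩ hex
    exact isCyclic_of_injective (Subgroup.inclusion hQu) (Subgroup.inclusion_injective hQu)

theorem cases_of_invol {M : Subgroup ↥(Cfsg.Sz F m)} (hz : uS h 0 1 ∈ M) : CaseStd h M := by
  classical
  by_cases hnot : M ≤ MulAction.stabilizer ↥(Cfsg.Sz F m) (Cfsg.suzukiPointInfinity F)
  · exact Or.inl ⟨1, fun x hx => by simpa using hnot hx⟩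
  obtain ⟨k, hdiv, hS, hcard, hE, hA, hlift, hconj⟩ := stage_one h hz hnot
  rcases Nat.eq_zero_or_pos k with rfl | hk
  · refine zgroup_case h (fun e => ?_) (isCyclic_sylow_of_zero h hz hS hA)
    rw [e, Subgroup.mem_bot, ← uS_zero h] at hz
    exact one_ne_zero (uS_inj h hz).2
  obtain ⟨E, hEdef⟩ : ∃ E : Subgroup Fˣ, ∀ κ, κ ∈ E ↔ Fx h k (κ : F) :=
    ⟨{ carrier := {κ | Fx h k (κ : F)}
       one_mem' := fx_one h
       mul_mem' := fun {x y} hx hy => by
        show Fx h k ((x * y : Fˣ) : F)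
        rw [Units.val_mul]; exact fx_mul h hx hy
       inv_mem' := fun {x} hx => by
        show Fx h k ((x⁻¹ : Fˣ) : F)
        rw [Units.val_inv_eq_inv_val]; exact fx_inv h hx }, fun κ => Iff.rfl⟩
  obtain ⟨⟨κ, hκE⟩, hgen⟩ := IsCyclic.exists_generator (α := ↥E)
  obtain ⟨κ', hκ', hκ'1⟩ := fx_unit_ne h hk hcard
  have hκ1 : (κ : F) ≠ 1 := fun e => hκ'1 (by
    obtain ⟨i, hi⟩ := hgen ⟨κ', (hEdef _).mpr hκ'⟩
    have hh : κ = 1 := Units.ext e
    have hi' := congrArg E.subtype hi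
    rw [map_zpow] at hi'
    change κ ^ i = κ' at hi'
    rw [← hi', hh, one_zpow, Units.val_one])
  obtain ⟨a, b, hab⟩ := hlift κ ((hEdef κ).mp hκE)
  have h2 := two_eq h
  have hne1 : 1 + (κ : F) ≠ 0 := fun e => hκ1 (by linear_combination e - h2)
  have hne2 : 1 + (κ : F) * th m (κ : F) ≠ 0 := fun e =>
    mul_th_ne_one h hκ1 (by linear_combination e - h2)
  obtain ⟨X, hX⟩ : ∃ X, X = a / (1 + (κ : F)) := ⟨_, rfl⟩
  obtain ⟨Y, hY⟩ : ∃ Y, Y = (b + th m a * ((κ : F) * X)) / (1 + (κ : F) * th m (κ : F)) := ⟨_, rfl⟩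
  have hXY : uS h a b * dS h κ * uS h X Y = uS h X Y * dS h κ := by
    rw [mul_assoc, dS_mul_uS h, ← mul_assoc, uS_mul h]
    congr 2
    · rw [hX]; field_simp; linear_combination (a * (κ : F)) * h2
    · rw [eq_div_iff hne2] at hY
      linear_combination (-1 : F) * hY + ((κ : F) * th m (κ : F) * Y) * h2
  refine cases_conj h (uS h X Y)⁻¹ ?_
  obtain ⟨M', hM'⟩ : ∃ M', M' = M.map (MulAut.conj (uS h X Y)⁻¹).toMonoidHom := ⟨_, rfl⟩
  rw [← hM']
  have hmem : ∀ g, g ∈ M' ↔ uS h X Y * g * (uS h X Y)⁻¹ ∈ M := by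
    intro g
    rw [hM']
    constructor
    · rintro ⟨y, hy, rfl⟩
      show uS h X Y * ((uS h X Y)⁻¹ * y * (uS h X Y)⁻¹⁻¹) * (uS h X Y)⁻¹ ∈ M
      rwa [show uS h X Y * ((uS h X Y)⁻¹ * y * (uS h X Y)⁻¹⁻¹) * (uS h X Y)⁻¹ = y by group]
    · intro hg
      refine ⟨_, hg, ?_⟩
      show (uS h X Y)⁻¹ * (uS h X Y * g * (uS h X Y)⁻¹) * (uS h X Y)⁻¹⁻¹ = g
      group
  have hcz : ∀ c, uS h X Y * uS h 0 c * (uS h X Y)⁻¹ = uS h 0 c := fun c => by
    have := conj_ZS h X Y c 1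
    rwa [map_one, mul_one, Units.val_one, th_one h, one_mul, one_mul] at this
  have hz' : uS h 0 1 ∈ M' := by rw [hmem, hcz]; exact hz
  by_cases hnot' : M' ≤ MulAction.stabilizer ↥(Cfsg.Sz F m) (Cfsg.suzukiPointInfinity F)
  · exact Or.inl ⟨1, fun x hx => by simpa using hnot' hx⟩
  obtain ⟨k', -, hS', hcard', hE', hA', -, hconj'⟩ := stage_one h hz' hnot'
  have hFx : ∀ c, Fx h k' c ↔ Fx h k c := fun c => by rw [← hS', hmem, hcz, hS]
  obtain rfl : k' = k := by
    have : Nat.card {b : F // Fx h k' b} = Nat.card {b : F // Fx h k b} :=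
      Nat.card_congr (Equiv.subtypeEquivRight hFx)
    rw [hcard', hcard] at this
    have := Nat.pow_right_injective le_rfl this
    omega
  refine Or.inr (Or.inr ⟨k', 1, hk, hdiv, ?_⟩)
  have hd : ∀ l : Fˣ, Fx h k' (l : F) → dS h l ∈ M' := by
    intro l hl
    obtain ⟨i, hi⟩ := hgen ⟨l, (hEdef _).mpr hl⟩
    have hi' := congrArg E.subtype hi
    rw [map_zpow] at hi'
    change κ ^ i = l at hi'
    rw [← hi', map_zpow]
    refine zpow_mem ?_ i
    rw [hmem]
    rwa [← hXY, mul_inv_cancel_right]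
  have := stage_two h hk hnot' hS' hcard' hE' hA' hd hconj'
  rw [this]
  ext x
  simp

/-- Every subgroup is of one of the standard kinds. -/
theorem subgroup_cases (M : Subgroup ↥(Cfsg.Sz F m)) : CaseStd h M := by
  haveI : Fact (Nat.Prime 2) := ⟨Nat.prime_two⟩
  by_cases h2 : 2 ∣ Nat.card ↥M
  · obtain ⟨z, hz⟩ := exists_prime_orderOf_dvd_card' 2 h2
    obtain ⟨σ, hσ⟩ := involution_conj h (z := z.1) (by rw [Subgroup.orderOf_coe, hz])
    exact cases_conj h σ (cases_of_invol h ⟨z.1, z.2, hσ⟩)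
  · by_cases hne : M = ⊥
    · exact Or.inl ⟨1, fun x hx => by
        rw [hne, Subgroup.mem_bot] at hx
        rw [hx, mul_one, mul_inv_cancel]
        exact one_mem _⟩
    refine zgroup_case h hne fun P => ?_
    obtain ⟨n, hn⟩ := P.isPGroup'.exists_card_eq
    rcases n with _ | n
    · haveI : Subsingleton ↥(P : Subgroup ↥M) := (Nat.card_eq_one_iff_unique.mp (by rw [hn, pow_zero])).1
      exact isCyclic_of_subsingleton
    · exact absurd ((dvd_pow_self 2 n.succ_ne_zero).trans (hn ▸ (P : Subgroup ↥M).card_subgroup_dvd_card)) h2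

theorem stab_solvable : Group.IsSolvable
    ↥(MulAction.stabilizer ↥(Cfsg.Sz F m) (Cfsg.suzukiPointInfinity F)) := by
  classical
  haveI : Fact (Nat.Prime 2) := ⟨Nat.prime_two⟩
  obtain ⟨B, hB⟩ : ∃ B, B = MulAction.stabilizer ↥(Cfsg.Sz F m) (Cfsg.suzukiPointInfinity F) := ⟨_, rfl⟩
  rw [← hB]
  have hco : ∀ g : ↥B, ∃ x : F × F × Fˣ, g.1 = uS h x.1 x.2.1 * dS h x.2.2 := fun g => by
    obtain ⟨a, b, k, e⟩ := (mem_stab_inf_iff h).mp (hB.le g.2)
    exact ⟨(a, b, k), e⟩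
  choose co hcoe using hco
  have hinj : ∀ a b k a' b' k', uS h a b * dS h k = uS h a' b' * dS h k' → k = k' := fun a b k a' b' k' e =>
    (decomp_injective h (congrArg Subtype.val e)).2.2
  let χ : ↥B →* Fˣ := MonoidHom.mk' (fun g => (co g).2.2) fun x y => by
    have e : (x * y).1 = uS h (co x).1 (co x).2.1 * (dS h (co x).2.2 * uS h (co y).1 (co y).2.1) * dS h (co y).2.2 := by
      rw [Subgroup.coe_mul, hcoe x, hcoe y]; group
    rw [dS_mul_uS h, ← mul_assoc, mul_assoc _ (dS h _) (dS h _), ← map_mul, uS_mul h, hcoe (x * y)] at e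
    exact hinj _ _ _ _ _ _ e
  have hker : ∀ g : ↥χ.ker, g.1.1 ∈ US h := fun g => by
    have e : (co g.1).2.2 = 1 := g.2
    exact ⟨(co g.1).1, (co g.1).2.1, by rw [hcoe g.1, e, map_one, mul_one]⟩
  let ι : ↥χ.ker →* ↥(US h) :=
    { toFun := fun g => ⟨g.1.1, hker g⟩, map_one' := rfl, map_mul' := fun _ _ => rfl }
  have hι : Function.Injective ι := fun x y e =>
    Subtype.ext (Subtype.ext (congrArg (fun z : ↥(US h) => z.1) e))
  have hp : IsPGroup 2 ↥(US h) := IsPGroup.of_card (n := (2 * m + 1) * 2) (by rw [card_US h, ← pow_mul])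
  haveI := (hp.of_injective ι hι).isNilpotent
  haveI : Group.IsSolvable ↥χ.ker := IsNilpotent.to_isSolvable
  exact Group.isSolvable_of_ker_le_range χ.ker.subtype χ (by rw [Subgroup.range_subtype])

theorem comp_normalizer_solvable {U : Subgroup ↥(Cfsg.Sz F m)} (hU : IsCyclic ↥U)
    (hcard : Nat.card ↥U ∈ compOrders h) :
    Group.IsSolvable ↥(Subgroup.normalizer (U : Set ↥(Cfsg.Sz F m))) := by
  classical
  haveI := hU
  letI : CommGroup ↥U := IsCyclic.commGroup
  haveI : Group.IsSolvable (MulAut ↥U) := by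
    refine isSolvable_of_comm fun a b => ?_
    obtain ⟨g, hg⟩ := IsCyclic.exists_generator (α := ↥U)
    refine MulEquiv.ext fun x => ?_
    obtain ⟨i, hi⟩ := hg (a g)
    obtain ⟨j, hj⟩ := hg (b g)
    obtain ⟨l, hl⟩ := hg x
    change g ^ i = a g at hi
    change g ^ j = b g at hj
    change g ^ l = x at hl
    simp only [MulAut.mul_apply, ← hl, map_zpow, ← hj, ← hi, ← zpow_mul, mul_comm]
  have hker : ∀ g : ↥U.normalizerMonoidHom.ker, g.1.1 ∈ U := by
    intro g
    have hc : g.1.1 ∈ Subgroup.centralizer (U : Set ↥(Cfsg.Sz F m)) := by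
      have := g.2
      simpa [Subgroup.normalizerMonoidHom_ker, Subgroup.mem_subgroupOf] using this
    obtain ⟨⟨c, hcU⟩, hgen⟩ := IsCyclic.exists_generator (α := ↥U)
    have hc1 : c ≠ 1 := fun e => by
      have h2 := (comp_two_le h hcard).1
      have : ∀ y : ↥U, y = 1 := fun y => by
        obtain ⟨i, hi⟩ := hgen y
        rw [← hi]
        exact Subtype.ext (by simp [e])
      haveI : Subsingleton ↥U := ⟨fun x y => by rw [this x, this y]⟩
      rw [Nat.card_unique] at h2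
      omega
    have hodd : ¬ 2 ∣ orderOf c := fun h' => (comp_two_le h hcard).2 (h'.trans (Subgroup.orderOf_dvd_natCard U hcU))
    obtain ⟨U', -, -, -, huniq⟩ := comp_of_odd h hc1 hodd
    have hgc : g.1.1 ∈ Subgroup.centralizer ({c} : Set ↥(Cfsg.Sz F m)) :=
      Subgroup.mem_centralizer_singleton_iff.mpr ((Subgroup.mem_centralizer_iff.mp hc c hcU).symm)
    rcases cases_centralizer h hc1 with ⟨h4, -⟩ | ⟨hCc, hCk⟩
    · have hd := Nat.dvd_gcd (Subgroup.orderOf_dvd_natCard U hcU) (orderOf_dvd_of_pow_eq_one h4)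
      have hco : Nat.Coprime (Nat.card ↥U) (2 ^ 2) := Nat.Coprime.pow_right _
        (Nat.prime_two.coprime_iff_not_dvd.mpr (comp_two_le h hcard).2).symm
      rw [show (Nat.card ↥U).gcd 4 = 1 from hco, Nat.dvd_one, orderOf_eq_one_iff] at hd
      exact absurd hd hc1
    · exact ((huniq _ hCc hCk (Subgroup.mem_centralizer_singleton_iff.mpr rfl)).trans
        (huniq U hU hcard hcU).symm).le hgc
  let ι : ↥U.normalizerMonoidHom.ker →* ↥U :=
    { toFun := fun g => ⟨g.1.1, hker g⟩, map_one' := rfl, map_mul' := fun _ _ => rfl }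
  have hι : Function.Injective ι := fun x y e =>
    Subtype.ext (Subtype.ext (congrArg (fun z : ↥U => z.1) e))
  haveI : Group.IsSolvable ↥U := isSolvable_of_comm fun a b => mul_comm a b
  haveI : Group.IsSolvable ↥U.normalizerMonoidHom.ker := Group.isSolvable_of_isSolvable_injective hι
  exact Group.isSolvable_of_ker_le_range U.normalizerMonoidHom.ker.subtype U.normalizerMonoidHom (by rw [Subgroup.range_subtype])

/-- A non-solvable subgroup is the Suzuki group over a subfield, up to conjugation. -/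
theorem subgroup_nonsolvable {M : Subgroup ↥(Cfsg.Sz F m)} (hM : ¬ Group.IsSolvable ↥M) :
    ∃ (k : ℕ) (g : ↥(Cfsg.Sz F m)), 1 ≤ k ∧ 2 * k + 1 ∣ 2 * m + 1 ∧
      M = (SubG h k).map (MulAut.conj g).toMonoidHom := by
  rcases subgroup_cases h M with ⟨g, hg⟩ | ⟨U, hU, hcard, hle⟩ | hc
  · exfalso
    haveI := stab_solvable h
    let ι : ↥M →* ↥(MulAction.stabilizer ↥(Cfsg.Sz F m) (Cfsg.suzukiPointInfinity F)) :=
      MonoidHom.mk' (fun x => ⟨g * x.1 * g⁻¹, hg _ x.2⟩) fun x y => Subtype.ext (by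
        simp only [Subgroup.coe_mul]; group)
    refine hM (Group.isSolvable_of_isSolvable_injective (f := ι) fun x y e => Subtype.ext ?_)
    exact mul_left_cancel (mul_right_cancel
      (congrArg (fun z : ↥(MulAction.stabilizer ↥(Cfsg.Sz F m) (Cfsg.suzukiPointInfinity F)) => z.1) e))
  · exfalso
    haveI := comp_normalizer_solvable h hU hcard
    exact hM (Group.isSolvable_of_isSolvable_injective (Subgroup.inclusion_injective hle))
  · exact hc

end Cfsg.Lib.Linear.Suz
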