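import Cfsg.Agent.Lib.Linear.Suzuki.Simple

/-!
# The Sylow normaliser and the action on its cosets, for a group isomorphic to a Suzuki group
-/

set_option autoImplicit false

namespace Cfsg.Lib.Linear.Suz

open scoped Matrix LinearAlgebra.Projectivization

variable {F : Type*} [Field F] [Fintype F] {m : ℕ} (h : Params F m)
include h

theorem card_ovoid : Nat.card ↥(Cfsg.suzukiOvoid F m) = (2 ^ (2 * m + 1)) ^ 2 + 1 := by
  classical
  let f : Option (F × F) → ↥(Cfsg.suzukiOvoid F m) := fun o => match o with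
    | none => ⟨_, mem_inf m⟩
    | some z => ⟨_, mem_pA m z.1 z.2⟩
  have hb : Function.Bijective f := by
    refine ⟨fun a b e => ?_, ?_⟩
    · have e' := congrArg Subtype.val e
      rcases a with _ | z <;> rcases b with _ | w
      · rfl
      · exact absurd e' (inf_ne_pA m _ _)
      · exact absurd e'.symm (inf_ne_pA m _ _)
      · obtain ⟨e1, e2⟩ := pA_injective e'
        exact congrArg some (Prod.ext e1 e2)
    · rintro ⟨p, hp⟩
      rcases mem_ovoid_iff.mp hp with rfl | ⟨x, y, rfl⟩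
      exacts [⟨none, rfl⟩, ⟨some (x, y), rfl⟩]
  rw [← Nat.card_eq_of_bijective f hb, Nat.card_eq_fintype_card, Fintype.card_option,
    Fintype.card_prod, h.card, sq]

theorem card_Sz' : Nat.card ↥(Cfsg.Sz F m) =
    (2 ^ (2 * m + 1)) ^ 2 * ((2 ^ (2 * m + 1)) ^ 2 + 1) * (2 ^ (2 * m + 1) - 1) := by
  rw [card_Sz h, card_ovoid h]
  ring

theorem is_zassenhaus : Cfsg.IsZassenhausGroup ↥(Cfsg.Sz F m) ↥(Cfsg.suzukiOvoid F m) := by
  obtain ⟨k, hk0, hk1⟩ := exists_ne_zero_one h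
  obtain ⟨κ, hκ⟩ : ∃ κ : Fˣ, (κ : F) = k := ⟨Units.mk0 k hk0, rfl⟩
  have hκ1 : dS h κ ≠ 1 := fun e => hk1 (by
    have := dHom_injective (F := F) (m := m) ((congrArg Subtype.val e).trans (map_one (dHom F m)).symm)
    rw [← hκ, this, Units.val_one])
  have hfix : ∀ g : ↥(Cfsg.Sz F m), ∀ a b c : ↥(Cfsg.suzukiOvoid F m), a ≠ b → b ≠ c → a ≠ c →
      g.1 • a.1 = a.1 → g.1 • b.1 = b.1 → g.1 • c.1 = c.1 → g = 1 := by
    intro g a b c hab hbc hac ha hb hc
    obtain ⟨σ, hσa, hσb⟩ := to_inf_zero h a.2 b.2 (fun e => hab (Subtype.ext e))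
    obtain ⟨x, y, hσc⟩ := (mem_ovoid_iff.mp (mem_Sz_iff.mp σ.2 _ c.2)).resolve_left fun e =>
      hac (Subtype.ext (MulAction.injective σ.1 (hσa.trans e.symm)))
    have hxy : x ≠ 0 ∨ y ≠ 0 := by
      by_contra hcon
      push Not at hcon
      obtain ⟨rfl, rfl⟩ := hcon
      exact hbc (Subtype.ext (MulAction.injective σ.1 (hσb.trans hσc.symm)))
    have hc' : ∀ p : ℙ F (Fin 4 → F), g.1 • p = p → (σ * g * σ⁻¹).1 • (σ.1 • p) = σ.1 • p := fun p hp => by
      show (σ.1 * g.1 * σ.1⁻¹) • (σ.1 • p) = σ.1 • p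
      rw [mul_smul, inv_smul_smul, mul_smul, hp]
    have := eq_one_of_fixed h (g := σ * g * σ⁻¹) (by rw [← hσa]; exact hc' _ ha)
      (by rw [← hσb]; exact hc' _ hb) hxy (by rw [← hσc]; exact hc' _ hc)
    rwa [mul_inv_eq_one, mul_eq_left] at this
  refine ⟨⟨fun {g g'} e => ?_⟩, ?_, ?_, ?_, ?_⟩
  · have e' : ∀ p : ↥(Cfsg.suzukiOvoid F m), (g'⁻¹ * g).1 • p.1 = p.1 := fun p => by
      show (g'.1⁻¹ * g.1) • p.1 = p.1
      rw [mul_smul, inv_smul_eq_iff]
      exact congrArg Subtype.val (e p)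
    have := eq_one_of_fixed h (e' ⟨_, mem_inf m⟩) (e' ⟨_, mem_pA m 0 0⟩) (x := 1) (y := 0)
      (Or.inl one_ne_zero) (e' ⟨_, mem_pA m 1 0⟩)
    exact (inv_mul_eq_one.mp this).symm
  · rw [MulAction.is_two_pretransitive_iff]
    intro a b c d hab hcd
    obtain ⟨σ, hσa, hσb⟩ := to_inf_zero h a.2 b.2 (fun e => hab (Subtype.ext e))
    obtain ⟨τ, hτc, hτd⟩ := to_inf_zero h c.2 d.2 (fun e => hcd (Subtype.ext e))
    refine ⟨τ⁻¹ * σ, Subtype.ext ?_, Subtype.ext ?_⟩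
    · show (τ.1⁻¹ * σ.1) • a.1 = c.1
      rw [mul_smul, hσa, ← hτc, inv_smul_smul]
    · show (τ.1⁻¹ * σ.1) • b.1 = d.1
      rw [mul_smul, hσb, ← hτd, inv_smul_smul]
  · exact fun g a b c hab hbc hac ha hb hc => hfix g a b c hab hbc hac (congrArg Subtype.val ha)
      (congrArg Subtype.val hb) (congrArg Subtype.val hc)
  · refine ⟨dS h κ, hκ1, ⟨_, mem_inf m⟩, ⟨_, mem_pA m 0 0⟩, fun e => inf_ne_pA m _ _ (congrArg Subtype.val e),
      Subtype.ext (dHom_inf κ), Subtype.ext ?_⟩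
    show dHom F m κ • pA m (0 : F) 0 = pA m 0 0
    rw [dHom_pA h, mul_zero, mul_zero]
  · intro N hN hT
    by_cases hne : N = ⊥
    · exfalso
      subst hne
      obtain ⟨⟨n, hn⟩, hn'⟩ := hT.exists_smul_eq (⟨_, mem_inf m⟩ : ↥(Cfsg.suzukiOvoid F m)) ⟨_, mem_pA m 0 0⟩
      rw [Subgroup.mem_bot] at hn
      subst hn
      have e := congrArg Subtype.val hn'
      change (1 : Matrix.SpecialLinearGroup (Fin 4) F) • Cfsg.suzukiPointInfinity F = pA m (0 : F) 0 at e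
      rw [one_smul] at e
      exact inf_ne_pA m _ _ e
    · refine ⟨⟨_, mem_inf m⟩, fun e => hκ1 ?_⟩
      have hk : dS h κ ∈ N := by rw [normal_eq_top h N hN hne]; trivial
      have : (⟨dS h κ, hk⟩ : N) ∈ (⊥ : Subgroup N) := e ▸ Subtype.ext (dHom_inf κ)
      exact congrArg Subtype.val (Subgroup.mem_bot.mp this)

theorem sylow_data {H : Type*} [Group H] (π : H ≃* ↥(Cfsg.Sz F m)) :
    Nat.card H = (2 ^ (2 * m + 1)) ^ 2 * (2 ^ (2 * m + 1) - 1) * ((2 ^ (2 * m + 1)) ^ 2 + 1) ∧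
    ∃ S : Sylow 2 H,
      Nat.card (Subgroup.normalizer ((S : Subgroup H) : Set H)) = (2 ^ (2 * m + 1)) ^ 2 * (2 ^ (2 * m + 1) - 1) ∧
      (Subgroup.normalizer ((S : Subgroup H) : Set H)).index = (2 ^ (2 * m + 1)) ^ 2 + 1 ∧
      MulAction.IsMultiplyPretransitive H (H ⧸ Subgroup.normalizer ((S : Subgroup H) : Set H)) 2 ∧
      ∀ x y : H ⧸ Subgroup.normalizer ((S : Subgroup H) : Set H),
        x ≠ (QuotientGroup.mk 1) → y ≠ (QuotientGroup.mk 1) → ∃! s : ↥(S : Subgroup H), (s : H) • x = y := by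
  classical
  haveI : Fact (Nat.Prime 2) := ⟨Nat.prime_two⟩
  haveI : Finite H := Finite.of_equiv _ π.symm.toEquiv
  have hcard : Nat.card H = (2 ^ (2 * m + 1)) ^ 2 * (2 ^ (2 * m + 1) - 1) * ((2 ^ (2 * m + 1)) ^ 2 + 1) := by
    rw [Nat.card_congr π.toEquiv, card_Sz' h]; ring
  refine ⟨hcard, ?_⟩
  obtain ⟨B, hB⟩ : ∃ B : Subgroup H, B = (MulAction.stabilizer ↥(Cfsg.Sz F m)
      (Cfsg.suzukiPointInfinity F)).comap π.toMonoidHom := ⟨_, rfl⟩
  obtain ⟨U, hU⟩ : ∃ U : Subgroup H, U = (US h).comap π.toMonoidHom := ⟨_, rfl⟩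
  have hmemB : ∀ g : H, g ∈ B ↔ (π g).1 • Cfsg.suzukiPointInfinity F = Cfsg.suzukiPointInfinity F := fun g => by
    rw [hB]; exact Iff.rfl
  have hmemU : ∀ g : H, g ∈ U ↔ ∃ a b, π g = uS h a b := fun g => by rw [hU]; exact Iff.rfl
  have hBcard : Nat.card ↥B = (2 ^ (2 * m + 1)) ^ 2 * (2 ^ (2 * m + 1) - 1) := by
    rw [hB, ← card_stab_inf h]
    exact Nat.card_congr (π.toEquiv.subtypeEquiv fun _ => Iff.rfl)
  have hUcard : Nat.card ↥U = (2 ^ (2 * m + 1)) ^ 2 := by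
    rw [hU, ← card_US h]
    exact Nat.card_congr (π.toEquiv.subtypeEquiv fun _ => Iff.rfl)
  have hp : IsPGroup 2 ↥U := IsPGroup.of_card (n := (2 * m + 1) * 2) (by rw [hUcard, ← pow_mul])
  have hodd : ¬ 2 ∣ U.index := by
    have hc := U.index_mul_card
    rw [hcard, hUcard] at hc
    have hi : U.index = ((2 ^ (2 * m + 1)) ^ 2 + 1) * (2 ^ (2 * m + 1) - 1) :=
      Nat.eq_of_mul_eq_mul_right (by positivity) (hc.trans (by ring))
    rw [hi, Nat.prime_two.dvd_mul]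
    have he : 2 ∣ 2 ^ (2 * m + 1) := dvd_pow_self 2 (by omega)
    have hpos : 1 ≤ 2 ^ (2 * m + 1) := Nat.one_le_two_pow
    have he2 : 2 ∣ (2 ^ (2 * m + 1)) ^ 2 := dvd_pow he two_ne_zero
    rintro (h' | h') <;> omega
  obtain ⟨S, hS⟩ : ∃ S : Sylow 2 H, (S : Subgroup H) = U := ⟨hp.toSylow hodd, IsPGroup.toSylow_coe _ _⟩
  have hN : Subgroup.normalizer ((S : Subgroup H) : Set H) = B := by
    rw [hS]
    refine le_antisymm (fun g hg => ?_) (fun g hg => ?_)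
    · rw [hmemB]
      by_contra hne
      obtain ⟨x, y, hxy⟩ := (mem_ovoid_iff.mp (mem_Sz_iff.mp (π g).2 _ (mem_inf m))).resolve_left hne
      have hu : π.symm (uS h 1 0) ∈ U := (hmemU _).mpr ⟨1, 0, π.apply_symm_apply _⟩
      obtain ⟨a, b, hab⟩ := (hmemU _).mp ((Subgroup.mem_normalizer_iff''.mp hg _).mp hu)
      rw [map_mul, map_mul, map_inv, π.apply_symm_apply] at hab
      have e : ((π g).1⁻¹ * uSL m (1 : F) 0 * (π g).1) • Cfsg.suzukiPointInfinity F =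
          Cfsg.suzukiPointInfinity F := by
        rw [show (π g).1⁻¹ * uSL m (1 : F) 0 * (π g).1 = uSL m a b from congrArg Subtype.val hab, uSL_inf]
      rw [mul_smul, mul_smul, hxy, uSL_pA h, inv_smul_eq_iff, hxy] at e
      exact one_ne_zero (add_eq_left.mp (pA_injective e).1)
    · obtain ⟨a, b, k, e⟩ := (mem_stab_inf_iff h).mp (show π g ∈ MulAction.stabilizer ↥(Cfsg.Sz F m)
        (Cfsg.suzukiPointInfinity F) from (hmemB g).mp hg)
      have hd : ∀ (k : Fˣ) (a' b' : F), ∃ c d, dS h k * uS h a' b' * (dS h k)⁻¹ = uS h c d := fun k a' b' =>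
        ⟨_, _, by rw [dS_mul_uS h, mul_inv_cancel_right]⟩
      have hu : ∀ (a b a' b' : F), ∃ c d, uS h a b * uS h a' b' * (uS h a b)⁻¹ = uS h c d := fun a b a' b' =>
        ⟨_, _, by rw [uS_inv h, uS_mul h, uS_mul h]⟩
      refine Subgroup.mem_normalizer_fintype fun n hn => ?_
      obtain ⟨a', b', hn'⟩ := (hmemU n).mp hn
      obtain ⟨c, d, hcd⟩ := hd k a' b'
      obtain ⟨c', d', hcd'⟩ := hu a b c d
      refine (hmemU _).mpr ⟨c', d', ?_⟩
      rw [map_mul, map_mul, map_inv, hn', e, ← hcd', ← hcd]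
      group
  refine ⟨S, ?_⟩
  rw [hN]
  have hidx : B.index = (2 ^ (2 * m + 1)) ^ 2 + 1 := by
    have hc := B.index_mul_card
    rw [hcard, hBcard] at hc
    have hq : 1 < 2 ^ (2 * m + 1) := Nat.one_lt_two_pow (by omega)
    exact Nat.eq_of_mul_eq_mul_right (Nat.mul_pos (by positivity) (by omega)) (hc.trans (by ring))
  obtain ⟨φ, hφ⟩ : ∃ φ : H ⧸ B → ℙ F (Fin 4 → F), ∀ g : H,
      φ (QuotientGroup.mk g) = (π g).1 • Cfsg.suzukiPointInfinity F := by
    refine ⟨Quotient.lift (fun g => (π g).1 • Cfsg.suzukiPointInfinity F) fun g g' e => ?_, fun g => rfl⟩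
    have e' := (hmemB _).mp (QuotientGroup.leftRel_apply.mp e)
    rw [map_mul, map_inv] at e'
    change ((π g).1⁻¹ * (π g').1) • _ = _ at e'
    rw [mul_smul, inv_smul_eq_iff] at e'
    exact e'.symm
  have hsm : ∀ (g : H) (x : H ⧸ B), φ (g • x) = (π g).1 • φ x := fun g x => by
    obtain ⟨z, rfl⟩ := QuotientGroup.mk_surjective x
    rw [MulAction.Quotient.smul_mk, hφ, hφ, smul_eq_mul, map_mul, Subgroup.coe_mul, mul_smul]
  have hinj : Function.Injective φ := fun x y e => by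
    obtain ⟨z, rfl⟩ := QuotientGroup.mk_surjective x
    obtain ⟨w, rfl⟩ := QuotientGroup.mk_surjective y
    rw [hφ, hφ] at e
    refine QuotientGroup.eq.mpr ((hmemB _).mpr ?_)
    rw [map_mul, map_inv]
    show ((π z).1⁻¹ * (π w).1) • _ = _
    rw [mul_smul, ← e, inv_smul_smul]
  have hmem : ∀ x : H ⧸ B, φ x ∈ Cfsg.suzukiOvoid F m := fun x => by
    obtain ⟨z, rfl⟩ := QuotientGroup.mk_surjective x
    rw [hφ]
    exact mem_Sz_iff.mp (π z).2 _ (mem_inf m)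
  refine ⟨hBcard, hidx, ?_, fun x y hx hy => ?_⟩
  · rw [MulAction.is_two_pretransitive_iff]
    intro a b c d hab hcd
    obtain ⟨σ, hσa, hσb⟩ := to_inf_zero h (hmem a) (hmem b) (hinj.ne hab)
    obtain ⟨τ, hτc, hτd⟩ := to_inf_zero h (hmem c) (hmem d) (hinj.ne hcd)
    refine ⟨π.symm (τ⁻¹ * σ), hinj ?_, hinj ?_⟩
    · rw [hsm, π.apply_symm_apply]
      show (τ.1⁻¹ * σ.1) • φ a = φ c
      rw [mul_smul, hσa, ← hτc, inv_smul_smul]
    · rw [hsm, π.apply_symm_apply]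
      show (τ.1⁻¹ * σ.1) • φ b = φ d
      rw [mul_smul, hσb, ← hτd, inv_smul_smul]
  · have h1 : φ (QuotientGroup.mk (1 : H)) = Cfsg.suzukiPointInfinity F := by
      rw [hφ, map_one]; exact one_smul _ _
    obtain ⟨a, b, hab⟩ := (mem_ovoid_iff.mp (hmem x)).resolve_left fun e => hx (hinj (e.trans h1.symm))
    obtain ⟨c, d, hcd⟩ := (mem_ovoid_iff.mp (hmem y)).resolve_left fun e => hy (hinj (e.trans h1.symm))
    obtain ⟨p, r, hpr⟩ : ∃ p r, a + p = c ∧ b + th m p * a + r = d :=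
      ⟨c - a, d - b - th m (c - a) * a, by ring, by ring⟩
    have hs : π.symm (uS h p r) ∈ (S : Subgroup H) := by
      rw [hS]; exact (hmemU _).mpr ⟨p, r, π.apply_symm_apply _⟩
    refine ⟨⟨_, hs⟩, hinj ?_, ?_⟩
    · rw [hsm, π.apply_symm_apply, hab, hcd]
      show uSL m p r • pA m a b = pA m c d
      rw [uSL_pA h, hpr.1, hpr.2]
    · rintro ⟨s, hs'⟩ e
      obtain ⟨p', r', he⟩ := (hmemU s).mp (hS ▸ hs')
      have e' := congrArg φ e
      rw [hsm, he, hab, hcd] at e'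
      change uSL m p' r' • pA m a b = pA m c d at e'
      rw [uSL_pA h] at e'
      obtain ⟨e1, e2⟩ := pA_injective e'
      have hp' : p' = p := by linear_combination e1 - hpr.1
      subst hp'
      have hr' : r' = r := by linear_combination e2 - hpr.2
      subst hr'
      exact Subtype.ext ((π.eq_symm_apply).mpr he)

end Cfsg.Lib.Linear.Suz
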