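import Cfsg.Agent.Lib.Linear.Suzuki.Simple

/-!
# Subgroups above a Sylow two-subgroup of a Suzuki group
-/

set_option autoImplicit false

namespace Cfsg.Lib.Linear.Suz

open scoped Matrix LinearAlgebra.Projectivization

variable {F : Type*} [Field F] [Fintype F] {m : ℕ} (h : Params F m)
include h

theorem sylow_conj (P : Sylow 2 ↥(Cfsg.Sz F m)) :
    ∃ g : ↥(Cfsg.Sz F m), (P : Subgroup ↥(Cfsg.Sz F m)) = (US h).map (MulAut.conj g).toMonoidHom := by
  haveI : Fact (Nat.Prime 2) := ⟨Nat.prime_two⟩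
  have hp : IsPGroup 2 ↥(US h) := IsPGroup.of_card (n := (2 * m + 1) * 2) (by rw [card_US h, ← pow_mul])
  obtain ⟨Q, hQ⟩ := hp.exists_le_sylow
  obtain ⟨e⟩ := sylow_two_equiv h Q
  have hQ' : US h = (Q : Subgroup ↥(Cfsg.Sz F m)) :=
    Subgroup.eq_of_le_of_card_ge hQ (Nat.card_congr e.toEquiv).le
  obtain ⟨g, hg⟩ := MulAction.exists_smul_eq ↥(Cfsg.Sz F m) Q P
  refine ⟨g, ?_⟩
  rw [← hg, hQ']
  rfl

theorem fix_unique {a b : F} (hne : uS h a b ≠ 1) {p : ℙ F (Fin 4 → F)} (hp : p ∈ Cfsg.suzukiOvoid F m)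
    (e : uSL m a b • p = p) : p = Cfsg.suzukiPointInfinity F := by
  rcases mem_ovoid_iff.mp hp with rfl | ⟨x, y, rfl⟩
  · rfl
  · rw [uSL_pA h] at e
    obtain ⟨e1, e2⟩ := pA_injective e
    have ha : a = 0 := add_eq_left.mp e1
    subst ha
    rw [th_zero h, zero_mul, add_zero] at e2
    have hb : b = 0 := add_eq_left.mp e2
    subst hb
    exact absurd (uS_zero h) hne

theorem stab_normalizes {g : ↥(Cfsg.Sz F m)}
    (hg : g ∈ MulAction.stabilizer ↥(Cfsg.Sz F m) (Cfsg.suzukiPointInfinity F)) {u : ↥(Cfsg.Sz F m)}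
    (hu : u ∈ US h) : g * u * g⁻¹ ∈ US h := by
  obtain ⟨a, b, k, rfl⟩ := (mem_stab_inf_iff h).mp hg
  obtain ⟨a', b', rfl⟩ := hu
  have e : uS h a b * dS h k * uS h a' b' * (uS h a b * dS h k)⁻¹ =
      uS h a b * uS h ((k : F) * a') ((k : F) * th m (k : F) * b') * (uS h a b)⁻¹ := by
    rw [mul_assoc (uS h a b) (dS h k), dS_mul_uS h]; group
  rw [e, uS_inv h, uS_mul h, uS_mul h]
  exact ⟨_, _, rfl⟩

theorem conj_mem_stab {g u v : ↥(Cfsg.Sz F m)} (hu : u ∈ US h) (hv : v ∈ US h) (hne : u ≠ 1)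
    (e : g * u * g⁻¹ = v) : g ∈ MulAction.stabilizer ↥(Cfsg.Sz F m) (Cfsg.suzukiPointInfinity F) := by
  obtain ⟨a, b, rfl⟩ := hu
  obtain ⟨c, d, rfl⟩ := hv
  refine fix_unique h (a := c) (b := d) (fun h1 => hne ?_) (mem_Sz_iff.mp g.2 _ (mem_inf m)) ?_
  · rwa [h1, mul_inv_eq_one, mul_eq_left] at e
  · show uSL m c d • (g.1 • Cfsg.suzukiPointInfinity F) = g.1 • Cfsg.suzukiPointInfinity F
    rw [← show g.1 * uSL m a b * g.1⁻¹ = uSL m c d from congrArg Subtype.val e, mul_smul, mul_smul,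
      inv_smul_smul, uSL_inf]

theorem normalizer_US : Subgroup.normalizer ((US h) : Set ↥(Cfsg.Sz F m)) =
    MulAction.stabilizer ↥(Cfsg.Sz F m) (Cfsg.suzukiPointInfinity F) := by
  refine le_antisymm (fun g hg => ?_) fun g hg => Subgroup.mem_normalizer_fintype fun n hn =>
    stab_normalizes h hg hn
  have hu : uS h 1 0 ∈ US h := ⟨1, 0, rfl⟩
  refine conj_mem_stab h hu ((Subgroup.mem_normalizer_iff.mp hg _).mp hu) (fun e => ?_) rfl
  rw [← uS_zero h] at e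
  exact one_ne_zero (uS_inj h e).1

theorem wS_mul_self : wS h * wS h = 1 := Subtype.ext (Subtype.ext (by
  show wM F * wM F = 1
  ext i j
  fin_cases i <;> fin_cases j <;>
    simp [wM, Matrix.mul_apply, Matrix.vecMul, dotProduct, Fin.sum_univ_four]))

theorem eq_top_of_US_wS {M : Subgroup ↥(Cfsg.Sz F m)} (hU : US h ≤ M)
    (hW : ∀ u ∈ US h, wS h * u * (wS h)⁻¹ ∈ M) : M = ⊤ := by
  obtain ⟨N, hN⟩ : ∃ N, N = US h ⊔ (US h).map (MulAut.conj (wS h)).toMonoidHom := ⟨_, rfl⟩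
  have hNM : N ≤ M := by
    rw [hN, sup_le_iff, Subgroup.map_le_iff_le_comap]
    exact ⟨hU, fun u hu => hW u hu⟩
  have hwi : (wS h)⁻¹ = wS h := inv_eq_of_mul_eq_one_right (wS_mul_self h)
  have hl : ∀ u ∈ US h, u ∈ N := fun u hu => hN ▸ Subgroup.mem_sup_left hu
  have hr : ∀ u ∈ US h, wS h * u * (wS h)⁻¹ ∈ N := fun u hu =>
    hN ▸ Subgroup.mem_sup_right ⟨u, hu, rfl⟩
  have key : ∀ g : ↥(Cfsg.Sz F m), (∀ u ∈ US h, g * u * g⁻¹ ∈ N) →
      (∀ u ∈ US h, g * (wS h * u * (wS h)⁻¹) * g⁻¹ ∈ N) → g ∈ Subgroup.normalizer (N : Set _) := by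
    intro g h1 h2
    refine Subgroup.mem_normalizer_fintype fun n hn => ?_
    have : N ≤ N.comap (MulAut.conj g).toMonoidHom := by
      conv_lhs => rw [hN]
      rw [sup_le_iff, Subgroup.map_le_iff_le_comap]
      exact ⟨fun u hu => h1 u hu, fun u hu => h2 u hu⟩
    exact this hn
  have hnorm : Subgroup.normalizer (N : Set ↥(Cfsg.Sz F m)) = ⊤ := by
    refine eq_top_of_gens h _ (fun a b => Subgroup.le_normalizer (hl _ ⟨a, b, rfl⟩)) (fun k => ?_) ?_
    · have hs : ∀ l : Fˣ, dS h l ∈ MulAction.stabilizer ↥(Cfsg.Sz F m) (Cfsg.suzukiPointInfinity F) :=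
        fun l => dHom_inf l
      refine key _ (fun u hu => hl _ (stab_normalizes h (hs k) hu)) fun u hu => ?_
      have e : dS h k * (wS h * u * (wS h)⁻¹) * (dS h k)⁻¹ =
          wS h * (dS h k⁻¹ * u * (dS h k⁻¹)⁻¹) * (wS h)⁻¹ := by
        have hw' : dS h k * wS h = wS h * dS h k⁻¹ := by rw [wS_conj h, inv_inv]
        calc dS h k * (wS h * u * (wS h)⁻¹) * (dS h k)⁻¹
            = (dS h k * wS h) * u * (dS h k * wS h)⁻¹ := by group
          _ = _ := by rw [hw']; group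
      rw [e]
      exact hr _ (stab_normalizes h (hs _) hu)
    · refine key _ (fun u hu => hr u hu) fun u hu => ?_
      rw [show wS h * (wS h * u * (wS h)⁻¹) * (wS h)⁻¹ = (wS h * wS h) * u * ((wS h)⁻¹ * (wS h)⁻¹) by group,
        hwi, wS_mul_self h, one_mul, mul_one]
      exact hl u hu
  have hne : N ≠ ⊥ := fun e => by
    have hu : uS h 1 0 ∈ (⊥ : Subgroup ↥(Cfsg.Sz F m)) := e ▸ hl _ ⟨1, 0, rfl⟩
    rw [Subgroup.mem_bot, ← uS_zero h] at hu
    exact one_ne_zero (uS_inj h hu).1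
  rw [eq_top_iff, ← normal_eq_top h N (Subgroup.normalizer_eq_top_iff.mp hnorm) hne]
  exact hNM

/-- A subgroup containing a Sylow two-subgroup lies in the point stabiliser or is everything. -/
theorem overgroup_US {M : Subgroup ↥(Cfsg.Sz F m)} (hU : US h ≤ M) :
    M ≤ MulAction.stabilizer ↥(Cfsg.Sz F m) (Cfsg.suzukiPointInfinity F) ∨ M = ⊤ := by
  refine or_iff_not_imp_left.mpr fun hnot => ?_
  obtain ⟨g, hg, hgi⟩ := Set.not_subset.mp hnot
  obtain ⟨x, y, hxy⟩ := (mem_ovoid_iff.mp (mem_Sz_iff.mp g.2 _ (mem_inf m))).resolve_left hgi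
  obtain ⟨g', hg'⟩ : ∃ g', g' = (uS h x y)⁻¹ * g := ⟨_, rfl⟩
  have hg'M : g' ∈ M := hg' ▸ mul_mem (inv_mem (hU ⟨x, y, rfl⟩)) hg
  have hb : (wS h)⁻¹ * g' ∈ MulAction.stabilizer ↥(Cfsg.Sz F m) (Cfsg.suzukiPointInfinity F) := by
    rw [hg']
    show ((wSL F)⁻¹ * ((uSL m x y)⁻¹ * g.1)) • Cfsg.suzukiPointInfinity F = Cfsg.suzukiPointInfinity F
    rw [mul_smul, mul_smul, hxy, inv_smul_eq_iff, inv_smul_eq_iff, wSL_inf h, uSL_zero_pt h]
  refine eq_top_of_US_wS h hU fun u hu => ?_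
  have := mul_mem (mul_mem hg'M (hU (stab_normalizes h (inv_mem hb) hu))) (inv_mem hg'M)
  simpa [mul_assoc] using this

theorem stab_inf_isCoatom :
    IsCoatom (MulAction.stabilizer ↥(Cfsg.Sz F m) (Cfsg.suzukiPointInfinity F)) := by
  refine ⟨fun e => ?_, fun M hM => ?_⟩
  · have : wS h ∈ MulAction.stabilizer ↥(Cfsg.Sz F m) (Cfsg.suzukiPointInfinity F) := by
      rw [e]; trivial
    change wSL F • Cfsg.suzukiPointInfinity F = Cfsg.suzukiPointInfinity F at this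
    rw [wSL_inf h] at this
    exact inf_ne_pA m _ _ this.symm
  · refine (overgroup_US h ?_).resolve_left hM.not_ge
    rintro _ ⟨a, b, rfl⟩
    exact hM.le (uSL_inf a b)

theorem mul_th_surjective (c : F) : ∃ l : F, l * th m l = c := by
  refine (Finite.injective_iff_surjective.mp ?_) c
  intro x y e
  dsimp only at e
  by_cases hy : y = 0
  · subst hy
    rw [zero_mul] at e
    rcases mul_eq_zero.mp e with e' | e'
    exacts [e', (th_eq_zero h).mp e']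
  · by_contra hne
    refine mul_th_ne_one h (k := x / y) (fun e1 => hne ((div_eq_one_iff_eq hy).mp e1)) ?_
    rw [div_eq_mul_inv, th_mul h, th_inv h, show x * y⁻¹ * (th m x * (th m y)⁻¹) =
      (x * th m x) * (y * th m y)⁻¹ by rw [mul_inv]; ring, e,
      mul_inv_cancel₀ (mul_ne_zero hy fun e' => hy ((th_eq_zero h).mp e'))]

theorem exists_two_generators : ∃ a b : ↥(Cfsg.Sz F m),
    Subgroup.closure ({a, b} : Set ↥(Cfsg.Sz F m)) = ⊤ := by
  obtain ⟨κ, hκ⟩ := IsCyclic.exists_generator (α := Fˣ)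
  refine ⟨dS h κ, uS h 1 0 * wS h, ?_⟩
  obtain ⟨M, hM⟩ : ∃ M, M = Subgroup.closure ({dS h κ, uS h 1 0 * wS h} : Set ↥(Cfsg.Sz F m)) := ⟨_, rfl⟩
  rw [← hM]
  have hd : ∀ k, dS h k ∈ M := fun k => by
    obtain ⟨n, rfl⟩ := hκ k
    rw [map_zpow, hM]
    exact zpow_mem (Subgroup.subset_closure (by simp)) n
  have hb : uS h 1 0 * wS h ∈ M := hM ▸ Subgroup.subset_closure (by simp)
  obtain ⟨k, hk0, hk1⟩ := exists_ne_zero_one h
  obtain ⟨l, hl⟩ : ∃ l : Fˣ, (l : F) = k := ⟨Units.mk0 k hk0, rfl⟩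
  have h1 : uS h 1 0 * wS h * dS h l⁻¹ * (uS h 1 0 * wS h)⁻¹ * (dS h l)⁻¹ ∈ M :=
    mul_mem (mul_mem (mul_mem hb (hd _)) (inv_mem hb)) (inv_mem (hd _))
  obtain ⟨c, hc⟩ : ∃ c, uS h 1 0 * wS h * dS h l⁻¹ * (uS h 1 0 * wS h)⁻¹ * (dS h l)⁻¹ = uS h (1 + k) c := by
    have e : uS h 1 0 * wS h * dS h l⁻¹ * (uS h 1 0 * wS h)⁻¹ * (dS h l)⁻¹ =
        uS h 1 0 * (dS h l * (uS h 1 0)⁻¹ * (dS h l)⁻¹) := by
      rw [mul_assoc (uS h 1 0) (wS h) (dS h l⁻¹), wS_conj h, inv_inv]; group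
    refine ⟨0 + k * th m k * (0 + th m 1 * 1) + th m 1 * k, ?_⟩
    rw [e, uS_inv h, dS_mul_uS h, mul_inv_cancel_right, uS_mul h, hl, mul_one]
  rw [hc] at h1
  have ha0 : 1 + k ≠ 0 := fun e => hk1 (by linear_combination e - two_eq h)
  have hall : ∀ x, ∃ c, uS h x c ∈ M := fun x => by
    by_cases hx : x = 0
    · exact ⟨0, by rw [hx, uS_zero h]; exact one_mem M⟩
    · refine ⟨x / (1 + k) * th m (x / (1 + k)) * c, ?_⟩
      have := mul_mem (mul_mem (hd (Units.mk0 _ (div_ne_zero hx ha0))) h1)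
        (inv_mem (hd (Units.mk0 _ (div_ne_zero hx ha0))))
      rw [dS_mul_uS h, mul_inv_cancel_right, Units.val_mk0, div_mul_cancel₀ _ ha0] at this
      exact this
  have hz : ∀ z, uS h 0 z ∈ M := fun z => by
    obtain ⟨c1, hc1⟩ := hall 1
    obtain ⟨c2, hc2⟩ := hall k
    have h2 := mul_mem (mul_mem hc1 hc2) (inv_mem (mul_mem hc2 hc1))
    have e : uS h 1 c1 * uS h k c2 * (uS h k c2 * uS h 1 c1)⁻¹ = uS h 0 (k + th m k) := by
      rw [mul_inv_eq_iff_eq_mul, uS_mul h, uS_mul h, uS_mul h, th_one h, th_zero h, zero_add,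
        add_comm 1 k]
      congr 1
      linear_combination (-th m k) * two_eq h
    rw [e] at h2
    have hne : k + th m k ≠ 0 := fun e => by
      rcases th_eq_self h (x := k) (by linear_combination e - k * two_eq h) with e' | e'
      exacts [hk0 e', hk1 e']
    obtain ⟨t, ht⟩ := mul_th_surjective h (z / (k + th m k))
    by_cases hz0 : z = 0
    · rw [hz0, uS_zero h]; exact one_mem M
    · have ht0 : t ≠ 0 := fun e => by
        rw [e, zero_mul] at ht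
        exact div_ne_zero hz0 hne ht.symm
      have := mul_mem (mul_mem (hd (Units.mk0 t ht0)) h2) (inv_mem (hd (Units.mk0 t ht0)))
      rw [dS_mul_uS h, mul_inv_cancel_right, Units.val_mk0, mul_zero, ht, div_mul_cancel₀ _ hne] at this
      exact this
  have hu : ∀ a b, uS h a b ∈ M := fun a b => by
    obtain ⟨c, hc⟩ := hall a
    have := mul_mem hc (hz (b - c))
    rw [uS_mul h, add_zero, mul_zero, add_zero, add_sub_cancel] at this
    exact this
  refine eq_top_of_gens h _ hu hd ?_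
  have := mul_mem (inv_mem (hu 1 0)) hb
  rwa [inv_mul_cancel_left] at this

end Cfsg.Lib.Linear.Suz
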