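import Cfsg.Agent.Lib.Linear.Suzuki.Simple
import Cfsg.Prelude.Def_Sz

/-!
# The matrix description of the Suzuki groups

The ovoid stabiliser preserves the symplectic form and coincides with the group cut out by
`star4 g = g^θ` inside the symplectic group.
-/

set_option autoImplicit false

namespace Cfsg.Lib.Linear.Suz

open scoped Matrix LinearAlgebra.Projectivization

variable {F : Type*} [Field F] [Fintype F] {m : ℕ} (h : Params F m)
include h

theorem uM_form (a b : F) : (uM m a b)ᵀ * Cfsg.suzukiForm F * uM m a b = Cfsg.suzukiForm F := by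
  have h2 := two_eq h
  ext i j
  fin_cases i <;> fin_cases j <;>
    simp [uM, Cfsg.suzukiForm, Matrix.mul_apply, Matrix.vecMul, dotProduct, Fin.sum_univ_four] <;>
    ring_nf <;> simp [h2, three_eq h, four_eq h]

theorem dM_form (k : Fˣ) : (dM m k)ᵀ * Cfsg.suzukiForm F * dM m k = Cfsg.suzukiForm F := by
  ext i j
  rw [dM, Matrix.diagonal_transpose, Matrix.mul_diagonal, Matrix.diagonal_mul]
  fin_cases i <;> fin_cases j <;> simp [Cfsg.suzukiForm]

theorem form_of_mem (g : ↥(Cfsg.Sz F m)) :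
    (g.1 : Matrix (Fin 4) (Fin 4) F)ᵀ * Cfsg.suzukiForm F * (g.1 : Matrix (Fin 4) (Fin 4) F) =
      Cfsg.suzukiForm F := by
  let H : Subgroup ↥(Cfsg.Sz F m) :=
    { carrier := {g | (g.1 : Matrix (Fin 4) (Fin 4) F)ᵀ * Cfsg.suzukiForm F *
        (g.1 : Matrix (Fin 4) (Fin 4) F) = Cfsg.suzukiForm F}
      one_mem' := by simp
      mul_mem' := fun {x y} hx hy => by
        show ((x * y : ↥(Cfsg.Sz F m)).1 : Matrix (Fin 4) (Fin 4) F)ᵀ * _ * _ = _
        simp only [Subgroup.coe_mul, Matrix.SpecialLinearGroup.coe_mul, Matrix.transpose_mul]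
        rw [show (y.1 : Matrix (Fin 4) (Fin 4) F)ᵀ * (x.1 : Matrix (Fin 4) (Fin 4) F)ᵀ *
            Cfsg.suzukiForm F * ((x.1 : Matrix (Fin 4) (Fin 4) F) * (y.1 : Matrix (Fin 4) (Fin 4) F)) =
          (y.1 : Matrix (Fin 4) (Fin 4) F)ᵀ * ((x.1 : Matrix (Fin 4) (Fin 4) F)ᵀ *
            Cfsg.suzukiForm F * (x.1 : Matrix (Fin 4) (Fin 4) F)) * (y.1 : Matrix (Fin 4) (Fin 4) F) by
          simp only [Matrix.mul_assoc], hx, hy]
      inv_mem' := fun {x} hx => by
        have e : (x.1 : Matrix (Fin 4) (Fin 4) F) * ((x⁻¹).1 : Matrix (Fin 4) (Fin 4) F) = 1 := by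
          rw [← Matrix.SpecialLinearGroup.coe_mul, ← Subgroup.coe_mul, mul_inv_cancel]; rfl
        show ((x⁻¹).1 : Matrix (Fin 4) (Fin 4) F)ᵀ * Cfsg.suzukiForm F *
          ((x⁻¹).1 : Matrix (Fin 4) (Fin 4) F) = Cfsg.suzukiForm F
        conv_lhs => rw [← hx]
        rw [show ∀ A B C : Matrix (Fin 4) (Fin 4) F, Aᵀ * (Bᵀ * C * B) * A = (B * A)ᵀ * C * (B * A) from
          fun A B C => by simp only [Matrix.transpose_mul, Matrix.mul_assoc], e]
        simp }
  have hw : wS h ∈ H := by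
    show (wM F)ᵀ * Cfsg.suzukiForm F * wM F = Cfsg.suzukiForm F
    ext i j
    fin_cases i <;> fin_cases j <;>
      simp [wM, Cfsg.suzukiForm, Matrix.mul_apply, Matrix.vecMul, dotProduct, Fin.sum_univ_four]
  have := eq_top_of_gens h H (fun a b => uM_form h a b) (fun k => dM_form h k) hw
  exact this.ge (Subgroup.mem_top g)

omit [Fintype F] h in
theorem altForm4_eq (u v : Fin 4 → F) :
    Cfsg.Lie.altForm4 u v = u ⬝ᵥ (Cfsg.suzukiForm F *ᵥ v) := by
  simp [Cfsg.Lie.altForm4, Cfsg.suzukiForm, Matrix.mulVec, dotProduct, Fin.sum_univ_four]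

omit [Fintype F] h in
theorem mem_Sp4_iff {g : GL (Fin 4) F} :
    g ∈ Cfsg.Lie.Sp4 F ↔ (g : Matrix (Fin 4) (Fin 4) F)ᵀ * Cfsg.suzukiForm F * (g : Matrix (Fin 4) (Fin 4) F) = Cfsg.suzukiForm F := by
  have key : ∀ u v, Cfsg.Lie.altForm4 ((g : Matrix (Fin 4) (Fin 4) F) *ᵥ u) ((g : Matrix (Fin 4) (Fin 4) F) *ᵥ v) =
      u ⬝ᵥ (((g : Matrix (Fin 4) (Fin 4) F)ᵀ * Cfsg.suzukiForm F * (g : Matrix (Fin 4) (Fin 4) F)) *ᵥ v) := fun u v => by
    rw [altForm4_eq, ← Matrix.mulVec_mulVec, ← Matrix.mulVec_mulVec, Matrix.dotProduct_mulVec u,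
      Matrix.vecMul_transpose]
  refine ⟨fun hg => ?_, fun hg u v => ?_⟩
  · ext i j
    have e := hg (Pi.single i 1) (Pi.single j 1)
    rw [Units.coeHom_apply] at e
    rw [key, altForm4_eq, single_dotProduct, single_dotProduct, Matrix.mulVec_single_one,
      Matrix.mulVec_single_one] at e
    simpa using e
  · rw [Units.coeHom_apply, key, hg, altForm4_eq]

omit [Fintype F] h in
/-- The line condition cutting out the ovoid. -/
def OT (m : ℕ) (v : Fin 4 → F) : Prop :=
  ∃ u : Fin 4 → F, Cfsg.Lie.altForm4 v u = 0 ∧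
    v 0 * u 1 - v 1 * u 0 = th m (v 0) ∧ v 0 * u 2 - v 2 * u 0 = th m (v 1) ∧
    v 1 * u 3 - v 3 * u 1 = th m (v 2) ∧ v 2 * u 3 - v 3 * u 2 = th m (v 3)

theorem OT_pv (x y : F) : OT m (pv m x y) := by
  have h2 := two_eq h
  refine ⟨![y + x * th m x, th m x, 1, 0], ?_, ?_, ?_, ?_, ?_⟩ <;>
    simp [pv, zc, Cfsg.Lie.altForm4, th_one h, th_add h, th_mul h, th_pow h, th_th h]
  all_goals first
    | linear_combination h2 * (0 : F)
    | linear_combination (y + x * th m x) * h2
    | linear_combination -(y ^ 2) * h2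
    | (rw [neg_eq h]; ring_nf; simp [h2, three_eq h, four_eq h])
    | (ring_nf; simp [h2, three_eq h, four_eq h, neg_eq h])

theorem OT_inf : OT m (![1, 0, 0, 0] : Fin 4 → F) := by
  refine ⟨![0, 1, 0, 0], ?_, ?_, ?_, ?_, ?_⟩ <;>
    simp [Cfsg.Lie.altForm4, th_zero h, th_one h]

theorem OT_smul {v : Fin 4 → F} {c : F} (hc : c ≠ 0) (hv : OT m v) : OT m (c • v) := by
  obtain ⟨u, h0, h1, h2, h3, h4⟩ := hv
  refine ⟨(th m c / c) • u, ?_, ?_, ?_, ?_, ?_⟩
  · simp only [Cfsg.Lie.altForm4, Pi.smul_apply, smul_eq_mul] at h0 ⊢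
    field_simp
    linear_combination (th m c) * h0
  all_goals
    simp only [Pi.smul_apply, smul_eq_mul, th_mul h]
    field_simp
  · linear_combination th m c * h1
  · linear_combination th m c * h2
  · linear_combination th m c * h3
  · linear_combination th m c * h4

theorem OT_mem {v : Fin 4 → F} (hv0 : v ≠ 0) (hv : OT m v) :
    Projectivization.mk F v hv0 ∈ Cfsg.suzukiOvoid F m := by
  by_cases h3 : v 3 = 0
  · obtain ⟨u, h0, -, h2, hp3, hp4⟩ := hv
    rw [h3, th_zero h, zero_mul, sub_zero] at hp4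
    rw [h3, zero_mul, sub_zero] at hp3
    have hv2 : v 2 = 0 := by
      rcases mul_eq_zero.mp hp4 with e | e
      · exact e
      · rw [e, mul_zero] at hp3
        exact (th_eq_zero h).mp hp3.symm
    have hv1 : v 1 = 0 := by
      by_contra hne
      rw [hv2, th_zero h] at hp3
      have hu3 : u 3 = 0 := (mul_eq_zero.mp hp3).resolve_left hne
      simp only [Cfsg.Lie.altForm4, hu3, hv2, h3, mul_zero, zero_mul, add_zero, zero_add] at h0
      rw [(mul_eq_zero.mp h0).resolve_left hne, mul_zero, hv2, zero_mul, sub_zero] at h2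
      exact hne ((th_eq_zero h).mp h2.symm)
    have e : Projectivization.mk F v hv0 = Cfsg.suzukiPointInfinity F := by
      refine (Projectivization.mk_eq_mk_iff' F _ _ _ _).mpr ⟨v 0, ?_⟩
      funext i
      fin_cases i <;> simp [h3, hv2, hv1]
    rw [e]
    exact mem_inf m
  · obtain ⟨w, hw⟩ : ∃ w, w = (v 3)⁻¹ • v := ⟨_, rfl⟩
    have hw3 : w 3 = 1 := by simp [hw, h3]
    have hwOT : OT m w := hw ▸ OT_smul h (inv_ne_zero h3) hv
    obtain ⟨u, h0, -, h2, hp3, hp4⟩ := hwOT
    simp only [Cfsg.Lie.altForm4, hw3, th_one h, one_mul] at h0 hp3 hp4 h2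
    have t2 := two_eq h
    have hz : w 0 = zc m (w 2) (w 1) := by
      have eu2 : u 2 = 1 + w 2 * u 3 := by linear_combination -hp4 - t2 + (0 : F) * t2
      have eu1 : u 1 = th m (w 2) + w 1 * u 3 := by
        linear_combination -hp3 - th m (w 2) * t2
      have eu0 : u 0 = w 0 * u 3 + w 1 + w 2 * th m (w 2) := by
        rw [eu1, eu2] at h0
        linear_combination h0 - (w 0 * u 3 + w 1 + w 2 * th m (w 2) + w 2 * w 1 * u 3) * t2
      rw [eu0, eu2] at h2
      rw [zc]
      linear_combination h2 - 0 * t2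
    have e : Projectivization.mk F v hv0 = pA m (w 2) (w 1) := by
      refine (Projectivization.mk_eq_mk_iff' F _ _ _ _).mpr ⟨v 3, ?_⟩
      have hvw : v = v 3 • w := by rw [hw, smul_inv_smul₀ h3]
      conv_rhs => rw [hvw]
      congr 1
      funext i
      fin_cases i <;> simp [pv, hw3, hz]
    rw [e]
    exact mem_pA m _ _

theorem OT_map {g : Matrix (Fin 4) (Fin 4) F}
    (hsp : g * Cfsg.suzukiForm F * gᵀ = Cfsg.suzukiForm F) (hsp' : gᵀ * Cfsg.suzukiForm F * g = Cfsg.suzukiForm F)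
    (hst : Cfsg.Lie.star4 g = g.map (fun x => x ^ (2 ^ (m + 1))))
    {v : Fin 4 → F} (hv : OT m v) : OT m (g *ᵥ v) := by
  obtain ⟨u, h0, h1, h2, h3, h4⟩ := hv
  refine ⟨g *ᵥ u, ?_, ?_⟩
  · rw [altForm4_eq, Matrix.mulVec_mulVec, Matrix.dotProduct_mulVec, ← Matrix.vecMul_transpose,
      Matrix.vecMul_vecMul, ← Matrix.mul_assoc, hsp', ← Matrix.dotProduct_mulVec, ← altForm4_eq]
    exact h0
  · have hB : ∀ k l : Fin 4, g k 0 * g l 3 + g k 1 * g l 2 + g k 2 * g l 1 + g k 3 * g l 0 =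
        Cfsg.suzukiForm F k l := fun k l => by
      conv_rhs => rw [← hsp]
      simp [Cfsg.suzukiForm, Matrix.mul_apply, Matrix.vecMul, dotProduct, Fin.sum_univ_four]
      ring
    have hS : ∀ p r, th m (g p r) = Cfsg.Lie.star4 g p r := fun p r => by rw [hst]; rfl
    have hth : ∀ p, th m ((g *ᵥ v) p) = th m (g p 0) * th m (v 0) + th m (g p 1) * th m (v 1) +
        th m (g p 2) * th m (v 2) + th m (g p 3) * th m (v 3) := fun p => by
      simp only [Matrix.mulVec, dotProduct, Fin.sum_univ_four, th_add h, th_mul h]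
    have t2 := two_eq h
    simp only [Cfsg.Lie.altForm4] at h0
    have b01 := hB 0 1
    have b02 := hB 0 2
    have b13 := hB 1 3
    have b23 := hB 2 3
    simp [Cfsg.suzukiForm] at b01 b02 b13 b23
    have hmin : ∀ k l : Fin 4,
        g k 0 * g l 3 + g k 1 * g l 2 + g k 2 * g l 1 + g k 3 * g l 0 = 0 →
        (g *ᵥ v) k * (g *ᵥ u) l - (g *ᵥ v) l * (g *ᵥ u) k =
          (g k 0 * g l 1 - g l 0 * g k 1) * th m (v 0) + (g k 0 * g l 2 - g l 0 * g k 2) * th m (v 1) +
          (g k 1 * g l 3 - g l 1 * g k 3) * th m (v 2) + (g k 2 * g l 3 - g l 2 * g k 3) * th m (v 3) := by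
      intro k l hb
      rw [← h1, ← h2, ← h3, ← h4]
      simp only [Matrix.mulVec, dotProduct, Fin.sum_univ_four]
      linear_combination (g k 1 * g l 2 - g l 1 * g k 2) * h0 + (v 0 * u 3 - v 3 * u 0) * hb -
        ((g l 0 * g k 3 + g k 1 * g l 2) * (v 0 * u 3 - v 3 * u 0) +
          (g k 1 * g l 2 - g l 1 * g k 2) * (v 3 * u 0 + v 2 * u 1)) * t2
    refine ⟨?_, ?_, ?_, ?_⟩ <;> rw [hth, hS, hS, hS, hS]
    · exact hmin 0 1 b01
    · exact hmin 0 2 b02
    · exact hmin 1 3 b13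
    · exact hmin 2 3 b23

/-- The isomorphism onto the matrix description. -/
theorem exists_lie_equiv :
    ∃ e : ↥(Cfsg.Sz F m) ≃* ↥(Cfsg.Lie.Sz F (2 ^ (m + 1))),
      ∀ g, ((e g).1 : Matrix (Fin 4) (Fin 4) F) = (g.1 : Matrix (Fin 4) (Fin 4) F) := by
  obtain ⟨ι, hι⟩ : ∃ ι : ↥(Cfsg.Sz F m) →* GL (Fin 4) F,
      ∀ g, (ι g : Matrix (Fin 4) (Fin 4) F) = (g.1 : Matrix (Fin 4) (Fin 4) F) :=
    ⟨Matrix.SpecialLinearGroup.toGL.comp (Cfsg.Sz F m).subtype, fun g => rfl⟩
  have hinj : Function.Injective ι := fun x y e => Subtype.ext (Subtype.ext (by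
    have := congrArg (fun z : GL (Fin 4) F => (z : Matrix (Fin 4) (Fin 4) F)) e
    rwa [hι, hι] at this))
  have hrange : ι.range = Cfsg.Lie.Sz F (2 ^ (m + 1)) := by
    refine le_antisymm ?_ ((Subgroup.closure_le _).mpr fun g hg => ?_)
    · rw [MonoidHom.range_eq_map, Subgroup.map_le_iff_le_comap]
      refine (eq_top_of_gens h _ (fun a b => ?_) (fun k => ?_) ?_).ge
      all_goals
        refine Subgroup.subset_closure ⟨mem_Sp4_iff.mpr ?_, ?_⟩
      · rw [hι]; exact uM_form h a b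
      · rw [hι]
        have h2 := two_eq h
        ext i j
        simp only [Cfsg.Lie.star4, Matrix.map_apply, Matrix.of_apply]
        change _ = th m (uM m a b i j)
        fin_cases i <;> fin_cases j <;>
          simp [uS, uSL, uM, Cfsg.Lie.pairOf, th_zero h, th_one h, th_add h, th_mul h, th_pow h, th_th h,
            neg_eq h] <;>
          (try ring_nf) <;> (try simp [h2, three_eq h, four_eq h, sub_eq_add_neg, neg_eq h])
      · rw [hι]; exact dM_form h k
      · rw [hι, show ((dS h k).1 : Matrix (Fin 4) (Fin 4) F) = dM m k from rfl]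
        ext i j
        simp only [Cfsg.Lie.star4, Matrix.map_apply, Matrix.of_apply]
        change _ = th m (dM m k i j)
        obtain ⟨e1, e2, e3, e4⟩ := dM_coords h k
        obtain ⟨β, hβ⟩ : ∃ β, β = ((k ^ (2 ^ m) : Fˣ) : F) := ⟨_, rfl⟩
        obtain ⟨α, hα⟩ : ∃ α, α = ((k ^ (2 ^ m + 1) : Fˣ) : F) := ⟨_, rfl⟩
        rw [← hβ, ← hα] at e1
        rw [← hβ] at e2 e4
        rw [← hα] at e3
        have hb : β ≠ 0 := by rw [hβ]; exact Units.ne_zero _
        fin_cases i <;> fin_cases j <;>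
          simp [dM, Cfsg.Lie.pairOf, Matrix.diagonal_apply, th_zero h, th_inv h,
            Units.val_inv_eq_inv_val] <;>
          (try simp only [← Units.val_pow_eq_pow_val, ← hα, ← hβ, e2, e3]) <;>
          (try simp only [← e1, ← e4]) <;> field_simp <;> push_cast <;> ring
      · rw [hι]
        exact form_of_mem h (wS h)
      · rw [hι]
        ext i j
        simp only [Cfsg.Lie.star4, Matrix.map_apply, Matrix.of_apply]
        change _ = th m (wM F i j)
        fin_cases i <;> fin_cases j <;> simp [wS, wSL, wM, Cfsg.Lie.pairOf, th_zero h, th_one h, neg_eq h]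
    · obtain ⟨hsp, hst⟩ := hg
      rw [mem_Sp4_iff] at hsp
      have hJ : Cfsg.suzukiForm F * Cfsg.suzukiForm F = 1 := by
        ext i j
        fin_cases i <;> fin_cases j <;>
          simp [Cfsg.suzukiForm, Matrix.mul_apply, Matrix.vecMul, dotProduct, Fin.sum_univ_four]
      have hinv : (g : Matrix (Fin 4) (Fin 4) F) *
          (Cfsg.suzukiForm F * (g : Matrix (Fin 4) (Fin 4) F)ᵀ * Cfsg.suzukiForm F) = 1 :=
        mul_eq_one_comm.mp (by
          rw [Matrix.mul_assoc, Matrix.mul_assoc, ← Matrix.mul_assoc (g : Matrix (Fin 4) (Fin 4) F)ᵀ, hsp, hJ])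
      have hsp2 : (g : Matrix (Fin 4) (Fin 4) F) * Cfsg.suzukiForm F * (g : Matrix (Fin 4) (Fin 4) F)ᵀ =
          Cfsg.suzukiForm F := by
        have := congrArg (fun X => X * Cfsg.suzukiForm F) hinv
        simpa [Matrix.mul_assoc, hJ] using this
      have hdet : (g : Matrix (Fin 4) (Fin 4) F).det = 1 := by
        have h' := congrArg Matrix.det hsp
        rw [Matrix.det_mul, Matrix.det_mul, Matrix.det_transpose] at h'
        have hJ0 : (Cfsg.suzukiForm F).det ≠ 0 := fun e => by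
          have := congrArg Matrix.det hJ
          rw [Matrix.det_mul, e, zero_mul, Matrix.det_one] at this
          exact zero_ne_one this
        haveI := charP_two h
        refine frobenius_inj F 2 ?_
        simp only [frobenius_def, one_pow]
        exact mul_right_cancel₀ hJ0 (by linear_combination h')
      have hmem : (⟨_, hdet⟩ : Matrix.SpecialLinearGroup (Fin 4) F) ∈ Cfsg.Sz F m := by
        refine mem_Sz_iff.mpr fun p hp => ?_
        rcases mem_ovoid_iff.mp hp with rfl | ⟨x, y, rfl⟩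
        · exact OT_mem h (mulVec_ne _ (by simp)) (OT_map h hsp2 hsp hst (OT_inf h))
        · exact OT_mem h (mulVec_ne _ (pv_ne m x y)) (OT_map h hsp2 hsp hst (OT_pv h x y))
      exact ⟨⟨_, hmem⟩, Units.ext (hι _)⟩
  exact ⟨(MonoidHom.ofInjective hinj).trans (MulEquiv.subgroupCongr hrange), fun g => hι g⟩

end Cfsg.Lib.Linear.Suz
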