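import Cfsg.Agent.Lib.Linear.Suzuki.TorusCount

/-!
# The partition of a Suzuki group
-/

set_option autoImplicit false

namespace Cfsg.Lib.Linear.Suz

open scoped Matrix LinearAlgebra.Projectivization

variable {F : Type*} [Field F] [Fintype F] {m : ℕ} (h : Params F m)
include h

/-- The three orders of cyclic components. -/
def compOrders (_h : Params F m) : Set ℕ :=
  {2 ^ (2 * m + 1) - 1, 2 ^ (2 * m + 1) + 2 ^ (m + 1) + 1, 2 ^ (2 * m + 1) - 2 ^ (m + 1) + 1}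

theorem pow_four_of_mem_US {u : ↥(Cfsg.Sz F m)} (hu : u ∈ US h) : u ^ 4 = 1 :=
  congrArg Subtype.val (Monoid.exponent_dvd_iff_forall_pow_eq_one.mp
    (show Monoid.exponent ↥(US h) ∣ 4 by rw [(US_props h).1]) (⟨u, hu⟩ : ↥(US h)))

theorem cases_centralizer {x : ↥(Cfsg.Sz F m)} (hx : x ≠ 1) :
    (x ^ 4 = 1 ∧ ∃ σ, σ * x * σ⁻¹ ∈ US h ∧
      Subgroup.centralizer ({σ * x * σ⁻¹} : Set ↥(Cfsg.Sz F m)) ≤ US h) ∨
    (IsCyclic (Subgroup.centralizer ({x} : Set ↥(Cfsg.Sz F m))) ∧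
      Nat.card ↥(Subgroup.centralizer ({x} : Set ↥(Cfsg.Sz F m))) ∈ compOrders h) := by
  classical
  by_cases hf : Fpf h x
  · refine Or.inr ⟨(torus_data h hf).1, ?_⟩
    obtain ⟨x₁, x₂, hx₁, hx₂, c₁, c₂, -, -, hall⟩ := tori h
    rcases hall x hf with hc | hc
    · rw [(torus_conjSet h hx₁).2.2 x hc, c₁]
      exact Or.inr (Or.inl rfl)
    · rw [(torus_conjSet h hx₂).2.2 x hc, c₂]
      exact Or.inr (Or.inr rfl)
  · rcases classify h hx hf with ⟨-, σ, hσ⟩ | ⟨-, σ, hσ⟩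
    · have hne : σ * x * σ⁻¹ ≠ 1 := fun e => hx (by rwa [mul_inv_eq_one, mul_eq_left] at e)
      refine Or.inl ⟨?_, σ, hσ, centralizer_US h hσ hne⟩
      have := pow_four_of_mem_US h hσ
      rwa [conj_pow, mul_inv_eq_one, mul_eq_left] at this
    · have hne : σ * x * σ⁻¹ ≠ 1 := fun e => hx (by rwa [mul_inv_eq_one, mul_eq_left] at e)
      have hc := centralizer_DS h hσ hne
      refine Or.inr ⟨?_, ?_⟩
      · haveI : IsCyclic ↥(dS h).range :=
          isCyclic_of_surjective (dS h).rangeRestrict (dS h).rangeRestrict_surjective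
        rw [← hc, conj_centralizer h] at *
        exact ((Subgroup.centralizer ({x} : Set ↥(Cfsg.Sz F m))).equivMapOfInjective
          (MulAut.conj σ).toMonoidHom (MulAut.conj σ).injective).isCyclic.mpr inferInstance
      · rw [← card_conj_centralizer h σ x, hc, card_DS h]
        exact Or.inl rfl

theorem sylow_odd_cyclic {p : ℕ} [Fact p.Prime] (hp : p ≠ 2) (P : Sylow p ↥(Cfsg.Sz F m)) :
    IsCyclic ↥(P : Subgroup ↥(Cfsg.Sz F m)) := by
  classical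
  rcases subsingleton_or_nontrivial ↥(P : Subgroup ↥(Cfsg.Sz F m)) with hs | hn
  · exact isCyclic_of_subsingleton
  haveI := P.isPGroup'.center_nontrivial
  obtain ⟨⟨⟨y, hyP⟩, hyZ⟩, hy⟩ :=
    exists_ne (1 : Subgroup.center ↥(P : Subgroup ↥(Cfsg.Sz F m)))
  have hy1 : y ≠ 1 := fun e => hy (Subtype.ext (Subtype.ext e))
  rcases cases_centralizer h hy1 with ⟨h4, -⟩ | ⟨hc, -⟩
  · obtain ⟨k, hk⟩ := P.isPGroup' ⟨y, hyP⟩
    have hk' : y ^ p ^ k = 1 := congrArg Subtype.val hk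
    have hd := Nat.dvd_gcd (orderOf_dvd_of_pow_eq_one hk') (orderOf_dvd_of_pow_eq_one h4)
    have hco : Nat.Coprime (p ^ k) (2 ^ 2) := Nat.Coprime.pow _ _
      ((Nat.coprime_primes (Fact.out : p.Prime) Nat.prime_two).mpr hp)
    rw [show Nat.gcd (p ^ k) 4 = 1 from hco, Nat.dvd_one, orderOf_eq_one_iff] at hd
    exact absurd hd hy1
  · haveI := hc
    have hle : (P : Subgroup ↥(Cfsg.Sz F m)) ≤ Subgroup.centralizer {y} := fun c hcP =>
      Subgroup.mem_centralizer_singleton_iff.mpr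
        (congrArg Subtype.val (Subgroup.mem_center_iff.mp hyZ ⟨c, hcP⟩))
    exact isCyclic_of_injective (Subgroup.inclusion hle) (Subgroup.inclusion_injective hle)

theorem is_cn : Cfsg.IsCNGroup ↥(Cfsg.Sz F m) := by
  intro g hg
  haveI : Fact (Nat.Prime 2) := ⟨Nat.prime_two⟩
  rcases cases_centralizer h hg with ⟨-, σ, -, hle⟩ | ⟨hc, -⟩
  · have hp : IsPGroup 2 ↥(US h) := IsPGroup.of_card (n := (2 * m + 1) * 2) (by rw [card_US h, ← pow_mul])
    have hp' : IsPGroup 2 ↥(Subgroup.centralizer ({σ * g * σ⁻¹} : Set ↥(Cfsg.Sz F m))) := hp.to_le hle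
    rw [conj_centralizer h] at hp'
    exact (hp'.of_equiv ((Subgroup.centralizer ({g} : Set ↥(Cfsg.Sz F m))).equivMapOfInjective
      (MulAut.conj σ).toMonoidHom (MulAut.conj σ).injective).symm).isNilpotent
  · haveI := hc
    letI := IsCyclic.commGroup (α := ↥(Subgroup.centralizer ({g} : Set ↥(Cfsg.Sz F m))))
    infer_instance

theorem comp_coprime {a b : ℕ} (ha : a ∈ compOrders h) (hb : b ∈ compOrders h) (hne : a ≠ b) :
    Nat.Coprime a b := by
  obtain ⟨q, hq⟩ : ∃ q, q = 2 ^ (2 * m + 1) := ⟨_, rfl⟩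
  obtain ⟨r, hr⟩ : ∃ r, r = 2 ^ (m + 1) := ⟨_, rfl⟩
  have hrq : r * r = 2 * q := by rw [hr, hq, ← pow_add, ← pow_succ']; ring_nf
  have hrle : r ≤ q := by rw [hr, hq]; exact Nat.pow_le_pow_right two_pos (by omega)
  have hq8 : 8 ≤ q := hq ▸ q_ge h
  have hq2 : 2 ∣ q := hq ▸ dvd_pow_self 2 (by omega)
  have hr2 : 2 ∣ r := hr ▸ dvd_pow_self 2 (by omega)
  have hprod : (q + r + 1) * (q - r + 1) = q * q + 1 := by
    zify [hrle]
    have : (r : ℤ) * r = 2 * q := by exact_mod_cast hrq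
    linear_combination -this
  have hc1 : Nat.Coprime (q - 1) (q * q + 1) := by
    refine Nat.coprime_of_dvd fun p hp h1 h2 => ?_
    have h3 : p ∣ (q - 1) * (q + 1) := dvd_mul_of_dvd_left h1 _
    have h4 : (q - 1) * (q + 1) + 2 = q * q + 1 := by
      zify [show 1 ≤ q by omega]; ring
    rw [← h4] at h2
    obtain rfl : p = 2 := (Nat.prime_dvd_prime_iff_eq hp Nat.prime_two).mp ((Nat.dvd_add_right h3).mp h2)
    omega
  have hA : Nat.Coprime (q - 1) (q + r + 1) := Nat.Coprime.coprime_dvd_right ⟨_, hprod.symm⟩ hc1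
  have hB : Nat.Coprime (q - 1) (q - r + 1) :=
    Nat.Coprime.coprime_dvd_right ⟨_, (mul_comm _ _).trans hprod |>.symm⟩ hc1
  have hC : Nat.Coprime (q + r + 1) (q - r + 1) := by
    refine Nat.coprime_of_dvd fun p hp h1 h2 => ?_
    have e : q + r + 1 = (q - r + 1) + 2 * r := by omega
    rw [e] at h1
    have h3 : p ∣ 2 * r := (Nat.dvd_add_right h2).mp h1
    rw [hr, ← pow_succ'] at h3
    obtain rfl : p = 2 := (Nat.prime_dvd_prime_iff_eq hp Nat.prime_two).mp (hp.dvd_of_dvd_pow h3)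
    omega
  simp only [compOrders, Set.mem_insert_iff, Set.mem_singleton_iff, ← hq, ← hr] at ha hb
  rcases ha with rfl | rfl | rfl <;> rcases hb with rfl | rfl | rfl <;>
    first
      | exact absurd rfl hne | exact hA | exact hA.symm | exact hB | exact hB.symm | exact hC | exact hC.symm

theorem comp_two_le {a : ℕ} (ha : a ∈ compOrders h) : 2 ≤ a ∧ ¬ 2 ∣ a := by
  obtain ⟨q, hq⟩ : ∃ q, q = 2 ^ (2 * m + 1) := ⟨_, rfl⟩
  obtain ⟨r, hr⟩ : ∃ r, r = 2 ^ (m + 1) := ⟨_, rfl⟩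
  have h2r : 2 * r ≤ q := by
    have := h.pos
    rw [hr, hq, ← pow_succ']
    exact Nat.pow_le_pow_right two_pos (by omega)
  have hq8 : 8 ≤ q := hq ▸ q_ge h
  have hq2 : 2 ∣ q := hq ▸ dvd_pow_self 2 (by omega)
  have hr2 : 2 ∣ r := hr ▸ dvd_pow_self 2 (by omega)
  simp only [compOrders, Set.mem_insert_iff, Set.mem_singleton_iff, ← hq, ← hr] at ha
  rcases ha with rfl | rfl | rfl <;> omega

theorem component_unique (g : ↥(Cfsg.Sz F m)) (hg : g ≠ 1) :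
    ∃! U : Subgroup ↥(Cfsg.Sz F m), ((∃ P : Sylow 2 ↥(Cfsg.Sz F m), U = (P : Subgroup ↥(Cfsg.Sz F m))) ∨
      (IsCyclic ↥U ∧ Nat.card ↥U ∈ compOrders h)) ∧ g ∈ U := by
  classical
  haveI : Fact (Nat.Prime 2) := ⟨Nat.prime_two⟩
  have hcyc : ∀ U : Subgroup ↥(Cfsg.Sz F m), Nat.card ↥U ∈ compOrders h → g ∈ U → g ^ 4 ≠ 1 := by
    intro U hU hgU h4
    have hd := Nat.dvd_gcd (Subgroup.orderOf_dvd_natCard U hgU) (orderOf_dvd_of_pow_eq_one h4)
    have hco : Nat.Coprime (Nat.card ↥U) (2 ^ 2) := Nat.Coprime.pow_right _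
      (Nat.prime_two.coprime_iff_not_dvd.mpr (comp_two_le h hU).2).symm
    rw [show (Nat.card ↥U).gcd 4 = 1 from hco, Nat.dvd_one, orderOf_eq_one_iff] at hd
    exact hg hd
  rcases cases_centralizer h hg with ⟨h4, σ, hσ, -⟩ | ⟨hc, hk⟩
  · obtain ⟨P, hP⟩ : ∃ P : Sylow 2 ↥(Cfsg.Sz F m), g ∈ (P : Subgroup ↥(Cfsg.Sz F m)) := by
      have hz : IsPGroup 2 ↥(Subgroup.zpowers g) := by
        rintro ⟨x, i, rfl⟩
        refine ⟨2, Subtype.ext ?_⟩
        show (g ^ i) ^ 2 ^ 2 = 1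
        rw [← zpow_natCast, ← zpow_mul, mul_comm, zpow_mul, zpow_natCast, show (2 : ℕ) ^ 2 = 4 by norm_num, h4,
          one_zpow]
      obtain ⟨P, hP⟩ := hz.exists_le_sylow
      exact ⟨P, hP (Subgroup.mem_zpowers g)⟩
    refine ⟨P, ⟨Or.inl ⟨P, rfl⟩, hP⟩, ?_⟩
    rintro U ⟨⟨Q, rfl⟩ | ⟨-, hU⟩, hgU⟩
    · obtain ⟨a, ha⟩ := sylow_conj h P
      obtain ⟨b, hb⟩ := sylow_conj h Q
      rw [ha] at hP
      rw [hb] at hgU
      obtain ⟨u, hu, hu'⟩ := hP
      obtain ⟨v, hv, hv'⟩ := hgU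
      change a * u * a⁻¹ = g at hu'
      change b * v * b⁻¹ = g at hv'
      have hst : b⁻¹ * a ∈ MulAction.stabilizer ↥(Cfsg.Sz F m) (Cfsg.suzukiPointInfinity F) := by
        refine conj_mem_stab h hu hv (fun e => hg ?_) ?_
        · rw [← hu', e, mul_one, mul_inv_cancel]
        · rw [show b⁻¹ * a * u * (b⁻¹ * a)⁻¹ = b⁻¹ * (a * u * a⁻¹) * b by group, hu', ← hv']; group
      refine (Subgroup.eq_of_le_of_card_ge ?_ (le_of_eq ?_)).symm
      · rw [ha, hb]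
        rintro w ⟨t, ht, rfl⟩
        refine ⟨b⁻¹ * a * t * (b⁻¹ * a)⁻¹, stab_normalizes h hst ht, ?_⟩
        show b * (b⁻¹ * a * t * (b⁻¹ * a)⁻¹) * b⁻¹ = a * t * a⁻¹
        group
      · exact (Nat.card_congr (P.equiv Q).toEquiv).symm
    · exact absurd h4 (hcyc U hU hgU)
  · obtain ⟨C, hC⟩ : ∃ C, C = Subgroup.centralizer ({g} : Set ↥(Cfsg.Sz F m)) := ⟨_, rfl⟩
    rw [← hC] at hc hk
    have hgC : g ∈ C := hC ▸ Subgroup.mem_centralizer_singleton_iff.mpr rfl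
    refine ⟨C, ⟨Or.inr ⟨hc, hk⟩, hgC⟩, ?_⟩
    rintro U ⟨⟨Q, rfl⟩ | ⟨hUc, hU⟩, hgU⟩
    · refine absurd ?_ (hcyc C hk hgC)
      obtain ⟨b, hb⟩ := sylow_conj h Q
      rw [hb] at hgU
      obtain ⟨v, hv, hv'⟩ := hgU
      change b * v * b⁻¹ = g at hv'
      rw [← hv', conj_pow, pow_four_of_mem_US h hv, mul_one, mul_inv_cancel]
    · have hle : U ≤ C := by
        intro c hcU
        rw [hC, Subgroup.mem_centralizer_singleton_iff]
        letI := hUc.commGroup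
        exact congrArg Subtype.val (mul_comm (⟨c, hcU⟩ : U) ⟨g, hgU⟩)
      refine Subgroup.eq_of_le_of_card_ge hle (le_of_eq ?_)
      by_contra hne
      have h2 := (comp_two_le h hU).1
      have h1 := Nat.eq_one_of_dvd_coprimes (comp_coprime h hU hk fun e => hne e.symm) dvd_rfl
        (Subgroup.card_dvd_of_le hle)
      omega

end Cfsg.Lib.Linear.Suz
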