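import Cfsg.Agent.Lib.Linear.Suzuki.Basic

/-!
# Simplicity and the Sylow two-subgroups of the Suzuki groups
-/

set_option autoImplicit false

namespace Cfsg.Lib.Linear.Suz

open scoped Matrix LinearAlgebra.Projectivization commutatorElement

variable {F : Type*} [Field F] [Fintype F] {m : ℕ} (h : Params F m)
include h

theorem dM_mul_uM (k : Fˣ) (a b : F) :
    dM m k * uM m a b = uM m ((k : F) * a) ((k : F) * th m (k : F) * b) * dM m k := by
  obtain ⟨e1, e2, e3, e4⟩ := dM_coords h k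
  obtain ⟨β, hβ⟩ : ∃ β, β = ((k ^ (2 ^ m) : Fˣ) : F) := ⟨_, rfl⟩
  obtain ⟨α, hα⟩ : ∃ α, α = ((k ^ (2 ^ m + 1) : Fˣ) : F) := ⟨_, rfl⟩
  rw [← hβ, ← hα] at e1
  rw [← hβ] at e4
  have hb : β ≠ 0 := by rw [hβ]; exact Units.ne_zero _
  have hk : (k : F) ≠ 0 := k.ne_zero
  ext i j
  rw [dM, Matrix.diagonal_mul, Matrix.mul_diagonal]
  fin_cases i <;> fin_cases j <;>
    simp [uM, th_mul h, th_th h, Units.val_inv_eq_inv_val] <;>
    simp only [← Units.val_pow_eq_pow_val, ← hα, ← hβ, ← e1, ← e4] <;>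
    field_simp <;> push_cast <;> ring

theorem dS_mul_uS (k : Fˣ) (a b : F) :
    dS h k * uS h a b = uS h ((k : F) * a) ((k : F) * th m (k : F) * b) * dS h k :=
  Subtype.ext (Subtype.ext (dM_mul_uM h k a b))

theorem uS_mul (a b a' b' : F) : uS h a b * uS h a' b' = uS h (a + a') (b + b' + th m a * a') :=
  Subtype.ext (uSL_mul h a b a' b')

theorem uS_zero : uS h (0 : F) 0 = 1 := Subtype.ext (uSL_zero h)

theorem uS_inv (a b : F) : (uS h a b)⁻¹ = uS h a (b + th m a * a) := Subtype.ext (uSL_inv h a b)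

theorem uS_inj {a b a' b' : F} (e : uS h a b = uS h a' b') : a = a' ∧ b = b' :=
  uSL_injective (congrArg Subtype.val e)

theorem wS_conj (k : Fˣ) : wS h * dS h k = dS h k⁻¹ * wS h := by
  refine Subtype.ext (Subtype.ext ?_)
  show wM F * dM m k = dM m k⁻¹ * wM F
  ext i j
  rw [dM, dM, Matrix.diagonal_mul, Matrix.mul_diagonal]
  fin_cases i <;> fin_cases j <;> simp [wM, inv_pow]

/-- The subgroup of unipotent elements. -/
def US : Subgroup ↥(Cfsg.Sz F m) where
  carrier := {g | ∃ a b, g = uS h a b}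
  mul_mem' := by
    rintro _ _ ⟨a, b, rfl⟩ ⟨a', b', rfl⟩
    exact ⟨_, _, uS_mul h a b a' b'⟩
  one_mem' := ⟨0, 0, (uS_zero h).symm⟩
  inv_mem' := by
    rintro _ ⟨a, b, rfl⟩
    exact ⟨_, _, uS_inv h a b⟩

/-- The central unipotent elements. -/
def ZS : Subgroup ↥(Cfsg.Sz F m) where
  carrier := {g | ∃ b, g = uS h 0 b}
  mul_mem' := by
    rintro _ _ ⟨b, rfl⟩ ⟨b', rfl⟩
    refine ⟨b + b', ?_⟩
    rw [uS_mul h, add_zero, mul_zero, add_zero]
  one_mem' := ⟨0, (uS_zero h).symm⟩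
  inv_mem' := by
    rintro _ ⟨b, rfl⟩
    refine ⟨b, ?_⟩
    rw [uS_inv h, mul_zero, add_zero]

theorem exists_bruhat (g : ↥(Cfsg.Sz F m)) :
    g ∈ MulAction.stabilizer ↥(Cfsg.Sz F m) (Cfsg.suzukiPointInfinity F) ∨ ∃ x y,
      (uS h x y * wS h)⁻¹ * g ∈ MulAction.stabilizer ↥(Cfsg.Sz F m) (Cfsg.suzukiPointInfinity F) := by
  rcases mem_ovoid_iff.mp (mem_Sz_iff.mp g.2 _ (mem_inf m)) with hp | ⟨x, y, hp⟩
  · exact Or.inl hp
  · refine Or.inr ⟨x, y, ?_⟩
    show ((uSL m x y * wSL F)⁻¹ * g.1) • Cfsg.suzukiPointInfinity F = Cfsg.suzukiPointInfinity F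
    rw [mul_smul, hp, inv_smul_eq_iff, mul_smul, wSL_inf h, uSL_zero_pt h]

theorem eq_top_of_gens (H : Subgroup ↥(Cfsg.Sz F m)) (hu : ∀ a b, uS h a b ∈ H)
    (hd : ∀ k, dS h k ∈ H) (hw : wS h ∈ H) : H = ⊤ := by
  have hB : ∀ g ∈ MulAction.stabilizer ↥(Cfsg.Sz F m) (Cfsg.suzukiPointInfinity F), g ∈ H := fun g hg => by
    obtain ⟨a, b, k, rfl⟩ := (mem_stab_inf_iff h).mp hg
    exact mul_mem (hu _ _) (hd _)
  refine eq_top_iff.mpr fun g _ => ?_
  rcases exists_bruhat h g with hg | ⟨x, y, hg⟩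
  · exact hB g hg
  · have := mul_mem (mul_mem (hu x y) hw) (hB _ hg)
    rwa [mul_inv_cancel_left] at this

theorem mul_th_ne_one {k : F} (hk : k ≠ 1) : k * th m k ≠ 1 := fun e => by
  have hk0 : k ≠ 0 := left_ne_zero_of_mul_eq_one e
  have e' := congrArg (th m) e
  rw [th_mul h, th_th h, th_one h] at e'
  exact hk (by linear_combination e' - k * e)

theorem commutator_eq_top : commutator ↥(Cfsg.Sz F m) = ⊤ := by
  obtain ⟨k, hk0, hk1⟩ := exists_ne_zero_one h
  obtain ⟨κ, hκ⟩ : ∃ κ : Fˣ, (κ : F) = k := ⟨Units.mk0 k hk0, rfl⟩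
  have hcm : ∀ x y : ↥(Cfsg.Sz F m), ⁅x, y⁆ ∈ commutator ↥(Cfsg.Sz F m) := fun x y =>
    Subgroup.commutator_mem_commutator (Subgroup.mem_top x) (Subgroup.mem_top y)
  have hcu : ∀ a b : F, ∃ c, uS h (k * a + a) c ∈ commutator ↥(Cfsg.Sz F m) ∧
      (a = 0 → c = (k * th m k + 1) * b) := by
    intro a b
    refine ⟨k * th m k * b + (b + th m a * a) + th m (k * a) * a, ?_, ?_⟩
    · have := hcm (dS h κ) (uS h a b)
      rw [commutatorElement_def, dS_mul_uS h, mul_inv_cancel_right, uS_inv h, uS_mul h, hκ] at this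
      exact this
    · rintro rfl
      simp only [mul_zero, add_zero, th_zero h]; ring
  have hne : k * th m k + 1 ≠ 0 := fun e => mul_th_ne_one h hk1 (by linear_combination e - two_eq h)
  have hz : ∀ b, uS h 0 b ∈ commutator ↥(Cfsg.Sz F m) := fun b => by
    obtain ⟨c, hc, hc'⟩ := hcu 0 (b / (k * th m k + 1))
    rw [mul_zero, add_zero, hc' rfl, mul_div_cancel₀ _ hne] at hc
    exact hc
  have hk1' : k + 1 ≠ 0 := fun e => hk1 (by linear_combination e - two_eq h)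
  have hu : ∀ a b, uS h a b ∈ commutator ↥(Cfsg.Sz F m) := fun a b => by
    obtain ⟨c, hc, -⟩ := hcu (a / (k + 1)) 0
    rw [show k * (a / (k + 1)) + a / (k + 1) = a by field_simp] at hc
    have := mul_mem hc (hz (b + c))
    rw [uS_mul h, add_zero, mul_zero, add_zero,
      show c + (b + c) = b + (c + c) by ring, add_self h, add_zero] at this
    exact this
  have hd : ∀ l, dS h l ∈ commutator ↥(Cfsg.Sz F m) := fun l => by
    haveI := charP_two h
    obtain ⟨r, hr⟩ := (FiniteField.isSquare_of_char_two (ringChar.eq F 2) (l : F))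
    have hr0 : r ≠ 0 := left_ne_zero_of_mul (hr ▸ l.ne_zero)
    have := hcm (wS h) (dS h (Units.mk0 r hr0)⁻¹)
    rw [commutatorElement_def, wS_conj h, mul_inv_cancel_right, inv_inv, ← map_inv, inv_inv, ← map_mul] at this
    rwa [show Units.mk0 r hr0 * Units.mk0 r hr0 = l from Units.ext hr.symm] at this
  refine eq_top_of_gens h _ hu hd ?_
  haveI : (commutator ↥(Cfsg.Sz F m)).Normal := inferInstance
  have hz1 : zc m (1 : F) 1 = 1 := by
    simp only [zc, th_one h, mul_one, one_pow]; linear_combination two_eq h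
  have hfix : ((uS h (1 : F) 1 * wS h)⁻¹ * wS h * (uS h (1 : F) 1 * wS h)) ∈
      MulAction.stabilizer ↥(Cfsg.Sz F m) (Cfsg.suzukiPointInfinity F) := by
    show ((uSL m (1 : F) 1 * wSL F)⁻¹ * wSL F * (uSL m (1 : F) 1 * wSL F)) •
      Cfsg.suzukiPointInfinity F = Cfsg.suzukiPointInfinity F
    rw [mul_smul, mul_smul, mul_smul, wSL_inf h, uSL_zero_pt h,
      wSL_pA h (by rw [hz1]; exact one_ne_zero), hz1, div_one, inv_smul_eq_iff, mul_smul, wSL_inf h,
      uSL_zero_pt h]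
  have hmem : (uS h (1 : F) 1 * wS h)⁻¹ * wS h * (uS h (1 : F) 1 * wS h) ∈ commutator ↥(Cfsg.Sz F m) := by
    obtain ⟨a, b, l, e⟩ := (mem_stab_inf_iff h).mp hfix
    rw [e]
    exact mul_mem (hu a b) (hd l)
  have := Subgroup.Normal.conj_mem inferInstance _ hmem (uS h (1 : F) 1 * wS h)
  simpa [mul_assoc] using this

theorem eq_one_of_fixed {g : ↥(Cfsg.Sz F m)} (hi : g.1 • Cfsg.suzukiPointInfinity F = Cfsg.suzukiPointInfinity F)
    (h0 : g.1 • pA m (0 : F) 0 = pA m 0 0) {x y : F} (hxy : x ≠ 0 ∨ y ≠ 0)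
    (h3 : g.1 • pA m x y = pA m x y) : g = 1 := by
  obtain ⟨k, hk⟩ := two_point h g.2 hi h0
  rw [hk, dHom_pA h] at h3
  obtain ⟨e1, e2⟩ := pA_injective h3
  have hk1 : (k : F) = 1 := by
    rcases hxy with hx | hy
    · exact mul_right_cancel₀ hx (by rw [e1, one_mul])
    · by_contra hne
      exact mul_th_ne_one h hne (mul_right_cancel₀ hy (by rw [e2, one_mul]))
  refine Subtype.ext ?_
  rw [hk, show k = 1 from Units.ext hk1, map_one]
  rfl

theorem normal_orbit (N : Subgroup ↥(Cfsg.Sz F m)) (hN : N.Normal) (hne : N ≠ ⊥) {p : ℙ F (Fin 4 → F)}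
    (hp : p ∈ Cfsg.suzukiOvoid F m) : ∃ n ∈ N, n.1 • Cfsg.suzukiPointInfinity F = p := by
  obtain ⟨n, hn, hn1⟩ := (Subgroup.bot_or_exists_ne_one N).resolve_left hne
  obtain ⟨r, hr, hmove⟩ : ∃ r ∈ Cfsg.suzukiOvoid F m, n.1 • r ≠ r := by
    by_contra hc
    push Not at hc
    exact hn1 (eq_one_of_fixed h (hc _ (mem_inf m)) (hc _ (mem_pA m 0 0))
      (x := 1) (y := 0) (Or.inl one_ne_zero) (hc _ (mem_pA m 1 0)))
  rw [← orbit_inf h] at hr
  obtain ⟨g, hgr⟩ := hr
  have hgr' : g.1 • Cfsg.suzukiPointInfinity F = r := hgr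
  have hn' : g⁻¹ * n * g ∈ N := by simpa using hN.conj_mem n hn g⁻¹
  have hm' : (g⁻¹ * n * g).1 • Cfsg.suzukiPointInfinity F ≠ Cfsg.suzukiPointInfinity F := by
    show (g.1⁻¹ * n.1 * g.1) • Cfsg.suzukiPointInfinity F ≠ Cfsg.suzukiPointInfinity F
    rw [mul_smul, mul_smul, hgr', ne_eq, inv_smul_eq_iff, hgr']
    exact hmove
  obtain ⟨a, b, hab⟩ := (mem_ovoid_iff.mp (mem_Sz_iff.mp (g⁻¹ * n * g).2 _ (mem_inf m))).resolve_left hm'
  rcases mem_ovoid_iff.mp hp with rfl | ⟨x, y, rfl⟩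
  · exact ⟨1, one_mem N, one_smul _ _⟩
  · obtain ⟨u, hu⟩ : ∃ u, u = uS h x y * (uS h a b)⁻¹ := ⟨_, rfl⟩
    refine ⟨u * (g⁻¹ * n * g) * u⁻¹, hN.conj_mem _ hn' u, ?_⟩
    have hfix : u.1⁻¹ • Cfsg.suzukiPointInfinity F = Cfsg.suzukiPointInfinity F := by
      rw [inv_smul_eq_iff, hu]
      show Cfsg.suzukiPointInfinity F = (uSL m x y * (uSL m a b)⁻¹) • Cfsg.suzukiPointInfinity F
      rw [mul_smul, inv_smul_eq_iff.mpr (uSL_inf a b).symm, uSL_inf]
    show (u.1 * (g⁻¹ * n * g).1 * u.1⁻¹) • Cfsg.suzukiPointInfinity F = pA m x y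
    rw [mul_smul, hfix, mul_smul, hab, hu]
    show (uSL m x y * (uSL m a b)⁻¹) • pA m a b = pA m x y
    rw [mul_smul, inv_smul_eq_iff.mpr (uSL_zero_pt h a b).symm, uSL_zero_pt h]

theorem normal_eq_top (N : Subgroup ↥(Cfsg.Sz F m)) (hN : N.Normal) (hne : N ≠ ⊥) : N = ⊤ := by
  haveI := hN
  obtain ⟨π, hπ, hsurj⟩ : ∃ π : ↥(Cfsg.Sz F m) →* ↥(Cfsg.Sz F m) ⧸ N, π.ker = N ∧ Function.Surjective π :=
    ⟨QuotientGroup.mk' N, QuotientGroup.ker_mk' N, QuotientGroup.mk'_surjective N⟩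
  have hperf : ∀ X : Subgroup (↥(Cfsg.Sz F m) ⧸ N),
      (∀ x y : ↥(Cfsg.Sz F m), ⁅π x, π y⁆ ∈ X) → X = ⊤ := fun X hX => by
    refine eq_top_iff.mpr fun z _ => ?_
    obtain ⟨g, rfl⟩ := hsurj z
    have hle : commutator ↥(Cfsg.Sz F m) ≤ X.comap π := by
      rw [commutator_def, Subgroup.commutator_le]
      intro x _ y _
      rw [Subgroup.mem_comap, map_commutatorElement]
      exact hX x y
    exact hle (by rw [commutator_eq_top h]; trivial)
  have hB : ∀ g, ∃ a b k, π g = π (uS h a b * dS h k) := fun g => by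
    obtain ⟨n, hn, hng⟩ := normal_orbit h N hN hne (mem_Sz_iff.mp g.2 _ (mem_inf m))
    obtain ⟨a, b, k, e⟩ := (mem_stab_inf_iff h).mp (show n⁻¹ * g ∈ MulAction.stabilizer ↥(Cfsg.Sz F m)
      (Cfsg.suzukiPointInfinity F) by
        show (n.1⁻¹ * g.1) • Cfsg.suzukiPointInfinity F = Cfsg.suzukiPointInfinity F
        rw [mul_smul, ← hng, inv_smul_smul])
    refine ⟨a, b, k, ?_⟩
    rw [← e, map_mul, map_inv, MonoidHom.mem_ker.mp (hπ.ge hn), inv_one, one_mul]
  have h1 : (US h).map π = ⊤ := hperf _ fun x y => by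
    obtain ⟨a, b, k, ex⟩ := hB x
    obtain ⟨a', b', k', ey⟩ := hB y
    rw [ex, ey, ← map_commutatorElement]
    refine ⟨_, ?_, rfl⟩
    have e1 : uS h a b * dS h k * (uS h a' b' * dS h k') =
        uS h a b * uS h ((k : F) * a') ((k : F) * th m (k : F) * b') * dS h (k * k') := by
      rw [mul_assoc, ← mul_assoc (dS h k), dS_mul_uS h, map_mul]; group
    have e2 : uS h a' b' * dS h k' * (uS h a b * dS h k) =
        uS h a' b' * uS h ((k' : F) * a) ((k' : F) * th m (k' : F) * b) * dS h (k * k') := by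
      rw [mul_assoc, ← mul_assoc (dS h k'), dS_mul_uS h, mul_comm k k', map_mul]; group
    rw [show ⁅uS h a b * dS h k, uS h a' b' * dS h k'⁆ = uS h a b * dS h k * (uS h a' b' * dS h k') *
      (uS h a' b' * dS h k' * (uS h a b * dS h k))⁻¹ by rw [commutatorElement_def]; group, e1, e2,
      mul_inv_rev, mul_assoc, mul_inv_cancel_left]
    exact mul_mem (mul_mem ⟨_, _, rfl⟩ ⟨_, _, rfl⟩) (inv_mem (mul_mem ⟨_, _, rfl⟩ ⟨_, _, rfl⟩))
  have h2 : (ZS h).map π = ⊤ := hperf _ fun x y => by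
    obtain ⟨u, ⟨a, b, rfl⟩, ex⟩ := h1.ge (Subgroup.mem_top (π x))
    obtain ⟨v, ⟨a', b', rfl⟩, ey⟩ := h1.ge (Subgroup.mem_top (π y))
    rw [← ex, ← ey, ← map_commutatorElement]
    refine ⟨_, ⟨?_, ?_⟩, rfl⟩
    · exact b + b' + th m a * a' + (b' + b + th m a' * a + th m (a + a') * (a + a')) +
        th m (a + a') * (a + a')
    · rw [show ⁅uS h a b, uS h a' b'⁆ = uS h a b * uS h a' b' * (uS h a' b' * uS h a b)⁻¹ by
        rw [commutatorElement_def]; group, uS_mul h, uS_mul h, uS_inv h, uS_mul h, add_comm a' a,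
        add_self h]
  have h3 : (⊥ : Subgroup (↥(Cfsg.Sz F m) ⧸ N)) = ⊤ := hperf _ fun x y => by
    obtain ⟨u, ⟨b, rfl⟩, ex⟩ := h2.ge (Subgroup.mem_top (π x))
    obtain ⟨v, ⟨b', rfl⟩, ey⟩ := h2.ge (Subgroup.mem_top (π y))
    rw [← ex, ← ey, ← map_commutatorElement, Subgroup.mem_bot]
    rw [commutatorElement_eq_one_iff_mul_comm.mpr (by rw [uS_mul h, uS_mul h, th_zero h, zero_mul, add_comm b b']),
      map_one]
  rw [← hπ, eq_top_iff]
  intro g _
  exact Subgroup.mem_bot.mp (h3.ge (Subgroup.mem_top (π g)))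

theorem isSimple : IsSimpleGroup ↥(Cfsg.Sz F m) :=
  haveI : Nontrivial ↥(Cfsg.Sz F m) := by
    refine ⟨⟨uS h 1 0, 1, fun e => ?_⟩⟩
    rw [← uS_zero h] at e
    exact one_ne_zero (uS_inj h e).1
  ⟨fun N hN => or_iff_not_imp_left.mpr fun hne => normal_eq_top h N hN hne⟩

theorem to_inf_zero {p r : ℙ F (Fin 4 → F)} (hp : p ∈ Cfsg.suzukiOvoid F m)
    (hr : r ∈ Cfsg.suzukiOvoid F m) (hne : p ≠ r) :
    ∃ g : ↥(Cfsg.Sz F m), g.1 • p = Cfsg.suzukiPointInfinity F ∧ g.1 • r = pA m 0 0 := by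
  rw [← orbit_inf h] at hp
  obtain ⟨g, hg⟩ := hp
  have hg' : g.1 • Cfsg.suzukiPointInfinity F = p := hg
  obtain ⟨a, b, hab⟩ := (mem_ovoid_iff.mp (mem_Sz_iff.mp (g⁻¹).2 _ hr)).resolve_left fun e => hne (by
    rw [← hg', ← e]; exact smul_inv_smul _ _)
  refine ⟨(uS h a b)⁻¹ * g⁻¹, ?_, ?_⟩
  · show ((uSL m a b)⁻¹ * g.1⁻¹) • p = Cfsg.suzukiPointInfinity F
    rw [mul_smul, inv_smul_eq_iff.mpr hg'.symm, inv_smul_eq_iff, uSL_inf]
  · show ((uSL m a b)⁻¹ * g.1⁻¹) • r = pA m 0 0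
    rw [mul_smul, show g.1⁻¹ • r = pA m a b from hab, inv_smul_eq_iff, uSL_zero_pt h]

theorem card_US : Nat.card ↥(US h) = (2 ^ (2 * m + 1)) ^ 2 := by
  have hb : Function.Bijective fun x : F × F => (⟨uS h x.1 x.2, _, _, rfl⟩ : ↥(US h)) := by
    refine ⟨fun x y e => ?_, fun ⟨g, a, b, e⟩ => ⟨(a, b), Subtype.ext e.symm⟩⟩
    obtain ⟨e1, e2⟩ := uS_inj h (congrArg Subtype.val e)
    exact Prod.ext e1 e2
  rw [← Nat.card_eq_of_bijective _ hb, Nat.card_prod, Nat.card_eq_fintype_card, h.card, sq]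

theorem US_props : Monoid.exponent ↥(US h) = 4 ∧ Subgroup.center ↥(US h) = commutator ↥(US h) ∧
    Nat.card (Subgroup.center ↥(US h)) = 2 ^ (2 * m + 1) := by
  classical
  obtain ⟨u, hu⟩ : ∃ u : F → F → ↥(US h), ∀ a b, (u a b).1 = uS h a b :=
    ⟨fun a b => ⟨uS h a b, a, b, rfl⟩, fun a b => rfl⟩
  have hmul : ∀ a b a' b', u a b * u a' b' = u (a + a') (b + b' + th m a * a') := fun a b a' b' =>
    Subtype.ext (by rw [Subgroup.coe_mul, hu, hu, hu, uS_mul h])
  have hone : u 0 0 = 1 := Subtype.ext (by rw [hu, uS_zero h]; rfl)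
  have hinj : ∀ {a b a' b'}, u a b = u a' b' → a = a' ∧ b = b' := fun e => by
    refine uS_inj h ?_
    rw [← hu, ← hu, e]
  have hsurj : ∀ g : ↥(US h), ∃ a b, g = u a b := fun ⟨g, a, b, e⟩ =>
    ⟨a, b, Subtype.ext (by rw [hu]; exact e)⟩
  have hsq : ∀ a b, u a b ^ 2 = u 0 (th m a * a) := fun a b => by
    rw [sq, hmul, add_self h, add_self h, zero_add]
  have hcent : ∀ a b, u a b ∈ Subgroup.center ↥(US h) ↔ a = 0 := fun a b => by
    rw [Subgroup.mem_center_iff]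
    refine ⟨fun hc => ?_, fun ha g => ?_⟩
    · obtain ⟨k, hk0, hk1⟩ := exists_ne_zero_one h
      have e1 := hc (u 1 0)
      have e2 := hc (u k 0)
      rw [hmul, hmul, th_one h] at e1
      rw [hmul, hmul] at e2
      have f1 : th m a = a := by linear_combination -(hinj e1).2
      rcases th_eq_self h f1 with rfl | rfl
      · rfl
      · have f2 : th m k = k := by
          have := (hinj e2).2
          rw [th_one h] at this
          linear_combination this
        rcases th_eq_self h f2 with rfl | rfl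
        · exact absurd rfl hk0
        · exact absurd rfl hk1
    · obtain ⟨a', b', rfl⟩ := hsurj g
      rw [hmul, hmul, ha, th_zero h, mul_zero, zero_mul, add_zero, zero_add, add_comm b b']
  refine ⟨?_, ?_, ?_⟩
  · refine Nat.dvd_antisymm (Monoid.exponent_dvd_of_forall_pow_eq_one fun g => ?_) ?_
    · obtain ⟨a, b, rfl⟩ := hsurj g
      rw [show u a b ^ 4 = (u a b ^ 2) ^ 2 by rw [← pow_mul], hsq, hsq, th_zero h, zero_mul, hone]
    · have h4 : orderOf (u 1 0) = 2 ^ 2 := by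
        refine orderOf_eq_prime_pow (fun e => ?_) ?_
        · rw [pow_one, hsq, th_one h, mul_one, ← hone] at e
          exact one_ne_zero (hinj e).2
        · rw [show u 1 0 ^ 2 ^ (1 + 1) = (u 1 0 ^ 2) ^ 2 by rw [← pow_mul]; rfl, hsq, hsq, th_zero h, zero_mul, hone]
      have := Monoid.order_dvd_exponent (u 1 0)
      rwa [h4] at this
  · refine le_antisymm (fun g hg => ?_) ?_
    · obtain ⟨a, c, rfl⟩ := hsurj g
      obtain rfl := (hcent a c).mp hg
      obtain ⟨k, hk0, hk1⟩ := exists_ne_zero_one h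
      have hk : th m k + k ≠ 0 := fun e => by
        rcases th_eq_self h (x := k) (by linear_combination e - k * two_eq h) with e' | e'
        exacts [hk0 e', hk1 e']
      haveI := charP_two h
      obtain ⟨c', hc'⟩ : ∃ c', c' = c / (th m k + k) := ⟨_, rfl⟩
      obtain ⟨l, hl⟩ : ∃ l : F, l * th m l = c' := by
        refine (Finite.injective_iff_surjective.mp ?_) c'
        intro x y e
        dsimp only at e
        have e2 := congrArg (th m) e
        rw [th_mul h, th_mul h, th_th h, th_th h] at e2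
        by_cases hx : x = 0
        · subst hx
          rw [th_zero h, mul_zero] at e
          rcases mul_eq_zero.mp e.symm with e' | e'
          exacts [e'.symm, ((th_eq_zero h).mp e').symm]
        · have hm0 : x * th m x ≠ 0 := mul_ne_zero hx fun e' => hx ((th_eq_zero h).mp e')
          exact mul_right_cancel₀ hm0 (by linear_combination e2 - y * e)
      have hcomm : u 0 c = ⁅u l 0, u (l * k) 0⁆ := by
        rw [commutatorElement_def, eq_mul_inv_iff_mul_eq, eq_mul_inv_iff_mul_eq]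
        rw [hmul, hmul, hmul]
        simp only [zero_add, add_zero, zero_mul, th_zero h, th_add h, th_mul h]
        have e0 : c' * (th m k + k) = c := by rw [hc', div_mul_cancel₀ _ hk]
        congr 1
        · ring
        · linear_combination -e0 - (th m k + k) * hl + (th m l * th m k * l) * two_eq h
      rw [hcomm]
      exact Subgroup.commutator_mem_commutator (Subgroup.mem_top _) (Subgroup.mem_top _)
    · rw [commutator_def, Subgroup.commutator_le]
      intro g _ g' _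
      obtain ⟨a, b, rfl⟩ := hsurj g
      obtain ⟨a', b', rfl⟩ := hsurj g'
      obtain ⟨p, r, e⟩ := hsurj ⁅u a b, u a' b'⁆
      rw [e, hcent]
      rw [commutatorElement_def, mul_inv_eq_iff_eq_mul, mul_inv_eq_iff_eq_mul, hmul, hmul, hmul] at e
      linear_combination -(hinj e).1
  · have hb : Function.Bijective fun b : F => (⟨u 0 b, (hcent 0 b).mpr rfl⟩ : Subgroup.center ↥(US h)) := by
      refine ⟨fun x y e => (hinj (congrArg Subtype.val e)).2, fun ⟨g, hg⟩ => ?_⟩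
      obtain ⟨a, b, rfl⟩ := hsurj g
      obtain rfl := (hcent a b).mp hg
      exact ⟨b, rfl⟩
    rw [← Nat.card_eq_of_bijective _ hb, Nat.card_eq_fintype_card, h.card]

theorem sylow_two_equiv (P : Sylow 2 ↥(Cfsg.Sz F m)) : Nonempty (↥(P : Subgroup ↥(Cfsg.Sz F m)) ≃* ↥(US h)) := by
  have hp : IsPGroup 2 ↥(US h) := IsPGroup.of_card (n := (2 * m + 1) * 2) (by rw [card_US h, ← pow_mul])
  have hcard := card_Sz h
  have ho : Nat.card ↥(Cfsg.suzukiOvoid F m) = (2 ^ (2 * m + 1)) ^ 2 + 1 := by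
    classical
    let f : Option (F × F) → ↥(Cfsg.suzukiOvoid F m) := fun o => match o with
      | none => ⟨_, mem_inf m⟩
      | some z => ⟨_, mem_pA m z.1 z.2⟩
    have hb : Function.Bijective f := by
      refine ⟨fun a b e => ?_, ?_⟩
      · have e' := congrArg Subtype.val e
        rcases a with _ | z <;> rcases b with _ | w
        · rfl
        · exact absurd e' (inf_ne_pA m _ _)
        · exact absurd e'.symm (inf_ne_pA m _ _)
        · obtain ⟨e1, e2⟩ := pA_injective e'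
          exact congrArg some (Prod.ext e1 e2)
      · rintro ⟨p, hp⟩
        rcases mem_ovoid_iff.mp hp with rfl | ⟨x, y, rfl⟩
        exacts [⟨none, rfl⟩, ⟨some (x, y), rfl⟩]
    rw [← Nat.card_eq_of_bijective f hb, Nat.card_eq_fintype_card, Fintype.card_option,
      Fintype.card_prod, h.card, sq]
  haveI : Fact (Nat.Prime 2) := ⟨Nat.prime_two⟩
  have hodd : ¬ 2 ∣ (US h).index := by
    rw [ho, ← Subgroup.index_mul_card (US h), card_US h] at hcard
    have hi : (US h).index = ((2 ^ (2 * m + 1)) ^ 2 + 1) * (2 ^ (2 * m + 1) - 1) :=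
      Nat.eq_of_mul_eq_mul_right (by positivity) (hcard.trans (by ring))
    rw [hi, Nat.prime_two.dvd_mul]
    have he : 2 ∣ 2 ^ (2 * m + 1) := dvd_pow_self 2 (by omega)
    have hpos : 1 ≤ 2 ^ (2 * m + 1) := Nat.one_le_two_pow
    have he2 : 2 ∣ (2 ^ (2 * m + 1)) ^ 2 := dvd_pow he two_ne_zero
    rintro (h' | h') <;> omega
  obtain ⟨Q, hQ⟩ : ∃ Q : Sylow 2 ↥(Cfsg.Sz F m), (Q : Subgroup _) = US h :=
    ⟨hp.toSylow hodd, IsPGroup.toSylow_coe _ _⟩
  exact ⟨(Sylow.equiv P Q).trans (MulEquiv.subgroupCongr hQ)⟩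

end Cfsg.Lib.Linear.Suz
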