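import Cfsg.Agent.Lib.Linear.Suzuki.LieForm
import Cfsg.Agent.Lib.Linear.Suzuki.Simple
import Cfsg.Agent.Lib.Linear.Suzuki.Sylow
import Cfsg.Agent.Lib.TwoGroup.Linearized
import Cfsg.Prelude.Def_Solvable
import Cfsg.Prelude.Def_Transfer

/-!
# The automorphism group of a Sylow `2`-subgroup of a Suzuki group
-/

set_option autoImplicit false

namespace Cfsg.Agent.SuzAut

open Cfsg.Lib.Linear.Suz Cfsg.Lib.Suzuki2

variable {F : Type*} [Field F] [Fintype F] {m : ℕ}

/-- the monomials -/
def mono (m : ℕ) (i : Fin (2 * m + 1)) (x : F) : F := x ^ 2 ^ (i : ℕ)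

/-- the index of the twisting automorphism -/
def sIdx (m : ℕ) : Fin (2 * m + 1) := Fin.ofNat (2 * m + 1) (m + 1)

theorem th_mono (h : Params F m) (i : Fin (2 * m + 1)) (x : F) : th m (mono m i x) = mono m (i + sIdx m) x := by
  have := charP_two h
  simp only [th, mono, sIdx, ← pow_mul, ← pow_add]
  rw [pow_two_pow_add h.card x (↑i + (m + 1))]
  simp [Fin.val_add, Nat.add_mod]

theorem sIdx_facts (hm : 1 ≤ m) (a : Fin (2 * m + 1)) :
    a + sIdx m ≠ a ∧ a - sIdx m - sIdx m - sIdx m - sIdx m ≠ a ∧ a - sIdx m - sIdx m ≠ a := by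
  have hval : (sIdx m : ℕ) = m + 1 := Nat.mod_eq_of_lt (by omega)
  have h2 : sIdx m + sIdx m = 1 := Fin.ext (by
    rw [Fin.val_add, hval, Fin.val_one', show m + 1 + (m + 1) = 1 + (2 * m + 1) by ring, Nat.add_mod_right])
  refine ⟨fun e => ?_, fun e => ?_, fun e => ?_⟩
  · have := congrArg Fin.val (add_eq_left.1 e)
    rw [hval, Fin.val_zero] at this
    omega
  · rw [show a - sIdx m - sIdx m - sIdx m - sIdx m = a - (sIdx m + sIdx m + (sIdx m + sIdx m)) by abel, h2,
      sub_eq_self] at e
    have := congrArg Fin.val e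
    rw [Fin.val_add, Fin.val_one', Fin.val_zero, Nat.mod_eq_of_lt (show 1 < 2 * m + 1 by omega),
      Nat.mod_eq_of_lt (show 1 + 1 < 2 * m + 1 by omega)] at this
    omega
  · rw [show a - sIdx m - sIdx m = a - (sIdx m + sIdx m) by abel, h2, sub_eq_self] at e
    have := congrArg Fin.val e
    rw [Fin.val_one', Fin.val_zero, Nat.mod_eq_of_lt (show 1 < 2 * m + 1 by omega)] at this
    omega

/-- An additive bijection commuting with the norm map `a ↦ a θ(a)` up to an additive map is monomial. -/
theorem monomial_of_compat (h : Params F m) (α β : F → F) (hα : ∀ x y, α (x + y) = α x + α y)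
    (hβ : ∀ x y, β (x + y) = β x + β y) (hinj : Function.Injective α)
    (hq : ∀ a, th m (α a) * α a = β (th m a * a)) :
    ∃ (c : Fˣ) (t : Fin (2 * m + 1)), ∀ x, α x = (c : F) * mono m t x := by
  classical
  have := charP_two h
  set σ := sIdx m
  obtain ⟨c, hc⟩ := exists_coeff h.card α hα
  obtain ⟨d, hd⟩ := exists_coeff h.card β hβ
  change ∀ x, α x = ∑ i, c i * mono m i x at hc
  change ∀ x, β x = ∑ i, d i * mono m i x at hd
  have hth0 : ∀ {x : F}, th m x = 0 → x = 0 := fun hx => (th_eq_zero h).1 hx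
  let thA : F →+ F := AddMonoidHom.mk' (th m) (th_add h)
  have hmul : ∀ i (x y : F), mono m i (x * y) = mono m i x * mono m i y := fun i x y => mul_pow x y _
  have huniq : ∀ a : Fin (2 * m + 1) → F, (∀ x, ∑ i, a i * mono m i x = 0) → a = 0 := fun a ha =>
    coeff_unique h.card a ha
  -- the matrix of the difference
  let E : Fin (2 * m + 1) → Fin (2 * m + 1) → F := fun I J =>
    th m (c (I - σ)) * c J - if I = J + σ then d J else 0
  have hE : ∀ a b : F, ∑ I, ∑ J, E I J * (mono m I a * mono m J b) =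
      th m (α a) * α b - ∑ J, d J * (mono m (J + σ) a * mono m J b) := by
    intro a b
    have h1 : th m (α a) = ∑ I, th m (c (I - σ)) * mono m I a := by
      rw [hc a, show th m (∑ i, c i * mono m i a) = ∑ i, th m (c i * mono m i a) from map_sum thA _ _]
      refine (Fintype.sum_equiv (Equiv.addRight σ) _ _ fun i => ?_)
      rw [Equiv.coe_addRight, add_sub_cancel_right, th_mul h, th_mono h]
    rw [h1, hc b, Finset.sum_mul_sum]
    have h2 : ∑ J, d J * (mono m (J + σ) a * mono m J b) =
        ∑ I, ∑ J, (if I = J + σ then d J else 0) * (mono m I a * mono m J b) := by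
      rw [Finset.sum_comm]
      exact Finset.sum_congr rfl fun J _ => by simp
    rw [h2, ← Finset.sum_sub_distrib]
    refine Finset.sum_congr rfl fun I _ => ?_
    rw [← Finset.sum_sub_distrib]
    exact Finset.sum_congr rfl fun J _ => by simp only [E]; ring
  let Q : F → F → F := fun a b => ∑ I, ∑ J, E I J * (mono m I a * mono m J b)
  have hQd : ∀ a, Q a a = 0 := fun a => by
    simp only [Q]
    rw [hE, hq, hd, sub_eq_zero]
    exact Finset.sum_congr rfl fun J _ => by
      rw [hmul, ← th_mono h, show mono m J (th m a) = th m (mono m J a) by simp only [th, mono, ← pow_mul, mul_comm]]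
  have hpol : ∀ a b, Q a b + Q b a = 0 := fun a b => by
    have h1 := hQd (a + b)
    have h2 : ∀ i (x y : F), mono m i (x + y) = mono m i x + mono m i y := fun i x y =>
      add_pow_char_pow x y 2 _
    have h3 : Q (a + b) (a + b) = Q a a + Q a b + (Q b a + Q b b) := by
      simp only [Q, ← Finset.sum_add_distrib, h2]
      exact Finset.sum_congr rfl fun I _ => Finset.sum_congr rfl fun J _ => by ring
    rw [h3, hQd, hQd] at h1
    linear_combination h1
  have hsymm : ∀ I J, E I J + E J I = 0 := by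
    intro I J
    have h1 : ∀ b : F, (fun I => ∑ J, (E I J + E J I) * mono m J b) = 0 := fun b => huniq _ fun a => by
      rw [← hpol a b]
      simp only [Q]
      conv_rhs => arg 2; rw [Finset.sum_comm]
      rw [← Finset.sum_add_distrib]
      refine Finset.sum_congr rfl fun I _ => ?_
      rw [Finset.sum_mul, ← Finset.sum_add_distrib]
      exact Finset.sum_congr rfl fun J _ => by ring
    exact congrFun (huniq (fun J => E I J + E J I) fun b => congrFun (h1 b) I) J
  have hdiag : ∀ I, E I I = 0 := by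
    obtain ⟨g, hg⟩ : ∃ g : Fin (2 * m + 1) → F, ∀ I, g I ^ 2 = E I I :=
      ⟨_, fun I => ((PerfectRing.bijective_frobenius (R := F) (p := 2)).2 (E I I)).choose_spec⟩
    have h0 : ∀ a, ∑ I, g I * mono m I a = 0 := by
      intro a
      have h1 : (∑ I, g I * mono m I a) ^ 2 = Q a a := by
        rw [sum_pow_char 2]
        simp only [Q]
        rw [← Finset.sum_product']
        symm
        rw [← Finset.sum_filter_add_sum_filter_not _ (fun p : Fin (2 * m + 1) × Fin (2 * m + 1) => p.1 = p.2)]
        have hoff : ∑ p ∈ (Finset.univ ×ˢ Finset.univ).filter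
            (fun p : Fin (2 * m + 1) × Fin (2 * m + 1) => ¬ p.1 = p.2),
            E p.1 p.2 * (mono m p.1 a * mono m p.2 a) = 0 := by
          refine Finset.sum_involution (fun p _ => (p.2, p.1)) (fun p _ => ?_) (fun p hp _ e => ?_) (fun p hp => ?_)
            (fun p _ => rfl)
          · linear_combination (mono m p.1 a * mono m p.2 a) * hsymm p.1 p.2
          · simp at hp
            exact hp (congrArg Prod.snd e)
          · simp at hp ⊢
            exact fun e => hp e.symm
        rw [hoff, add_zero]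
        refine (Finset.sum_bij' (fun p _ => p.1) (fun I _ => (I, I)) (by simp) (by simp) ?_ (by simp) ?_)
        · intro p hp
          simp at hp
          ext <;> simp [hp]
        · intro p hp
          simp at hp
          rw [← hp, ← hg]
          ring
      rw [hQd] at h1
      exact eq_zero_of_pow_eq_zero h1
    intro I
    rw [← hg I, show g I = 0 from congrFun (huniq g h0) I]
    exact zero_pow two_ne_zero
  obtain ⟨a, ha⟩ : ∃ a, c a ≠ 0 := by
    by_contra hc0
    push Not at hc0
    exact one_ne_zero (hinj (show α 1 = α 0 by simp [hc, hc0]))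
  have step : ∀ a b, c a ≠ 0 → c b ≠ 0 → b = a ∨ b = a - σ - σ := by
    intro a b ha hb
    have hz : ∀ I, c (I - σ) = 0 ∨ c I = 0 := fun I => by
      have h1 := hdiag I
      simp only [E, if_neg (fun e : I = I + σ => (sIdx_facts h.pos I).1 e.symm), sub_zero] at h1
      exact (mul_eq_zero.1 h1).imp_left hth0
    by_contra hne
    push Not at hne
    have h1 := hsymm (b + σ) a
    simp only [E, add_sub_cancel_right] at h1
    rw [if_neg (fun e => hne.1 (add_right_cancel e)),
      if_neg (fun e => hne.2 (by rw [e]; abel)), sub_zero, sub_zero,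
      (hz a).resolve_right ha, th_zero h, zero_mul, add_zero] at h1
    rcases mul_eq_zero.1 h1 with h1 | h1
    exacts [hb (hth0 h1), ha h1]
  have only : ∀ b, c b ≠ 0 → b = a := by
    intro b hb
    refine (step a b ha hb).resolve_right fun e => ?_
    rcases step b a hb ha with h1 | h1
    · exact (sIdx_facts h.pos a).2.2 (e ▸ h1.symm)
    · exact (sIdx_facts h.pos a).2.1 (by rw [e] at h1; exact h1.symm)
  refine ⟨Units.mk0 (c a) ha, a, fun x => ?_⟩
  rw [hc, Finset.sum_eq_single a (fun b _ hb => ?_) (by simp)]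
  · rfl
  · rw [by_contra fun hh => hb (only b hh), zero_mul]

/-- A group with Suzuki coordinates. -/
structure Coord (F : Type*) [Field F] (m : ℕ) (S : Type*) [Group S] where
  e : F × F ≃ S
  hmul : ∀ a b a' b', e (a, b) * e (a', b') = e (a + a', b + b' + th m a * a')

namespace Coord

variable {S : Type*} [Group S] (C : Coord F m S) (h : Params F m)

/-- first coordinate -/
def fst (s : S) : F := (C.e.symm s).1

/-- second coordinate -/
def snd (s : S) : F := (C.e.symm s).2

theorem fst_e (a b : F) : C.fst (C.e (a, b)) = a := by simp [fst]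

theorem snd_e (a b : F) : C.snd (C.e (a, b)) = b := by simp [snd]

theorem eta (s : S) : C.e (C.fst s, C.snd s) = s := by simp [fst, snd]

theorem one_eq (h : Params F m) : (1 : S) = C.e (0, 0) := by
  symm
  rw [← mul_eq_left (a := C.e (0, 0)), C.hmul, th_zero h]
  simp

theorem fst_mul (s t : S) : C.fst (s * t) = C.fst s + C.fst t := by
  rw [← C.eta s, ← C.eta t, C.hmul, fst_e, fst_e, fst_e]

theorem sq_eq (h : Params F m) (s : S) : s * s = C.e (0, th m (C.fst s) * C.fst s) := by
  conv_lhs => rw [← C.eta s, C.hmul, add_self h, add_self h, zero_add]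

theorem fst_zero_iff (h : Params F m) (s : S) : C.fst s = 0 ↔ s * s = 1 := by
  rw [C.sq_eq h, C.one_eq h, EmbeddingLike.apply_eq_iff_eq]
  constructor
  · intro e; simp [e, th_zero h]
  · intro e
    rcases mul_eq_zero.1 (congrArg Prod.snd e) with h' | h'
    exacts [(th_eq_zero h).1 h', h']

theorem snd_mul_left (h : Params F m) {s : S} (hs : C.fst s = 0) (t : S) :
    C.snd (s * t) = C.snd s + C.snd t := by
  conv_lhs => rw [← C.eta s, ← C.eta t, C.hmul, snd_e, hs, th_zero h]
  ring

/-- the action on the quotient by the centre -/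
def al (φ : MulAut S) (a : F) : F := C.fst (φ (C.e (a, 0)))

include h in
theorem fst_apply (φ : MulAut S) (s : S) : C.fst (φ s) = C.al φ (C.fst s) := by
  have hz : C.e (0, C.snd s) * C.e (C.fst s, 0) = s := by
    rw [C.hmul, th_zero h]; simp [C.eta]
  conv_lhs => rw [← hz, map_mul, fst_mul]
  rw [show C.fst (φ (C.e (0, C.snd s))) = 0 from ?_, zero_add]
  · rfl
  · rw [C.fst_zero_iff h, ← map_mul, (C.fst_zero_iff h _).1 (C.fst_e _ _), map_one]

include h in
theorem al_add (φ : MulAut S) (x y : F) : C.al φ (x + y) = C.al φ x + C.al φ y := by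
  have := C.fst_apply h φ (C.e (x, 0) * C.e (y, 0))
  rw [map_mul, fst_mul, C.fst_mul, fst_e, fst_e] at this
  exact this.symm

include h in
theorem al_mul (φ ψ : MulAut S) (x : F) : C.al (φ * ψ) x = C.al φ (C.al ψ x) :=
  C.fst_apply h φ _

/-- the action on the quotient, as a homomorphism -/
def alHom : MulAut S →* Function.End F where
  toFun φ := C.al φ
  map_one' := funext fun a => C.fst_e a 0
  map_mul' φ ψ := funext fun x => C.al_mul h φ ψ x

include h in
theorem al_injective (φ : MulAut S) : Function.Injective (C.al φ) := fun x y e => by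
  have h1 := C.al_mul h φ⁻¹ φ x
  have h2 := C.al_mul h φ⁻¹ φ y
  rw [inv_mul_cancel] at h1 h2
  rw [e, ← h2] at h1
  simpa [al, fst_e] using h1

include h in
theorem al_monomial (φ : MulAut S) : ∃ (c : Fˣ) (t : Fin (2 * m + 1)), ∀ x, C.al φ x = (c : F) * mono m t x := by
  refine monomial_of_compat h (C.al φ) (fun b => C.snd (φ (C.e (0, b)))) (C.al_add h φ) (fun x y => ?_)
    (C.al_injective h φ) fun a => ?_
  · have h0 : C.e (0, x + y) = C.e (0, x) * C.e (0, y) := by rw [C.hmul, th_zero h]; simp
    rw [h0, map_mul, C.snd_mul_left h]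
    rw [C.fst_zero_iff h, ← map_mul, (C.fst_zero_iff h _).1 (C.fst_e _ _), map_one]
  · show th m (C.fst (φ (C.e (a, 0)))) * C.fst (φ (C.e (a, 0))) = _
    have h1 := congrArg φ (C.sq_eq h (C.e (a, 0)))
    rw [map_mul, C.sq_eq h, fst_e] at h1
    rw [← h1, snd_e]

/-- the monomial automorphisms -/
noncomputable def lift (c : Fˣ) (t : Fin (2 * m + 1)) : MulAut S :=
  haveI := charP_two h
  haveI : Finite S := Finite.of_equiv _ C.e
  let f : S → S := fun s => C.e ((c : F) * mono m t (C.fst s), th m (c : F) * c * mono m t (C.snd s))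
  MulEquiv.ofBijective (MonoidHom.mk' f fun x y => by
      conv_lhs => rw [← C.eta x, ← C.eta y, C.hmul]
      simp only [f, fst_e, snd_e, C.hmul]
      have hadd : ∀ u v : F, mono m t (u + v) = mono m t u + mono m t v := fun u v => add_pow_char_pow u v 2 _
      have hth : ∀ u : F, th m (mono m t u) = mono m t (th m u) := fun u => by simp only [th, mono, ← pow_mul, mul_comm]
      refine congrArg C.e (Prod.ext ?_ ?_)
      · simp only [hadd]; ring
      · simp only [hadd, th_mul h, hth, show ∀ u v : F, mono m t (u * v) = mono m t u * mono m t v from fun u v => mul_pow u v _]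
        ring)
    (Finite.injective_iff_bijective (α := S).1 fun x y e => by
      simp only [MonoidHom.mk'_apply, f, EmbeddingLike.apply_eq_iff_eq, Prod.mk.injEq] at e
      have hinj : Function.Injective (mono (F := F) m t) := iterateFrobenius_inj F 2 (t : ℕ)
      have hc : th m (c : F) * c ≠ 0 := mul_ne_zero ((th_eq_zero h).not.2 c.ne_zero) c.ne_zero
      rw [← C.eta x, ← C.eta y, hinj (mul_left_cancel₀ c.ne_zero e.1), hinj (mul_left_cancel₀ hc e.2)])

variable (C : Coord F m S)

theorem al_lift (c : Fˣ) (t : Fin (2 * m + 1)) (x : F) : C.al (C.lift h c t) x = (c : F) * mono m t x := by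
  simp [al, lift, fst_e]

/-- automorphisms that are trivial on the quotient by the centre -/
theorem ker_apply {φ : MulAut S} (hφ : φ ∈ (C.alHom h).toHomUnits.ker) :
    (∀ s, C.fst (φ s) = C.fst s) ∧ (∀ b, φ (C.e (0, b)) = C.e (0, b)) := by
  have h1 : ∀ x, C.al φ x = x := fun x => congrFun (congrArg (fun u : (Function.End F)ˣ => (u : Function.End F)) hφ) x
  refine ⟨fun s => by rw [C.fst_apply h, h1], fun b => ?_⟩
  obtain ⟨a, ha⟩ : ∃ a, th m a * a = b := by
    have hinj : Function.Injective fun a : F => th m a * a := by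
      intro x y e
      simp only at e
      rcases eq_or_ne y 0 with rfl | hy
      · rw [th_zero h, zero_mul] at e
        rcases mul_eq_zero.1 e with h' | h'
        exacts [(th_eq_zero h).1 h', h']
      have hz : th m (x / y) * (x / y) = 1 := by
        rw [div_eq_mul_inv, th_mul h, th_inv h]
        field_simp [(th_eq_zero h).not.2 hy]
        linear_combination e
      have hne : x / y ≠ 0 := fun e0 => by rw [e0, mul_zero] at hz; exact zero_ne_one hz
      have h3 := congrArg (th m) hz
      rw [th_mul h, th_th h, th_one h] at h3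
      have h4 : x / y = 1 := by linear_combination h3 - (x / y) * hz
      exact (div_eq_one_iff_eq hy).1 h4
    exact Finite.injective_iff_surjective.1 hinj b
  have h2 := congrArg φ (C.sq_eq h (C.e (a, 0)))
  rw [map_mul, C.sq_eq h, C.fst_e, C.fst_apply h, h1, C.fst_e, ha] at h2
  exact h2.symm

/-- additive maps into the centre -/
noncomputable def shift (f : F →+ F) : MulAut S :=
  haveI : Finite S := Finite.of_equiv _ C.e
  let g : S → S := fun s => C.e (C.fst s, C.snd s + f (C.fst s))
  MulEquiv.ofBijective (MonoidHom.mk' g fun x y => by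
      conv_lhs => rw [← C.eta x, ← C.eta y, C.hmul]
      simp only [g, C.fst_e, C.snd_e, C.hmul, map_add]
      exact congrArg C.e (Prod.ext rfl (by ring)))
    (Finite.injective_iff_bijective (α := S).1 fun x y e => by
      simp only [MonoidHom.mk'_apply, g, EmbeddingLike.apply_eq_iff_eq, Prod.mk.injEq] at e
      rw [← C.eta x, ← C.eta y, e.1, add_right_cancel (e.2.trans (by rw [e.1]))])

theorem shift_mem (f : F →+ F) : C.shift f ∈ (C.alHom h).toHomUnits.ker :=
  Units.ext (funext fun x => by
    show C.fst (C.shift f (C.e (x, 0))) = x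
    simp [shift, C.fst_e])

theorem exists_shift {φ : MulAut S} (hφ : φ ∈ (C.alHom h).toHomUnits.ker) : ∃ f, φ = C.shift f := by
  obtain ⟨h1, h2⟩ := C.ker_apply h hφ
  have hz : ∀ s, φ s = C.e (C.fst s, C.snd s + C.snd (φ (C.e (C.fst s, 0)))) := fun s => by
    have he : C.e (0, C.snd s) * C.e (C.fst s, 0) = s := by
      rw [C.hmul, th_zero h]; simp [C.eta]
    conv_lhs => rw [← he, map_mul, h2, ← C.eta (φ (C.e (C.fst s, 0))), h1, C.fst_e, C.hmul, th_zero h]
    simp
  refine ⟨AddMonoidHom.mk' (fun a => C.snd (φ (C.e (a, 0)))) fun x y => ?_, MulEquiv.ext fun s => ?_⟩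
  · have h3 := congrArg C.snd (map_mul φ (C.e (x, 0)) (C.e (y, 0)))
    rw [C.hmul, hz (C.e (x + y, _)), C.snd_e, C.fst_e, C.snd_e, hz (C.e (x, 0)), hz (C.e (y, 0)), C.fst_e, C.fst_e,
      C.snd_e, C.snd_e, C.hmul, C.snd_e] at h3
    linear_combination h3
  · conv_lhs => rw [hz]
    simp [shift]

theorem shift_injective : Function.Injective C.shift := fun f g e => AddMonoidHom.ext fun a => by
  have := congrArg (fun φ : MulAut S => C.snd (φ (C.e (a, 0)))) e
  simpa [shift, C.fst_e, C.snd_e] using this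

theorem shift_mul (f g : F →+ F) : C.shift f * C.shift g = C.shift (f + g) := MulEquiv.ext fun s => by
  simp [shift, C.fst_e, C.snd_e, MulAut.mul_apply, add_assoc, add_comm (g (C.fst s))]

theorem shift_zero : C.shift 0 = 1 := MulEquiv.ext fun s => by simp [shift, C.eta]

include h in
theorem card_addHom : Nat.card (F →+ F) = 2 ^ ((2 * m + 1) ^ 2) := by
  have := charP_two h
  let f : (Fin (2 * m + 1) → F) → (F →+ F) := fun a =>
    AddMonoidHom.mk' (fun x => ∑ i, a i * x ^ 2 ^ (i : ℕ)) fun x y => by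
      rw [← Finset.sum_add_distrib]
      exact Finset.sum_congr rfl fun i _ => by rw [add_pow_char_pow x y 2 _, mul_add]
  have hf : Function.Bijective f := by
    refine ⟨fun a b e => sub_eq_zero.1 (coeff_unique h.card _ fun x => ?_), fun g => ?_⟩
    · have := DFunLike.congr_fun e x
      simp only [f, AddMonoidHom.mk'_apply] at this
      simp only [Pi.sub_apply, sub_mul, Finset.sum_sub_distrib, this, sub_self]
    · obtain ⟨a, ha⟩ := exists_coeff h.card g (map_add g)
      exact ⟨a, AddMonoidHom.ext fun x => (ha x).symm⟩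
  rw [← Nat.card_eq_of_bijective f hf, Nat.card_fun, Nat.card_fin, Nat.card_eq_fintype_card, h.card, ← pow_mul, sq]

theorem card_ker : Nat.card (C.alHom h).toHomUnits.ker = 2 ^ ((2 * m + 1) ^ 2) := by
  rw [← card_addHom h]
  symm
  refine Nat.card_eq_of_bijective (fun f => ⟨C.shift f, C.shift_mem h f⟩) ⟨fun f g e => ?_, fun φ => ?_⟩
  · exact C.shift_injective (congrArg Subtype.val e)
  · obtain ⟨f, hf⟩ := C.exists_shift h φ.2
    exact ⟨f, Subtype.ext hf.symm⟩

theorem card_range : Nat.card (C.alHom h).toHomUnits.range = (2 * m + 1) * (2 ^ (2 * m + 1) - 1) := by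
  have := charP_two h
  have hc : Nat.card (Fˣ × Fin (2 * m + 1)) = (2 * m + 1) * (2 ^ (2 * m + 1) - 1) := by
    rw [Nat.card_prod, Nat.card_units, Nat.card_fin, Nat.card_eq_fintype_card, h.card, mul_comm]
  rw [← hc]
  symm
  refine Nat.card_eq_of_bijective (fun z => ⟨(C.alHom h).toHomUnits (C.lift h z.1 z.2), ⟨_, rfl⟩⟩) ⟨?_, ?_⟩
  · rintro ⟨c, t⟩ ⟨c', t'⟩ e
    have h1 : ∀ x, (c : F) * mono m t x = (c' : F) * mono m t' x := fun x => by
      rw [← C.al_lift h, ← C.al_lift h]
      exact congrFun (congrArg (fun u : (Function.End F)ˣ => (u : Function.End F)) (congrArg Subtype.val e)) x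
    have hcc : c = c' := Units.ext (by simpa [mono] using h1 1)
    subst hcc
    refine Prod.ext rfl ?_
    by_contra hne
    have h2 := coeff_unique h.card (Pi.single t (1 : F) - Pi.single t' 1) fun x => by
      simp only [Pi.sub_apply, sub_mul, Finset.sum_sub_distrib]
      rw [Finset.sum_eq_single t (fun i _ hi => by simp [hi]) (by simp),
        Finset.sum_eq_single t' (fun i _ hi => by simp [hi]) (by simp)]
      simpa [sub_eq_zero, mono] using mul_left_cancel₀ c.ne_zero (h1 x)
    simpa [Ne.symm hne, hne] using congrFun h2 t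
  · rintro ⟨_, φ, rfl⟩
    obtain ⟨c, t, hct⟩ := C.al_monomial h φ
    exact ⟨(c, t), Subtype.ext (Units.ext (funext fun x => (C.al_lift h c t x).trans (hct x).symm))⟩

include C h in
/-- The three claims for a group with coordinates. -/
theorem main : Cfsg.IsElementaryAbelian 2 (Cfsg.pCore 2 (MulAut S)) ∧
    Nat.card ↥(Cfsg.pCore 2 (MulAut S)) = 2 ^ ((2 * m + 1) ^ 2) ∧
      Nat.card (MulAut S) = 2 ^ ((2 * m + 1) ^ 2) * ((2 * m + 1) * (2 ^ (2 * m + 1) - 1)) := by
  set χ := (C.alHom h).toHomUnits
  haveI : Finite S := Finite.of_equiv _ C.e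
  haveI : Finite (MulAut S) := Finite.of_injective (fun f : MulAut S => (f : S → S)) DFunLike.coe_injective
  have hcore : Cfsg.pCore 2 (MulAut S) = χ.ker := by
    refine le_antisymm (sSup_le ?_) (le_sSup ⟨MonoidHom.normal_ker χ, IsPGroup.of_card (C.card_ker h)⟩)
    rintro N ⟨-, hN⟩ x hx
    rw [MonoidHom.mem_ker]
    obtain ⟨k, hk⟩ := hN ⟨x, hx⟩
    have hk' : x ^ 2 ^ k = 1 := congrArg Subtype.val hk
    have h1 : (⟨χ x, ⟨x, rfl⟩⟩ : χ.range) = 1 := by
      rw [← orderOf_eq_one_iff]
      refine Nat.eq_one_of_dvd_coprimes ?_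
        (orderOf_dvd_of_pow_eq_one (Subtype.ext (by
          show (χ x) ^ 2 ^ k = 1
          rw [← map_pow, hk', map_one]) : (⟨χ x, ⟨x, rfl⟩⟩ : χ.range) ^ 2 ^ k = 1))
        (orderOf_dvd_natCard _)
      rw [C.card_range h]
      refine Nat.Coprime.pow_left k (Nat.coprime_two_left.2 ?_)
      rw [Nat.odd_mul]
      exact ⟨⟨m, by ring⟩, Nat.Even.sub_odd Nat.one_le_two_pow (Nat.even_pow.2 ⟨even_two, by omega⟩) odd_one⟩
    exact congrArg Subtype.val h1
  rw [hcore]
  refine ⟨⟨⟨⟨fun a b => Subtype.ext ?_⟩⟩, fun a ha => ?_⟩, C.card_ker h, ?_⟩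
  · obtain ⟨f, hf⟩ := C.exists_shift h a.2
    obtain ⟨g, hg⟩ := C.exists_shift h b.2
    show (a : MulAut S) * b = b * a
    rw [hf, hg, C.shift_mul, C.shift_mul, add_comm]
  · obtain ⟨f, rfl⟩ := C.exists_shift h ha
    have hff : f + f = 0 := AddMonoidHom.ext fun x => add_self h (f x)
    rw [sq, C.shift_mul, hff, C.shift_zero]
  · rw [← C.card_range h, ← C.card_ker h, ← Subgroup.index_ker χ, Subgroup.card_mul_index]

end Coord

/-- The coordinates of a group isomorphic to a Sylow `2`-subgroup. -/
theorem exists_coord (h : Params F m) {S : Type*} [Group S]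
    (P : Sylow 2 ↥(Cfsg.Lie.Sz F (2 ^ (m + 1)))) (φ : S ≃* ↥(P : Subgroup ↥(Cfsg.Lie.Sz F (2 ^ (m + 1))))) :
    Nonempty (Coord F m S) := by
  classical
  haveI : Fact (Nat.Prime 2) := ⟨Nat.prime_two⟩
  obtain ⟨π, -⟩ := exists_lie_equiv h
  haveI : Finite ↥(Cfsg.Lie.Sz F (2 ^ (m + 1))) := Finite.of_equiv _ π.toEquiv
  have hp : IsPGroup 2 ↥((US h).map π.toMonoidHom) := by
    refine IsPGroup.of_card (n := (2 * m + 1) * 2) ?_
    rw [Subgroup.card_map_of_injective π.injective, card_US h, ← pow_mul]
  have hidx : ¬ 2 ∣ ((US h).map π.toMonoidHom).index := by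
    rw [Subgroup.index_map_of_bijective π.bijective]
    have hc := (US h).index_mul_card
    rw [card_Sz' h, card_US h] at hc
    have hi : (US h).index = ((2 ^ (2 * m + 1)) ^ 2 + 1) * (2 ^ (2 * m + 1) - 1) :=
      Nat.eq_of_mul_eq_mul_right (by positivity) (hc.trans (by ring))
    rw [hi, Nat.prime_two.dvd_mul]
    have he : 2 ∣ 2 ^ (2 * m + 1) := dvd_pow_self 2 (by omega)
    have hpos : 1 ≤ 2 ^ (2 * m + 1) := Nat.one_le_two_pow
    have he2 : 2 ∣ (2 ^ (2 * m + 1)) ^ 2 := dvd_pow he two_ne_zero
    rintro (h' | h') <;> omega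
  let Q : Sylow 2 ↥(Cfsg.Lie.Sz F (2 ^ (m + 1))) := hp.toSylow hidx
  have hQ : (Q : Subgroup ↥(Cfsg.Lie.Sz F (2 ^ (m + 1)))) = (US h).map π.toMonoidHom := IsPGroup.toSylow_coe _ _
  let ε : ↥(US h) ≃* S :=
    (((Subgroup.equivMapOfInjective (US h) π.toMonoidHom π.injective).trans
      (MulEquiv.subgroupCongr hQ.symm)).trans (Sylow.equiv Q P)).trans φ.symm
  have hb : Function.Bijective fun x : F × F => (⟨uS h x.1 x.2, _, _, rfl⟩ : ↥(US h)) :=
    ⟨fun x y e => by
      obtain ⟨e1, e2⟩ := uSL_injective (congrArg (fun z : ↥(US h) => z.1.1) e)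
      exact Prod.ext e1 e2, fun z => by obtain ⟨g, a, b, rfl⟩ := z; exact ⟨(a, b), rfl⟩⟩
  refine ⟨⟨(Equiv.ofBijective _ hb).trans ε.toEquiv, fun a b a' b' => ?_⟩⟩
  simp only [Equiv.trans_apply, MulEquiv.toEquiv_eq_coe, EquivLike.coe_coe, Equiv.ofBijective_apply, ← map_mul]
  exact congrArg ε (Subtype.ext (Subtype.ext (uSL_mul h a b a' b')))

end Cfsg.Agent.SuzAut
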