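import Cfsg.Agent.Lib.Linear.Suzuki.Elems

/-!
# Stabilisers and order of the Suzuki groups

The two point stabiliser consists of the diagonal elements, a point stabiliser is the semidirect
product of the unipotent and the diagonal elements, and the group is transitive on the ovoid.
-/

set_option autoImplicit false

namespace Cfsg.Lib.Linear.Suz

open scoped Matrix LinearAlgebra.Projectivization
open Projectivization

variable {F : Type*} [Field F]

/-- The affine point with parameters `x`, `y`. -/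
def pA (m : ℕ) (x y : F) : ℙ F (Fin 4 → F) := Projectivization.mk F (pv m x y) (pv_ne m x y)

theorem mem_ovoid_iff {m : ℕ} {p : ℙ F (Fin 4 → F)} :
    p ∈ Cfsg.suzukiOvoid F m ↔ p = Cfsg.suzukiPointInfinity F ∨ ∃ x y, p = pA m x y := by
  constructor
  · rintro ⟨v, hv, rfl, rfl | ⟨x, y, rfl⟩⟩
    · exact Or.inl rfl
    · refine Or.inr ⟨x, y, ?_⟩
      simp only [pA, pv_eq]
  · rintro (rfl | ⟨x, y, rfl⟩)
    · exact ⟨_, _, rfl, Or.inl rfl⟩
    · exact ⟨_, pv_ne m x y, rfl, Or.inr ⟨x, y, pv_eq m x y⟩⟩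

theorem mem_inf (m : ℕ) : Cfsg.suzukiPointInfinity F ∈ Cfsg.suzukiOvoid F m :=
  mem_ovoid_iff.mpr (Or.inl rfl)

theorem mem_pA (m : ℕ) (x y : F) : pA m x y ∈ Cfsg.suzukiOvoid F m :=
  mem_ovoid_iff.mpr (Or.inr ⟨x, y, rfl⟩)

theorem inf_ne_pA (m : ℕ) (x y : F) : Cfsg.suzukiPointInfinity F ≠ pA m x y := fun e => by
  obtain ⟨c, hc⟩ := (Projectivization.mk_eq_mk_iff' F _ _ _ _).mp e
  have h3 := congrFun hc 3
  simp [pv] at h3
  have h0 := congrFun hc 0
  simp [h3] at h0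

theorem pA_injective {m : ℕ} {x y x' y' : F} (e : pA m x y = pA m x' y') : x = x' ∧ y = y' := by
  obtain ⟨c, hc⟩ := (Projectivization.mk_eq_mk_iff' F _ _ _ _).mp e
  have h3 := congrFun hc 3
  have h2 := congrFun hc 2
  have h1 := congrFun hc 1
  simp [pv] at h3 h2 h1
  rw [h3, one_mul] at h1 h2
  exact ⟨h2.symm, h1.symm⟩

theorem mulVec_ne (g : Matrix.SpecialLinearGroup (Fin 4) F) {v : Fin 4 → F} (hv : v ≠ 0) :
    g.val *ᵥ v ≠ 0 := fun e => hv (by
  have : g⁻¹.val *ᵥ (g.val *ᵥ v) = v := by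
    rw [Matrix.mulVec_mulVec, ← Matrix.SpecialLinearGroup.coe_mul, inv_mul_cancel,
      Matrix.SpecialLinearGroup.coe_one, Matrix.one_mulVec]
  rw [← this, e, Matrix.mulVec_zero])

theorem smul_pt (g : Matrix.SpecialLinearGroup (Fin 4) F) (v : Fin 4 → F) (hv : v ≠ 0) :
    g • Projectivization.mk F v hv = Projectivization.mk F (g.val *ᵥ v) (mulVec_ne g hv) := rfl

theorem smul_pt_eq (g : Matrix.SpecialLinearGroup (Fin 4) F) {v w : Fin 4 → F} (hv : v ≠ 0) (hw : w ≠ 0)
    {c : F} (e : g.val *ᵥ v = c • w) : g • Projectivization.mk F v hv = Projectivization.mk F w hw := by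
  rw [smul_pt]
  exact (Projectivization.mk_eq_mk_iff' F _ _ _ _).mpr ⟨c, e.symm⟩

theorem exists_of_smul_eq (g : Matrix.SpecialLinearGroup (Fin 4) F) {v w : Fin 4 → F} {hv : v ≠ 0}
    {hw : w ≠ 0} (e : g • Projectivization.mk F v hv = Projectivization.mk F w hw) :
    ∃ c : F, c ≠ 0 ∧ g.val *ᵥ v = c • w := by
  rw [smul_pt] at e
  obtain ⟨c, hc⟩ := (Projectivization.mk_eq_mk_iff' F _ _ _ _).mp e
  refine ⟨c, fun h0 => mulVec_ne g hv ?_, hc.symm⟩
  rw [← hc, h0, zero_smul]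

variable [Fintype F] {m : ℕ}

theorem pZero_eq (h : Params F m) : Cfsg.suzukiPointZero F = pA m (0 : F) 0 := by
  simp only [Cfsg.suzukiPointZero, pA, pv, zc, th_zero h]
  simp

theorem uSL_inf (a b : F) : uSL m a b • Cfsg.suzukiPointInfinity F = Cfsg.suzukiPointInfinity F :=
  smul_pt_eq _ _ _ (c := 1) (by
    funext i; fin_cases i <;> simp [uSL_val, uM, Matrix.mulVec, dotProduct, Fin.sum_univ_four])

theorem uSL_pA (h : Params F m) (a b x y : F) :
    uSL m a b • pA m x y = pA m (x + a) (y + th m a * x + b) :=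
  smul_pt_eq _ _ _ (c := 1) (by rw [uSL_val, uM_mulVec h, one_smul])

theorem uSL_zero_pt (h : Params F m) (a b : F) : uSL m a b • pA m (0 : F) 0 = pA m a b := by
  rw [uSL_pA h, zero_add, mul_zero, add_zero, zero_add]

theorem dHom_inf (k : Fˣ) : dHom F m k • Cfsg.suzukiPointInfinity F = Cfsg.suzukiPointInfinity F :=
  smul_pt_eq _ _ _ (c := ((k ^ (2 ^ m + 1) : Fˣ) : F)) (by
    funext i; fin_cases i <;> simp [dHom_val, dM, Matrix.mulVec_diagonal])

theorem dHom_pA (h : Params F m) (k : Fˣ) (x y : F) :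
    dHom F m k • pA m x y = pA m ((k : F) * x) ((k : F) * th m (k : F) * y) :=
  smul_pt_eq _ _ _ (by rw [dHom_val, dM_mulVec h])

theorem wSL_inf (h : Params F m) : wSL F • Cfsg.suzukiPointInfinity F = pA m (0 : F) 0 :=
  smul_pt_eq _ _ _ (c := 1) (by
    funext i
    fin_cases i <;>
      simp [wSL_val, wM, pv, zc, th_zero h, Matrix.mulVec, dotProduct, Fin.sum_univ_four])

theorem wSL_zero (h : Params F m) : wSL F • pA m (0 : F) 0 = Cfsg.suzukiPointInfinity F :=
  smul_pt_eq _ _ _ (c := 1) (by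
    funext i
    fin_cases i <;>
      simp [wSL_val, wM, pv, zc, th_zero h, Matrix.mulVec, dotProduct, Fin.sum_univ_four])

theorem wSL_pA (h : Params F m) {x y : F} (e : zc m x y ≠ 0) :
    wSL F • pA m x y = pA m (y / zc m x y) (x / zc m x y) :=
  smul_pt_eq _ _ _ (by rw [wSL_val, wM_mulVec h e])

theorem mem_Sz_iff {g : Matrix.SpecialLinearGroup (Fin 4) F} :
    g ∈ Cfsg.Sz F m ↔ ∀ p ∈ Cfsg.suzukiOvoid F m, g • p ∈ Cfsg.suzukiOvoid F m :=
  MulAction.mem_stabilizer_set' (Set.toFinite _)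

theorem uSL_mem (h : Params F m) (a b : F) : uSL m a b ∈ Cfsg.Sz F m := by
  refine mem_Sz_iff.mpr fun p hp => ?_
  rcases mem_ovoid_iff.mp hp with rfl | ⟨x, y, rfl⟩
  · rw [uSL_inf]; exact mem_inf m
  · rw [uSL_pA h]; exact mem_pA _ _ _

theorem dHom_mem (h : Params F m) (k : Fˣ) : dHom F m k ∈ Cfsg.Sz F m := by
  refine mem_Sz_iff.mpr fun p hp => ?_
  rcases mem_ovoid_iff.mp hp with rfl | ⟨x, y, rfl⟩
  · rw [dHom_inf]; exact mem_inf m
  · rw [dHom_pA h]; exact mem_pA _ _ _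

theorem wSL_mem (h : Params F m) : wSL F ∈ Cfsg.Sz F m := by
  refine mem_Sz_iff.mpr fun p hp => ?_
  rcases mem_ovoid_iff.mp hp with rfl | ⟨x, y, rfl⟩
  · rw [wSL_inf h]; exact mem_pA _ _ _
  · by_cases e : zc m x y = 0
    · obtain ⟨rfl, rfl⟩ := zc_eq_zero h e
      rw [wSL_zero h]; exact mem_inf m
    · rw [wSL_pA h e]; exact mem_pA _ _ _

theorem exists_ne_zero_one (h : Params F m) : ∃ k : F, k ≠ 0 ∧ k ≠ 1 := by
  classical
  obtain ⟨k, hk⟩ : ∃ k : F, k ∉ ({0, 1} : Finset F) := by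
    by_contra hc
    push Not at hc
    have := (Finset.card_le_card (fun k (_ : k ∈ (Finset.univ : Finset F)) => hc k)).trans Finset.card_le_two
    rw [Finset.card_univ, h.card] at this
    have h8 : 2 ^ 3 ≤ 2 ^ (2 * m + 1) := Nat.pow_le_pow_right two_pos (by have := h.pos; omega)
    omega
  simp only [Finset.mem_insert, Finset.mem_singleton, not_or] at hk
  exact ⟨k, hk⟩

/-- Three monomial functions are independent. -/
theorem three_indep (h : Params F m) {A B C : F}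
    (e : ∀ x : F, A * x ^ 2 + B * th m x + C * (x ^ 2 * th m x) = 0) : A = 0 ∧ B = 0 ∧ C = 0 := by
  obtain ⟨k, hk0, hk1⟩ := exists_ne_zero_one h
  have hk2 : k ^ 2 ≠ 1 := fun hh => hk1 (by
    have : (k - 1) ^ 2 = 0 := by linear_combination hh - (k - 1) * two_eq h
    exact sub_eq_zero.mp (eq_zero_of_pow_eq_zero this))
  have ht1 : th m k ≠ 1 := fun hh => hk1 (th_injective h (hh.trans (th_one h).symm))
  have ht2 : th m k ≠ k ^ 2 := fun hh => by
    have h4 := th_th h k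
    rw [hh, th_pow h, hh] at h4
    exact hk2 (mul_left_cancel₀ (pow_ne_zero 2 hk0) (by linear_combination h4))
  have e1 := e 1
  have ek := e k
  have ekk := e (k * k)
  simp only [th_one h, th_mul h] at e1 ek ekk
  have hC : C * (k ^ 2 * (th m k - 1)) * (th m k * (k ^ 2 - 1)) = 0 := by
    linear_combination ekk - (th m k + k ^ 2) * ek + th m k * k ^ 2 * e1
  have hC0 : C = 0 := by
    simpa [hk0, sub_ne_zero.mpr hk2, sub_ne_zero.mpr ht1, th_eq_zero h] using hC
  subst hC0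
  have hB : B * (th m k - k ^ 2) = 0 := by linear_combination ek - k ^ 2 * e1
  have hB0 : B = 0 := (mul_eq_zero.mp hB).resolve_right (sub_ne_zero.mpr ht2)
  subst hB0
  exact ⟨by linear_combination e1, rfl, rfl⟩

theorem row_three (h : Params F m) {g : Matrix.SpecialLinearGroup (Fin 4) F} (hg : g ∈ Cfsg.Sz F m)
    (hi : g • Cfsg.suzukiPointInfinity F = Cfsg.suzukiPointInfinity F) (h0 : g • pA m (0 : F) 0 = pA m (0 : F) 0) :
    g.val 1 0 = 0 ∧ g.val 2 0 = 0 ∧ g.val 3 0 = 0 ∧ g.val 3 1 = 0 ∧ g.val 3 2 = 0 ∧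
    g.val 0 3 = 0 ∧ g.val 1 3 = 0 ∧ g.val 2 3 = 0 := by
  obtain ⟨c, -, hc⟩ := exists_of_smul_eq g hi
  obtain ⟨d, hd0, hd⟩ := exists_of_smul_eq g h0
  have c1 := congrFun hc 1
  have c2 := congrFun hc 2
  have c3 := congrFun hc 3
  have d0 := congrFun hd 0
  have d1 := congrFun hd 1
  have d2 := congrFun hd 2
  have d3 := congrFun hd 3
  simp [Matrix.mulVec, dotProduct, Fin.sum_univ_four] at c1 c2 c3
  simp [Matrix.mulVec, dotProduct, Fin.sum_univ_four, pv, zc, th_zero h] at d0 d1 d2 d3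
  have key : ∀ x y : F, g.val 3 1 * y + g.val 3 2 * x + g.val 3 3 ≠ 0 := fun x y e => by
    rcases mem_ovoid_iff.mp (mem_Sz_iff.mp hg _ (mem_pA m x y)) with hp | ⟨x', y', hp⟩
    · exact inf_ne_pA m x y (MulAction.injective g (hi.trans hp.symm))
    · obtain ⟨c', hc'0, hc'⟩ := exists_of_smul_eq g hp
      have := congrFun hc' 3
      simp [Matrix.mulVec, dotProduct, Fin.sum_univ_four, pv, c3] at this
      exact hc'0 (this ▸ e)
  have h31 : g.val 3 1 = 0 := by
    by_contra hne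
    exact key 0 (-g.val 3 3 / g.val 3 1) (by field_simp; ring)
  refine ⟨c1, c2, c3, h31, ?_, d0, d1, d2⟩
  by_contra hne
  exact key (-g.val 3 3 / g.val 3 2) 0 (by rw [h31]; field_simp; ring)

theorem two_point (h : Params F m) {g : Matrix.SpecialLinearGroup (Fin 4) F} (hg : g ∈ Cfsg.Sz F m)
    (hi : g • Cfsg.suzukiPointInfinity F = Cfsg.suzukiPointInfinity F) (h0 : g • pA m (0 : F) 0 = pA m (0 : F) 0) :
    ∃ k : Fˣ, g = dHom F m k := by
  obtain ⟨h10, h20, h30, h31, h32, h03, h13, h23⟩ := row_three h hg hi h0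
  obtain ⟨-, -, -, h31', h32', -, -, -⟩ := row_three h
    (g := wSL F * g * wSL F) (mul_mem (mul_mem (wSL_mem h) hg) (wSL_mem h))
    (by rw [mul_smul, mul_smul, wSL_inf h, h0, wSL_zero h])
    (by rw [mul_smul, mul_smul, wSL_zero h, hi, wSL_inf h])
  simp [Matrix.SpecialLinearGroup.coe_mul, wSL_val, wM, Matrix.mul_apply, Matrix.vecMul, dotProduct,
    Fin.sum_univ_four] at h31' h32'
  have hd : (g : Matrix (Fin 4) (Fin 4) F).det = 1 := Matrix.SpecialLinearGroup.det_coe g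
  have hdet : g.val 0 0 * (g.val 1 1 * g.val 2 2 - g.val 1 2 * g.val 2 1) * g.val 3 3 = 1 := by
    rw [Matrix.det_succ_row_zero] at hd
    simp [Matrix.det_succ_row_zero, Fin.sum_univ_four, Fin.sum_univ_three, Fin.sum_univ_two, Fin.succAbove,
      Matrix.submatrix_apply, h10, h20, h30, h31, h32, h13, h23, h03, h31', h32'] at hd
    linear_combination hd
  have hd3 : g.val 3 3 ≠ 0 := right_ne_zero_of_mul_eq_one hdet
  have hc0 : g.val 0 0 ≠ 0 := left_ne_zero_of_mul (left_ne_zero_of_mul_eq_one hdet)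
  obtain ⟨p, hp⟩ : ∃ p, p = g.val 2 2 / g.val 3 3 := ⟨_, rfl⟩
  obtain ⟨r, hr⟩ : ∃ r, r = g.val 2 1 / g.val 3 3 := ⟨_, rfl⟩
  obtain ⟨s, hs⟩ : ∃ s, s = g.val 1 1 / g.val 3 3 := ⟨_, rfl⟩
  obtain ⟨t, ht⟩ : ∃ t, t = g.val 1 2 / g.val 3 3 := ⟨_, rfl⟩
  obtain ⟨α, hα⟩ : ∃ α, α = g.val 0 0 / g.val 3 3 := ⟨_, rfl⟩
  have key : ∀ x y : F, α * zc m x y = zc m (p * x + r * y) (t * x + s * y) := fun x y => by
    rcases mem_ovoid_iff.mp (mem_Sz_iff.mp hg _ (mem_pA m x y)) with hp' | ⟨x', y', hp'⟩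
    · exact absurd (MulAction.injective g (hi.trans hp'.symm)) (inf_ne_pA m x y)
    · obtain ⟨c', hc'0, hc'⟩ := exists_of_smul_eq g hp'
      have e0 := congrFun hc' 0
      have e1 := congrFun hc' 1
      have e2 := congrFun hc' 2
      have e3 := congrFun hc' 3
      simp [Matrix.mulVec, dotProduct, Fin.sum_univ_four, pv, h10, h20, h30, h31, h32, h13, h23,
        h03, h31', h32'] at e0 e1 e2 e3
      have hx : p * x + r * y = x' := by
        rw [hp, hr]; field_simp; linear_combination e2 - x' * e3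
      have hy : t * x + s * y = y' := by
        rw [ht, hs]; field_simp; linear_combination e1 - y' * e3
      rw [hx, hy, hα]
      field_simp
      linear_combination e0 - zc m x' y' * e3
  have kx := three_indep h (A := p * t) (B := th m t) (C := p ^ 2 * th m p - α) fun x => by
    have := key x 0
    simp only [zc, mul_zero, add_zero, zero_add, th_mul h, th_zero h] at this
    linear_combination -this
  have ky := three_indep h (A := r * s) (B := th m s - α) (C := r ^ 2 * th m r) fun y => by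
    have := key 0 y
    simp only [zc, mul_zero, zero_mul, add_zero, zero_add, th_mul h, th_zero h] at this
    linear_combination -this
  obtain ⟨-, ht0, hαp⟩ := kx
  obtain ⟨-, hsα, hr0⟩ := ky
  have ht' : t = 0 := (th_eq_zero h).mp ht0
  have hr' : r = 0 := by
    rcases mul_eq_zero.mp hr0 with h' | h'
    · exact eq_zero_of_pow_eq_zero h'
    · exact (th_eq_zero h).mp h'
  have hps : p * s = α := by
    have := key 1 1
    simp only [zc, ht', hr', th_one h, mul_one, one_mul, add_zero, zero_add, one_pow] at this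
    linear_combination -this - hαp - hsα
  have hp0 : p ≠ 0 := fun e => by
    rw [e, zero_mul] at hps
    exact div_ne_zero hc0 hd3 (hα ▸ hps.symm)
  have hs' : s = p * th m p := mul_left_cancel₀ hp0 (by linear_combination hps - hαp)
  have g12 : g.val 1 2 = 0 := by rw [ht, div_eq_zero_iff] at ht'; exact ht'.resolve_right hd3
  have g21 : g.val 2 1 = 0 := by rw [hr, div_eq_zero_iff] at hr'; exact hr'.resolve_right hd3
  have g00 : g.val 0 0 = g.val 3 3 * (p ^ 2 * th m p) := by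
    rw [sub_eq_zero.mp hαp, hα]; field_simp
  have g11 : g.val 1 1 = g.val 3 3 * (p * th m p) := by rw [← hs', hs]; field_simp
  have g22 : g.val 2 2 = g.val 3 3 * p := by rw [hp]; field_simp
  obtain ⟨k, hk⟩ : ∃ k : Fˣ, (k : F) = p := ⟨Units.mk0 p hp0, rfl⟩
  obtain ⟨e1, -, -, e4⟩ := dM_coords h k
  obtain ⟨β, hβ⟩ : ∃ β, β = ((k ^ (2 ^ m) : Fˣ) : F) := ⟨_, rfl⟩
  obtain ⟨A, hA⟩ : ∃ A, A = ((k ^ (2 ^ m + 1) : Fˣ) : F) := ⟨_, rfl⟩
  rw [← hβ, ← hA, hk] at e1
  rw [← hβ, hk] at e4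
  have hA1 : g.val 3 3 * A = 1 := by
    rw [g12, g21, g00, g11, g22] at hdet
    have h' : ((g.val 3 3 * A) ^ 2) ^ 2 = 1 := by
      rw [← e1, mul_pow, mul_pow, mul_pow, mul_pow, e4]
      linear_combination hdet
    haveI := charP_two h
    exact frobenius_inj F 2 (frobenius_inj F 2 (by
      simp only [frobenius_def]; rw [h', one_pow, one_pow]))
  have hβ0 : β ≠ 0 := by rw [hβ]; exact Units.ne_zero _
  have hA0 : A ≠ 0 := by rw [hA]; exact Units.ne_zero _
  have hd' : g.val 3 3 = A⁻¹ := eq_inv_of_mul_eq_one_left hA1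
  refine ⟨k, Subtype.ext ?_⟩
  rw [dHom_val]
  ext i j
  fin_cases i <;> fin_cases j <;>
    simp [dM, Matrix.diagonal_apply, h10, h20, h30, h31, h32, h13, h23, h03, h31', h32', g12, g21,
      g00, g11, g22, hd', Units.val_inv_eq_inv_val] <;>
    simp only [← Units.val_pow_eq_pow_val, ← hA, ← hβ] <;>
    field_simp <;> simp only [← e1, ← e4] <;> ring

theorem exists_decomp (h : Params F m) {g : Matrix.SpecialLinearGroup (Fin 4) F} (hg : g ∈ Cfsg.Sz F m)
    (hi : g • Cfsg.suzukiPointInfinity F = Cfsg.suzukiPointInfinity F) :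
    ∃ (a b : F) (k : Fˣ), g = uSL m a b * dHom F m k := by
  rcases mem_ovoid_iff.mp (mem_Sz_iff.mp hg _ (mem_pA m (0 : F) 0)) with hp | ⟨a, b, hp⟩
  · exact absurd (MulAction.injective g (hi.trans hp.symm)) (inf_ne_pA m (0 : F) 0)
  · obtain ⟨k, hk⟩ := two_point h (g := (uSL m a b)⁻¹ * g) (mul_mem (inv_mem (uSL_mem h a b)) hg)
      (by rw [mul_smul, hi, inv_smul_eq_iff, uSL_inf])
      (by rw [mul_smul, hp, inv_smul_eq_iff, uSL_zero_pt h])
    exact ⟨a, b, k, by rw [← hk, mul_inv_cancel_left]⟩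

theorem dHom_injective : Function.Injective (dHom F m) := fun k l e => by
  have e0 := congrArg Subtype.val e
  rw [dHom_val, dHom_val] at e0
  have h0 := congrFun (congrFun e0 0) 0
  have h1 := congrFun (congrFun e0 1) 1
  simp only [dM, Matrix.diagonal_apply_eq] at h0 h1
  simp only [Matrix.cons_val_zero, Matrix.cons_val_one] at h0 h1
  rw [pow_succ] at h0
  rw [pow_succ] at h0
  have h0' := Units.ext h0
  rw [Units.ext h1] at h0'
  exact mul_left_cancel h0'

theorem decomp_injective (h : Params F m) {a b a' b' : F} {k k' : Fˣ}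
    (e : uSL m a b * dHom F m k = uSL m a' b' * dHom F m k') : a = a' ∧ b = b' ∧ k = k' := by
  have h0 : ∀ l : Fˣ, dHom F m l • pA m (0 : F) 0 = pA m (0 : F) 0 := fun l => by
    rw [dHom_pA h, mul_zero, mul_zero]
  have := congrArg (fun g : Matrix.SpecialLinearGroup (Fin 4) F => g • pA m (0 : F) 0) e
  simp only [mul_smul, h0, uSL_zero_pt h] at this
  obtain ⟨rfl, rfl⟩ := pA_injective this
  exact ⟨rfl, rfl, dHom_injective (mul_left_cancel e)⟩

/-- The unipotent elements inside the Suzuki group. -/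
def uS (h : Params F m) (a b : F) : ↥(Cfsg.Sz F m) := ⟨uSL m a b, uSL_mem h a b⟩

/-- The diagonal elements inside the Suzuki group. -/
def dS (h : Params F m) : Fˣ →* ↥(Cfsg.Sz F m) := (dHom F m).codRestrict _ (dHom_mem h)

/-- The antidiagonal element inside the Suzuki group. -/
def wS (h : Params F m) : ↥(Cfsg.Sz F m) := ⟨wSL F, wSL_mem h⟩

theorem mem_stab_inf_iff (h : Params F m) {g : ↥(Cfsg.Sz F m)} :
    g ∈ MulAction.stabilizer ↥(Cfsg.Sz F m) (Cfsg.suzukiPointInfinity F) ↔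
      ∃ (a b : F) (k : Fˣ), g = uS h a b * dS h k := by
  constructor
  · intro hg
    obtain ⟨a, b, k, e⟩ := exists_decomp h g.2 hg
    exact ⟨a, b, k, Subtype.ext e⟩
  · rintro ⟨a, b, k, rfl⟩
    show (uSL m a b * dHom F m k) • Cfsg.suzukiPointInfinity F = Cfsg.suzukiPointInfinity F
    rw [mul_smul, dHom_inf, uSL_inf]

theorem mem_stab_two_iff (h : Params F m) {g : ↥(Cfsg.Sz F m)} :
    g ∈ MulAction.stabilizer ↥(Cfsg.Sz F m) (Cfsg.suzukiPointInfinity F) ⊓
      MulAction.stabilizer ↥(Cfsg.Sz F m) (Cfsg.suzukiPointZero F) ↔ ∃ k : Fˣ, g = dS h k := by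
  constructor
  · rintro ⟨hg, hg0⟩
    rw [pZero_eq h] at hg0
    obtain ⟨k, e⟩ := two_point h g.2 hg hg0
    exact ⟨k, Subtype.ext e⟩
  · rintro ⟨k, rfl⟩
    refine ⟨dHom_inf k, ?_⟩
    rw [pZero_eq h]
    show dHom F m k • pA m (0 : F) 0 = pA m (0 : F) 0
    rw [dHom_pA h, mul_zero, mul_zero]

theorem stab_two_equiv (h : Params F m) :
    Nonempty (↥(MulAction.stabilizer ↥(Cfsg.Sz F m) (Cfsg.suzukiPointInfinity F) ⊓
      MulAction.stabilizer ↥(Cfsg.Sz F m) (Cfsg.suzukiPointZero F)) ≃* Fˣ) := by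
  have e : MulAction.stabilizer ↥(Cfsg.Sz F m) (Cfsg.suzukiPointInfinity F) ⊓
      MulAction.stabilizer ↥(Cfsg.Sz F m) (Cfsg.suzukiPointZero F) = (dS h).range := by
    ext g
    rw [mem_stab_two_iff h, MonoidHom.mem_range]
    exact exists_congr fun k => eq_comm
  rw [e]
  exact ⟨(MonoidHom.ofInjective (f := dS h)
    fun k l hkl => dHom_injective (congrArg Subtype.val hkl)).symm⟩

theorem card_stab_inf (h : Params F m) :
    Nat.card ↥(MulAction.stabilizer ↥(Cfsg.Sz F m) (Cfsg.suzukiPointInfinity F)) =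
      (2 ^ (2 * m + 1)) ^ 2 * (2 ^ (2 * m + 1) - 1) := by
  classical
  let f : F × F × Fˣ → ↥(MulAction.stabilizer ↥(Cfsg.Sz F m) (Cfsg.suzukiPointInfinity F)) := fun x =>
    ⟨uS h x.1 x.2.1 * dS h x.2.2, (mem_stab_inf_iff h).mpr ⟨_, _, _, rfl⟩⟩
  have hf : Function.Bijective f := by
    refine ⟨fun x y e => ?_, fun g => ?_⟩
    · obtain ⟨e1, e2, e3⟩ := decomp_injective h (congrArg (fun g => g.1.1) e)
      exact Prod.ext e1 (Prod.ext e2 e3)
    · obtain ⟨a, b, k, e⟩ := (mem_stab_inf_iff h).mp g.2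
      exact ⟨(a, b, k), Subtype.ext e.symm⟩
  rw [← Nat.card_eq_of_bijective f hf, Nat.card_prod, Nat.card_prod, Nat.card_eq_fintype_card (α := Fˣ),
    Fintype.card_units, Nat.card_eq_fintype_card, h.card]
  ring

theorem orbit_inf (h : Params F m) :
    MulAction.orbit ↥(Cfsg.Sz F m) (Cfsg.suzukiPointInfinity F) = Cfsg.suzukiOvoid F m := by
  ext p
  constructor
  · rintro ⟨g, rfl⟩
    exact mem_Sz_iff.mp g.2 _ (mem_inf m)
  · intro hp
    rcases mem_ovoid_iff.mp hp with rfl | ⟨x, y, rfl⟩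
    · exact MulAction.mem_orbit_self _
    · refine ⟨uS h x y * wS h, ?_⟩
      show (uSL m x y * wSL F) • Cfsg.suzukiPointInfinity F = pA m x y
      rw [mul_smul, wSL_inf h, uSL_zero_pt h]

theorem card_Sz (h : Params F m) : Nat.card ↥(Cfsg.Sz F m) =
    Nat.card ↥(Cfsg.suzukiOvoid F m) * ((2 ^ (2 * m + 1)) ^ 2 * (2 ^ (2 * m + 1) - 1)) := by
  rw [← Subgroup.index_mul_card (MulAction.stabilizer ↥(Cfsg.Sz F m) (Cfsg.suzukiPointInfinity F)),
    card_stab_inf h, MulAction.index_stabilizer, orbit_inf h]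
  rfl

end Cfsg.Lib.Linear.Suz
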