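import Mathlib
import Cfsg.Prelude.Def_LieExceptional

/-!
# The standard elements of the Suzuki groups

The automorphism `x ↦ x ^ (2 ^ (m+1))`, the points of the ovoid, and the unipotent, diagonal and
antidiagonal elements acting on them.
-/

set_option autoImplicit false

namespace Cfsg.Lib.Linear.Suz

open scoped Matrix

variable {F : Type*} [Field F]

/-- The map `x ↦ x ^ (2 ^ (m+1))`. -/
def th (m : ℕ) (x : F) : F := x ^ (2 ^ (m + 1))

/-- The first coordinate of the affine point with parameters `x`, `y`. -/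
def zc (m : ℕ) (x y : F) : F := x * y + x ^ 2 * th m x + th m y

/-- The vector of the affine point with parameters `x`, `y`. -/
def pv (m : ℕ) (x y : F) : Fin 4 → F := ![zc m x y, y, x, 1]

theorem pv_ne (m : ℕ) (x y : F) : pv m x y ≠ 0 := fun h => one_ne_zero (congrFun h 3)

theorem pv_eq (m : ℕ) (x y : F) :
    pv m x y = ![x * y + x ^ (2 ^ (m + 1) + 2) + y ^ (2 ^ (m + 1)), y, x, 1] := by
  simp only [pv, zc, th, pow_add]
  ring_nf

section

variable [Fintype F] {m : ℕ}

/-- The field has `2 ^ (2 m + 1)` elements and `m` is positive. -/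
structure Params (F : Type*) [Field F] [Fintype F] (m : ℕ) : Prop where
  pos : 1 ≤ m
  card : Fintype.card F = 2 ^ (2 * m + 1)

variable (h : Params F m)
include h

theorem two_eq : (2 : F) = 0 := by
  have h0 : ((Fintype.card F : ℕ) : F) = 0 := Nat.cast_card_eq_zero F
  rw [h.card, Nat.cast_pow] at h0
  simpa using eq_zero_of_pow_eq_zero h0

theorem charP_two : CharP F 2 := CharTwo.of_one_ne_zero_of_two_eq_zero one_ne_zero (two_eq h)

theorem four_eq : (4 : F) = 0 := by linear_combination (2 : F) * two_eq h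

theorem three_eq : (3 : F) = 1 := by linear_combination two_eq h

theorem add_self (x : F) : x + x = 0 := by linear_combination x * two_eq h

theorem neg_eq (x : F) : -x = x := by linear_combination -x * two_eq h

theorem th_add (x y : F) : th m (x + y) = th m x + th m y := by
  haveI := charP_two h
  exact add_pow_char_pow x y 2 (m + 1)

theorem th_mul (x y : F) : th m (x * y) = th m x * th m y := mul_pow x y _

theorem th_pow (x : F) (k : ℕ) : th m (x ^ k) = th m x ^ k := by
  simp only [th, ← pow_mul, mul_comm k]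

theorem th_th (x : F) : th m (th m x) = x ^ 2 := by
  simp only [th, ← pow_mul, ← pow_add]
  rw [show (m + 1) + (m + 1) = (2 * m + 1) + 1 by ring, pow_succ, pow_mul, ← h.card, FiniteField.pow_card]

theorem th_zero : th m (0 : F) = 0 := zero_pow (by positivity)

theorem th_one : th m (1 : F) = 1 := one_pow _

theorem th_eq_zero {x : F} : th m x = 0 ↔ x = 0 := by simp [th]

theorem th_injective : Function.Injective (th (F := F) m) := fun x y e => by
  haveI := charP_two h
  exact frobenius_inj F 2 (by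
    show x ^ 2 = y ^ 2
    rw [← th_th h, ← th_th h, e])

/-- The automorphism fixes only `0` and `1`. -/
theorem th_eq_self {x : F} (e : th m x = x) : x = 0 ∨ x = 1 := by
  have e2 := th_th h x
  rw [e, e] at e2
  have : x * (x - 1) = 0 := by linear_combination -e2
  exact (mul_eq_zero.mp this).imp id sub_eq_zero.mp

theorem th_inv (x : F) : th m x⁻¹ = (th m x)⁻¹ := inv_pow x _

/-- `z` vanishes only at the origin. -/
theorem zc_mul_th (x y : F) : zc m x y * th m (zc m x y) + x * y * th m (zc m x y) +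
    y ^ 2 * th m y + th m x * zc m x y ^ 2 = 0 := by
  simp only [zc, th_add h, th_mul h, th_pow h, th_th h]
  have h2 := two_eq h
  ring_nf
  simp [h2, three_eq h, four_eq h]

theorem zc_eq_zero {x y : F} (e : zc m x y = 0) : x = 0 ∧ y = 0 := by
  have h1 := zc_mul_th h x y
  rw [e, th_zero h] at h1
  have hy : y = 0 := by
    have : y ^ 2 * th m y = 0 := by linear_combination h1
    rcases mul_eq_zero.mp this with h' | h'
    · exact eq_zero_of_pow_eq_zero h'
    · exact (th_eq_zero h).mp h'
  refine ⟨?_, hy⟩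
  rw [zc, hy, mul_zero, th_zero h, zero_add, add_zero] at e
  rcases mul_eq_zero.mp e with h' | h'
  · exact eq_zero_of_pow_eq_zero h'
  · exact (th_eq_zero h).mp h'

/-- The antidiagonal matrix sends an affine point other than the origin to an affine point. -/
theorem zc_flip {x y : F} (e : zc m x y ≠ 0) :
    zc m (y / zc m x y) (x / zc m x y) = 1 / zc m x y := by
  have hid := zc_mul_th h x y
  obtain ⟨z, hz⟩ : ∃ z, z = zc m x y := ⟨_, rfl⟩
  rw [← hz] at e hid ⊢
  have ht : th m z ≠ 0 := fun h' => e ((th_eq_zero h).mp h')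
  rw [zc, div_eq_mul_inv, div_eq_mul_inv, th_mul h, th_mul h, th_inv h]
  field_simp
  have h2 := two_eq h
  linear_combination hid - (z * th m z) * h2

end

/-- The unipotent matrix with parameters `a`, `b`. -/
def uM (m : ℕ) (a b : F) : Matrix (Fin 4) (Fin 4) F :=
  !![1, a, b + a * th m a, a * b + a ^ 2 * th m a + th m b; 0, 1, th m a, b; 0, 0, 1, a; 0, 0, 0, 1]

theorem uM_det (m : ℕ) (a b : F) : (uM m a b).det = 1 := by
  have : (uM m a b).BlockTriangular id := fun i j hij => by
    fin_cases i <;> fin_cases j <;> simp [uM] at hij ⊢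
  rw [Matrix.det_of_upperTriangular this, Fin.prod_univ_four]
  simp [uM]

/-- The unipotent element with parameters `a`, `b`. -/
def uSL (m : ℕ) (a b : F) : Matrix.SpecialLinearGroup (Fin 4) F := ⟨uM m a b, uM_det m a b⟩

theorem uSL_val (m : ℕ) (a b : F) : (uSL m a b).val = uM m a b := rfl

/-- The antidiagonal matrix. -/
def wM (F : Type*) [Field F] : Matrix (Fin 4) (Fin 4) F :=
  !![0, 0, 0, 1; 0, 0, 1, 0; 0, 1, 0, 0; 1, 0, 0, 0]

theorem wM_det : (wM F).det = 1 := by
  simp [wM, Matrix.det_succ_row_zero, Fin.sum_univ_four, Fin.sum_univ_three, Fin.sum_univ_two,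
    Fin.succAbove, Matrix.submatrix_apply]
  norm_num

/-- The antidiagonal element. -/
def wSL (F : Type*) [Field F] : Matrix.SpecialLinearGroup (Fin 4) F := ⟨wM F, wM_det⟩

theorem wSL_val : (wSL F).val = wM F := rfl

/-- The diagonal matrix with parameter `k`. -/
def dM (m : ℕ) (k : Fˣ) : Matrix (Fin 4) (Fin 4) F :=
  Matrix.diagonal ![((k ^ (2 ^ m + 1) : Fˣ) : F), ((k ^ (2 ^ m) : Fˣ) : F),
    (((k ^ (2 ^ m))⁻¹ : Fˣ) : F), (((k ^ (2 ^ m + 1))⁻¹ : Fˣ) : F)]

theorem dM_det (m : ℕ) (k : Fˣ) : (dM m k).det = 1 := by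
  rw [dM, Matrix.det_diagonal, Fin.prod_univ_four]
  simp

/-- The diagonal elements. -/
def dHom (F : Type*) [Field F] (m : ℕ) : Fˣ →* Matrix.SpecialLinearGroup (Fin 4) F where
  toFun k := ⟨dM m k, dM_det m k⟩
  map_one' := Subtype.ext (by
    show dM m 1 = 1
    rw [dM, ← Matrix.diagonal_one]
    congr 1
    funext i
    fin_cases i <;> simp)
  map_mul' k l := Subtype.ext (by
    show dM m (k * l) = dM m k * dM m l
    rw [dM, dM, dM, Matrix.diagonal_mul_diagonal]
    congr 1
    funext i
    fin_cases i <;> simp [mul_pow, mul_comm])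

theorem dHom_val (m : ℕ) (k : Fˣ) : (dHom F m k).val = dM m k := rfl

variable [Fintype F] {m : ℕ}

theorem uM_mulVec (h : Params F m) (a b x y : F) :
    uM m a b *ᵥ pv m x y = pv m (x + a) (y + th m a * x + b) := by
  have h2 := two_eq h
  funext i
  fin_cases i <;>
    simp [uM, pv, zc, Matrix.mulVec, dotProduct, Fin.sum_univ_four, th_add h, th_mul h, th_th h] <;>
    ring_nf <;> simp [h2, three_eq h, four_eq h]

theorem uM_mul (h : Params F m) (a b a' b' : F) :
    uM m a b * uM m a' b' = uM m (a + a') (b + b' + th m a * a') := by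
  have h2 := two_eq h
  ext i j
  fin_cases i <;> fin_cases j <;>
    simp [uM, Matrix.mul_apply, Fin.sum_univ_four, th_add h, th_mul h, th_th h] <;>
    ring_nf <;> simp [h2, three_eq h, four_eq h]

theorem uSL_mul (h : Params F m) (a b a' b' : F) :
    uSL m a b * uSL m a' b' = uSL m (a + a') (b + b' + th m a * a') := Subtype.ext (uM_mul h a b a' b')

theorem uSL_zero (h : Params F m) : uSL m (0 : F) 0 = 1 := Subtype.ext (by
  show uM m (0 : F) 0 = 1
  ext i j
  fin_cases i <;> fin_cases j <;> simp [uM, th_zero h])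

theorem uSL_inv (h : Params F m) (a b : F) : (uSL m a b)⁻¹ = uSL m a (b + th m a * a) := by
  refine inv_eq_of_mul_eq_one_right ?_
  rw [uSL_mul h, add_self h a]
  rw [show b + (b + th m a * a) + th m a * a = (b + b) + (th m a * a + th m a * a) by ring,
    add_self h, add_self h, add_zero, uSL_zero h]

theorem uSL_injective {a b a' b' : F} (e : uSL m a b = uSL m a' b') : a = a' ∧ b = b' := by
  have e0 := congrArg Subtype.val e
  exact ⟨congrFun (congrFun e0 2) 3, congrFun (congrFun e0 1) 3⟩

theorem dM_coords (h : Params F m) (k : Fˣ) :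
    (k : F) * ((k ^ (2 ^ m) : Fˣ) : F) = ((k ^ (2 ^ m + 1) : Fˣ) : F) ∧
    th m ((k ^ (2 ^ m) : Fˣ) : F) = k ∧ th m ((k ^ (2 ^ m + 1) : Fˣ) : F) = th m (k : F) * k ∧
    ((k ^ (2 ^ m) : Fˣ) : F) ^ 2 = th m (k : F) := by
  refine ⟨by push_cast; ring, ?_, ?_, ?_⟩
  · push_cast
    rw [th, ← pow_mul, ← pow_add, show m + (m + 1) = 2 * m + 1 by ring, ← h.card, FiniteField.pow_card]
  · push_cast
    rw [pow_succ, th_mul h, mul_comm]
    congr 1
    rw [th, ← pow_mul, ← pow_add, show m + (m + 1) = 2 * m + 1 by ring, ← h.card, FiniteField.pow_card]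
  · push_cast
    rw [th, ← pow_mul, ← pow_succ]

theorem dM_mulVec (h : Params F m) (k : Fˣ) (x y : F) :
    dM m k *ᵥ pv m x y =
      (((k ^ (2 ^ m + 1))⁻¹ : Fˣ) : F) • pv m ((k : F) * x) ((k : F) * th m (k : F) * y) := by
  obtain ⟨e1, -, -, e4⟩ := dM_coords h k
  obtain ⟨β, hβ⟩ : ∃ β, β = ((k ^ (2 ^ m) : Fˣ) : F) := ⟨_, rfl⟩
  obtain ⟨α, hα⟩ : ∃ α, α = ((k ^ (2 ^ m + 1) : Fˣ) : F) := ⟨_, rfl⟩
  rw [← hβ, ← hα] at e1
  rw [← hβ] at e4
  have hb : β ≠ 0 := by rw [hβ]; exact Units.ne_zero _
  have hk : (k : F) ≠ 0 := k.ne_zero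
  funext i
  fin_cases i <;>
    simp [dM, Matrix.mulVec_diagonal, pv, zc, th_add h, th_mul h, th_th h, Units.val_inv_eq_inv_val] <;>
    simp only [← Units.val_pow_eq_pow_val, ← hα, ← hβ, ← e1, ← e4] <;>
    field_simp <;> push_cast <;> ring

theorem wM_mulVec (h : Params F m) {x y : F} (e : zc m x y ≠ 0) :
    wM F *ᵥ pv m x y = zc m x y • pv m (y / zc m x y) (x / zc m x y) := by
  have hf := zc_flip h e
  funext i
  fin_cases i
  · simp [wM, pv, Matrix.mulVec, dotProduct, Fin.sum_univ_four, hf, mul_inv_cancel₀ e]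
  all_goals simp [wM, pv, Matrix.mulVec, dotProduct, Fin.sum_univ_four, mul_div_cancel₀ _ e]

end Cfsg.Lib.Linear.Suz
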