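import Mathlib

/-!
# Matrices of prime order acting irreducibly in dimension four
-/

set_option autoImplicit false

namespace Cfsg.Lib.Linear.Suz

open scoped Matrix
open Module

variable {F : Type*} [Field F] [Fintype F] {A : Matrix (Fin 4) (Fin 4) F} {p : ℕ} [Fact p.Prime]

theorem invariant_card_modEq (hA : A ^ p = 1) (W : Submodule F (Fin 4 → F))
    (hW : ∀ w ∈ W, A *ᵥ w ∈ W) :
    Fintype.card F ^ finrank F W ≡
      Fintype.card F ^ finrank F ↥(W ⊓ LinearMap.ker (Matrix.toLin' A - LinearMap.id)) [MOD p] := by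
  classical
  obtain ⟨f, hf⟩ : ∃ f : Function.End ↥W, ∀ w, (f w).1 = A *ᵥ w.1 := ⟨fun w => ⟨_, hW _ w.2⟩, fun w => rfl⟩
  have hpow : ∀ (i : ℕ) (w : ↥W), ((f ^ i) w).1 = A ^ i *ᵥ w.1 := fun i => by
    induction i with
    | zero => intro w; rw [pow_zero, pow_zero, Matrix.one_mulVec]; rfl
    | succ i ih =>
      intro w
      rw [pow_succ, pow_succ]
      show ((f ^ i) (f w)).1 = _
      rw [ih, hf, Matrix.mulVec_mulVec]
  have hfp : f ^ p ^ 1 = 1 := funext fun w => Subtype.ext (by
    rw [hpow, pow_one, hA, Matrix.one_mulVec]; rfl)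
  have := Equiv.Perm.card_fixedPoints_modEq hfp
  simp only [← Nat.card_eq_fintype_card] at this
  have e : Nat.card (Function.fixedPoints f) =
      Nat.card ↥(W ⊓ LinearMap.ker (Matrix.toLin' A - LinearMap.id)) := by
    refine Nat.card_congr ⟨fun w => ⟨w.1.1, w.1.2, ?_⟩, fun w => ⟨⟨w.1, w.2.1⟩, Subtype.ext ?_⟩, fun w => rfl,
      fun w => rfl⟩
    · rw [SetLike.mem_coe, LinearMap.mem_ker, LinearMap.sub_apply, LinearMap.id_apply, Matrix.toLin'_apply, sub_eq_zero]
      exact (hf w.1).symm.trans (congrArg Subtype.val w.2)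
    · rw [hf]
      have := w.2.2
      rwa [SetLike.mem_coe, LinearMap.mem_ker, LinearMap.sub_apply, LinearMap.id_apply, Matrix.toLin'_apply, sub_eq_zero] at this
  rw [e] at this
  simp only [Module.natCard_eq_pow_finrank (K := F) (V := ↥W),
    Module.natCard_eq_pow_finrank (K := F) (V := ↥(W ⊓ LinearMap.ker (Matrix.toLin' A - LinearMap.id)))] at this
  simpa only [Nat.card_eq_fintype_card] using this

variable (hA : A ^ p = 1) (hA1 : A ≠ 1)
  (hord : ∀ i : ℕ, i ≤ 3 → 1 ≤ i → ¬ p ∣ Fintype.card F ^ i - 1) (hpq : ¬ p ∣ Fintype.card F)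
include hA hA1 hord hpq

theorem irreducible_invariant (W : Submodule F (Fin 4 → F)) (hW : ∀ w ∈ W, A *ᵥ w ∈ W) :
    W = ⊥ ∨ W = ⊤ := by
  have hkey : ∀ d e : ℕ, e ≤ d → d ≤ 4 → Fintype.card F ^ d ≡ Fintype.card F ^ e [MOD p] →
      d = e ∨ (d = 4 ∧ e = 0) := by
    intro d e hed hd hmod
    have hp := (Fact.out : p.Prime)
    have hdvd := (Nat.modEq_iff_dvd' (Nat.pow_le_pow_right Fintype.card_pos hed)).mp hmod.symm
    have hsplit : Fintype.card F ^ d - Fintype.card F ^ e =
        Fintype.card F ^ e * (Fintype.card F ^ (d - e) - 1) := by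
      rw [Nat.mul_sub, mul_one, ← pow_add, Nat.add_sub_cancel' hed]
    rw [hsplit, hp.dvd_mul] at hdvd
    rcases hdvd with h' | h'
    · exact absurd (hp.dvd_of_dvd_pow h') hpq
    · by_contra hne
      push Not at hne
      exact hord (d - e) (by omega) (by omega) h'
  have hfix : LinearMap.ker (Matrix.toLin' A - LinearMap.id) = ⊥ := by
    have h := invariant_card_modEq hA ⊤ (fun w _ => Submodule.mem_top)
    rw [top_inf_eq, finrank_top, Module.finrank_pi, Fintype.card_fin] at h
    have hle : finrank F ↥(LinearMap.ker (Matrix.toLin' A - LinearMap.id)) ≤ 4 := by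
      have := Submodule.finrank_le (LinearMap.ker (Matrix.toLin' A - LinearMap.id))
      rwa [Module.finrank_pi, Fintype.card_fin] at this
    rcases hkey 4 _ hle le_rfl h with e | ⟨-, e⟩
    · refine absurd ?_ hA1
      have htop := Submodule.eq_top_of_finrank_eq (S := LinearMap.ker (Matrix.toLin' A - LinearMap.id))
        (by rw [← e, Module.finrank_pi, Fintype.card_fin])
      rw [LinearMap.ker_eq_top, sub_eq_zero] at htop
      exact Matrix.toLin'.injective (by rw [htop, Matrix.toLin'_one])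
    · exact Submodule.finrank_eq_zero.mp e
  have h := invariant_card_modEq hA W hW
  rw [hfix, inf_bot_eq, finrank_bot] at h
  have hd : finrank F W ≤ 4 := by
    have := Submodule.finrank_le W
    rwa [Module.finrank_pi, Fintype.card_fin] at this
  rcases hkey _ 0 (Nat.zero_le _) hd h with e | ⟨e, -⟩
  · exact Or.inl (Submodule.finrank_eq_zero.mp e)
  · exact Or.inr (Submodule.eq_top_of_finrank_eq (by rw [e, Module.finrank_pi, Fintype.card_fin]))

/-- The commutant of an irreducible matrix is a commutative domain. -/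
theorem commutant_domain :
    (∀ X : Matrix (Fin 4) (Fin 4) F, X * A = A * X → ∀ Y, Y * A = A * Y → X * Y = Y * X) ∧
    (∀ X Y : Matrix (Fin 4) (Fin 4) F, X * A = A * X → X * Y = 0 → X = 0 ∨ Y = 0) := by
  have hinj : ∀ X : Matrix (Fin 4) (Fin 4) F, X * A = A * X → ∀ v, X *ᵥ v = 0 → v ≠ 0 → X = 0 := by
    intro X hX v hv hv0
    have := irreducible_invariant hA hA1 hord hpq (LinearMap.ker (Matrix.toLin' X)) fun w hw => by
      rw [LinearMap.mem_ker, Matrix.toLin'_apply] at hw ⊢
      rw [Matrix.mulVec_mulVec, hX, ← Matrix.mulVec_mulVec, hw, Matrix.mulVec_zero]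
    rcases this with e | e
    · exact absurd ((Submodule.mem_bot F).mp (e ▸ (LinearMap.mem_ker.mpr (by rwa [Matrix.toLin'_apply])))) hv0
    · rw [LinearMap.ker_eq_top] at e
      exact (LinearEquiv.map_eq_zero_iff _).mp e
  obtain ⟨v, hv⟩ := exists_ne (0 : Fin 4 → F)
  let Φ : Polynomial F →ₗ[F] (Fin 4 → F) :=
    { toFun := fun P => Polynomial.aeval A P *ᵥ v
      map_add' := fun P R => by rw [map_add, Matrix.add_mulVec]
      map_smul' := fun c P => by rw [map_smul, Matrix.smul_mulVec]; rfl }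
  have hΦ : LinearMap.range Φ = ⊤ := by
    refine (irreducible_invariant hA hA1 hord hpq _ ?_).resolve_left fun e => hv ?_
    · rintro _ ⟨P, rfl⟩
      refine ⟨Polynomial.X * P, ?_⟩
      show Polynomial.aeval A (Polynomial.X * P) *ᵥ v = A *ᵥ (Polynomial.aeval A P *ᵥ v)
      rw [map_mul, Polynomial.aeval_X, Matrix.mulVec_mulVec]
    · have hmem : Φ 1 ∈ LinearMap.range Φ := ⟨1, rfl⟩
      rw [e, Submodule.mem_bot] at hmem
      simpa [Φ] using hmem
  have hpoly : ∀ X : Matrix (Fin 4) (Fin 4) F, X * A = A * X → ∃ P : Polynomial F, X = Polynomial.aeval A P := by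
    intro X hX
    obtain ⟨P, hP⟩ := LinearMap.range_eq_top.mp hΦ (X *ᵥ v)
    refine ⟨P, sub_eq_zero.mp (hinj _ ?_ v ?_ hv)⟩
    · rw [sub_mul, mul_sub, hX]
      congr 1
      have := congrArg (Polynomial.aeval A) (mul_comm P (Polynomial.X : Polynomial F))
      simpa using this
    · rw [Matrix.sub_mulVec, sub_eq_zero]
      exact hP.symm
  refine ⟨fun X hX Y hY => ?_, fun X Y hX hXY => ?_⟩
  · obtain ⟨P, rfl⟩ := hpoly X hX
    obtain ⟨R, rfl⟩ := hpoly Y hY
    rw [← map_mul, ← map_mul, mul_comm]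
  · by_cases hY : Y = 0
    · exact Or.inr hY
    obtain ⟨w, hw⟩ : ∃ w, Y *ᵥ w ≠ 0 := by
      by_contra hc
      push Not at hc
      exact hY (Matrix.toLin'.injective (LinearMap.ext fun w => by simp [hc w]))
    exact Or.inl (hinj X hX _ (by rw [Matrix.mulVec_mulVec, hXY, Matrix.zero_mulVec]) hw)

/-- The centraliser of an irreducible element is cyclic and at most four of its members share the
minimal polynomial. -/
theorem centralizer_data {G : Type*} [Group G] [Finite G] (ι : G →* Matrix (Fin 4) (Fin 4) F)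
    (hι : Function.Injective ι) {y : G} (hy : ι y = A) :
    IsCyclic (Subgroup.centralizer ({y} : Set G)) ∧
    Nat.card {z : G // z ∈ Subgroup.centralizer ({y} : Set G) ∧ ∃ n : G, z = n * y * n⁻¹} ≤ 4 := by
  classical
  obtain ⟨hcomm, hdom⟩ := commutant_domain hA hA1 hord hpq
  obtain ⟨R, hR⟩ : ∃ R, R = Subalgebra.centralizer F ({A} : Set (Matrix (Fin 4) (Fin 4) F)) := ⟨_, rfl⟩
  have hmem : ∀ X, X ∈ R ↔ A * X = X * A := fun X => by
    rw [hR, Subalgebra.mem_centralizer_iff]; simp
  letI : CommRing ↥R :=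
    { (inferInstance : Ring ↥R) with
      mul_comm := fun X Y => Subtype.ext (hcomm X.1 ((hmem _).mp X.2).symm Y.1 ((hmem _).mp Y.2).symm) }
  haveI : Nontrivial ↥R := ⟨⟨0, 1, fun e => zero_ne_one (congrArg Subtype.val e)⟩⟩
  haveI : NoZeroDivisors ↥R := ⟨fun {X Y} e => by
    rcases hdom X.1 Y.1 ((hmem _).mp X.2).symm (congrArg Subtype.val e) with h | h
    exacts [Or.inl (Subtype.ext h), Or.inr (Subtype.ext h)]⟩
  haveI : IsDomain ↥R := NoZeroDivisors.to_isDomain _
  have hC : ∀ z ∈ Subgroup.centralizer ({y} : Set G), ι z ∈ R := fun z hz => by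
    rw [hmem, ← hy, ← map_mul, ← map_mul, Subgroup.mem_centralizer_iff.mp hz y rfl]
  obtain ⟨ψ, hψ⟩ : ∃ ψ : ↥(Subgroup.centralizer ({y} : Set G)) →* ↥R, ∀ z, (ψ z).1 = ι z.1 :=
    ⟨{ toFun := fun z => ⟨ι z.1, hC z z.2⟩
       map_one' := Subtype.ext (map_one ι)
       map_mul' := fun a b => Subtype.ext (map_mul ι a.1 b.1) }, fun z => rfl⟩
  refine ⟨isCyclic_of_injective_ringHom ψ fun a b e => Subtype.ext (hι ?_), ?_⟩
  · rw [← hψ, ← hψ, e]
  · have hf0 : minpoly F A ≠ 0 := minpoly.ne_zero (Algebra.IsIntegral.isIntegral A)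
    have hdeg : (minpoly F A).natDegree ≤ 4 := by
      refine le_trans (Polynomial.natDegree_le_of_dvd (Matrix.minpoly_dvd_charpoly A) A.charpoly_monic.ne_zero) ?_
      rw [Matrix.charpoly_natDegree_eq_dim, Fintype.card_fin]
    have hroot : ∀ z : {z : G // z ∈ Subgroup.centralizer ({y} : Set G) ∧ ∃ n : G, z = n * y * n⁻¹},
        ψ ⟨z.1, z.2.1⟩ ∈ ((minpoly F A).map (algebraMap F ↥R)).roots.toFinset := by
      rintro ⟨z, hz, n, rfl⟩
      rw [Multiset.mem_toFinset, Polynomial.mem_roots (Polynomial.map_ne_zero hf0), Polynomial.IsRoot.def,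
        Polynomial.eval_map, ← Polynomial.aeval_def]
      refine Subtype.ext ?_
      rw [← Subalgebra.val_apply R, ← Polynomial.aeval_algHom_apply, Subalgebra.val_apply, hψ, map_mul, map_mul, hy,
        ZeroMemClass.coe_zero]
      have hinv : ι n⁻¹ * ι n = 1 := by rw [← map_mul, inv_mul_cancel, map_one]
      have key : ∀ P : Polynomial F, Polynomial.aeval (ι n * A * ι n⁻¹) P = ι n * Polynomial.aeval A P * ι n⁻¹ := by
        intro P
        induction P using Polynomial.induction_on' with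
        | add P Q hP hQ => simp only [map_add, hP, hQ, mul_add, add_mul]
        | monomial i c =>
          simp only [Polynomial.aeval_monomial, ← Algebra.smul_def, mul_smul_comm, smul_mul_assoc]
          congr 1
          induction i with
          | zero => rw [pow_zero, pow_zero, mul_one, ← map_mul, mul_inv_cancel, map_one]
          | succ i ih =>
            rw [pow_succ, pow_succ, ih, show ι n * A ^ i * ι n⁻¹ * (ι n * A * ι n⁻¹) =
              ι n * A ^ i * (ι n⁻¹ * ι n) * A * ι n⁻¹ by simp only [mul_assoc], hinv, mul_one]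
            simp only [mul_assoc]
      rw [key, minpoly.aeval, mul_zero, zero_mul]
    haveI := Fintype.ofFinite {z : G // z ∈ Subgroup.centralizer ({y} : Set G) ∧ ∃ n : G, z = n * y * n⁻¹}
    rw [Nat.card_eq_fintype_card, ← Finset.card_univ]
    refine le_trans (Finset.card_le_card_of_injOn (fun z => ψ ⟨z.1, z.2.1⟩) (fun z _ => hroot z) ?_)
      ((Multiset.toFinset_card_le _).trans ((Polynomial.card_roots' _).trans (by
        rw [Polynomial.natDegree_map]; exact hdeg)))
    intro a _ b _ e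
    refine Subtype.ext (hι ?_)
    have := congrArg Subtype.val e
    rwa [hψ, hψ] at this

end Cfsg.Lib.Linear.Suz
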