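import Cfsg.Agent.Lib.Linear.Suzuki.CompFacts

/-!
# Solubilizers in the Suzuki groups of prime degree

The set of elements generating a solvable group with a given element: the torus cases, and the
decomposition for the elements of two-power order.
-/

set_option autoImplicit false

namespace Cfsg.Lib.Linear.Suz

open scoped Matrix LinearAlgebra.Projectivization

variable {F : Type*} [Field F] [Fintype F] {m : ℕ} (h : Params F m)
include h

/-- The elements generating a solvable subgroup with a given one. -/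
def Sol (_h : Params F m) (x : ↥(Cfsg.Sz F m)) : Set ↥(Cfsg.Sz F m) :=
  {y | Group.IsSolvable ↥(Subgroup.closure ({x, y} : Set ↥(Cfsg.Sz F m)))}

/-- The nontrivial odd order elements whose component is normalised by a given element. -/
def Inv (h : Params F m) (x : ↥(Cfsg.Sz F m)) : Set ↥(Cfsg.Sz F m) :=
  {u | u ≠ 1 ∧ ¬ 2 ∣ orderOf u ∧ x ∈ NC h u}

/-- Those with a component fixing two points. -/
def InvD (h : Params F m) (x : ↥(Cfsg.Sz F m)) : Set ↥(Cfsg.Sz F m) :=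
  {u | u ∈ Inv h x ∧
    Nat.card ↥(Subgroup.centralizer ({u} : Set ↥(Cfsg.Sz F m))) = 2 ^ (2 * m + 1) - 1}

theorem mem_conj_stab {g y : ↥(Cfsg.Sz F m)} {p : ℙ F (Fin 4 → F)}
    (hg : g.1 • Cfsg.suzukiPointInfinity F = p) :
    g⁻¹ * y * g ∈ MulAction.stabilizer ↥(Cfsg.Sz F m) (Cfsg.suzukiPointInfinity F) ↔ y.1 • p = p := by
  show (g.1⁻¹ * y.1 * g.1) • Cfsg.suzukiPointInfinity F = Cfsg.suzukiPointInfinity F ↔ _
  rw [mul_smul, mul_smul, hg, inv_smul_eq_iff, hg]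

theorem sol_iff (hp : (2 * m + 1).Prime) (x y : ↥(Cfsg.Sz F m)) :
    y ∈ Sol h x ↔ (∃ p ∈ Cfsg.suzukiOvoid F m, x.1 • p = p ∧ y.1 • p = p) ∨
      ∃ U : Subgroup ↥(Cfsg.Sz F m), IsCyclic ↥U ∧ Nat.card ↥U ∈ compOrders h ∧
        x ∈ Subgroup.normalizer (U : Set ↥(Cfsg.Sz F m)) ∧
        y ∈ Subgroup.normalizer (U : Set ↥(Cfsg.Sz F m)) := by
  have hx : x ∈ Subgroup.closure ({x, y} : Set ↥(Cfsg.Sz F m)) := Subgroup.subset_closure (by simp)
  have hy : y ∈ Subgroup.closure ({x, y} : Set ↥(Cfsg.Sz F m)) := Subgroup.subset_closure (by simp)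
  constructor
  · intro hsol
    rcases subgroup_cases h (Subgroup.closure ({x, y} : Set ↥(Cfsg.Sz F m))) with
      ⟨g, hg⟩ | ⟨U, hU, hk, hle⟩ | ⟨k, g, hk, hdiv, e⟩
    · have key : ∀ z ∈ Subgroup.closure ({x, y} : Set ↥(Cfsg.Sz F m)),
          z.1 • ((g⁻¹).1 • Cfsg.suzukiPointInfinity F) = (g⁻¹).1 • Cfsg.suzukiPointInfinity F := fun z hz =>
        (mem_conj_stab h (g := g⁻¹) rfl).mp (by simpa using hg z hz)
      exact Or.inl ⟨_, mem_Sz_iff.mp (g⁻¹).2 _ (mem_inf m), key x hx, key y hy⟩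
    · exact Or.inr ⟨U, hU, hk, hle hx, hle hy⟩
    · exfalso
      obtain rfl : k = m := by
        rcases hp.eq_one_or_self_of_dvd _ hdiv with e' | e' <;> omega
      rw [SubG_top h] at e
      have htop : Subgroup.closure ({x, y} : Set ↥(Cfsg.Sz F k)) = ⊤ := by
        rw [e]
        ext z
        simp
      refine not_solvable h ?_
      have hs : Group.IsSolvable ↥(Subgroup.closure ({x, y} : Set ↥(Cfsg.Sz F k))) := hsol
      rw [htop] at hs
      exact Group.isSolvable_of_surjective (f := (Subgroup.topEquiv (G := ↥(Cfsg.Sz F k))).toMonoidHom)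
        Subgroup.topEquiv.surjective
  · rintro (⟨p, hp, hxp, hyp⟩ | ⟨U, hU, hk, hxU, hyU⟩)
    · rw [← orbit_inf h] at hp
      obtain ⟨g, hg⟩ := hp
      haveI := stab_solvable h
      have hle : Subgroup.closure ({x, y} : Set ↥(Cfsg.Sz F m)) ≤
          (MulAction.stabilizer ↥(Cfsg.Sz F m) (Cfsg.suzukiPointInfinity F)).comap
            (MulAut.conj g⁻¹).toMonoidHom := by
        rw [Subgroup.closure_le]
        rintro z (rfl | rfl) <;>
          simp only [SetLike.mem_coe, Subgroup.mem_comap, MulEquiv.coe_toMonoidHom, MulAut.conj_apply, inv_inv]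
        · exact (mem_conj_stab h hg).mpr hxp
        · exact (mem_conj_stab h hg).mpr hyp
      refine Group.isSolvable_of_isSolvable_injective
        (f := (((MulAut.conj g⁻¹).toMonoidHom.subgroupComap _).comp (Subgroup.inclusion hle))) ?_
      intro a b e
      exact Subgroup.inclusion_injective hle
        (Subtype.ext ((MulAut.conj g⁻¹).injective (congrArg Subtype.val e)))
    · haveI := comp_normalizer_solvable h hU hk
      refine Group.isSolvable_of_isSolvable_injective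
        (Subgroup.inclusion_injective (show Subgroup.closure ({x, y} : Set ↥(Cfsg.Sz F m)) ≤
            Subgroup.normalizer (U : Set ↥(Cfsg.Sz F m)) from
          (Subgroup.closure_le _).mpr ?_))
      rintro z (rfl | rfl)
      exacts [hxU, hyU]

theorem sol_conj_ncard (σ x : ↥(Cfsg.Sz F m)) : (Sol h (σ * x * σ⁻¹)).ncard = (Sol h x).ncard := by
  have key : ∀ (τ a b : ↥(Cfsg.Sz F m)), b ∈ Sol h a → τ * b * τ⁻¹ ∈ Sol h (τ * a * τ⁻¹) := by
    intro τ a b hb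
    haveI : Group.IsSolvable ↥(Subgroup.closure ({a, b} : Set ↥(Cfsg.Sz F m))) := hb
    have e : Subgroup.closure ({τ * a * τ⁻¹, τ * b * τ⁻¹} : Set ↥(Cfsg.Sz F m)) =
        (Subgroup.closure ({a, b} : Set ↥(Cfsg.Sz F m))).map (MulAut.conj τ).toMonoidHom := by
      rw [MonoidHom.map_closure, Set.image_pair]
      rfl
    show Group.IsSolvable ↥(Subgroup.closure ({τ * a * τ⁻¹, τ * b * τ⁻¹} : Set ↥(Cfsg.Sz F m)))
    rw [e]
    exact Group.isSolvable_of_surjective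
      (MonoidHom.subgroupMap_surjective (MulAut.conj τ).toMonoidHom _)
  have e : Sol h (σ * x * σ⁻¹) = (fun y => σ * y * σ⁻¹) '' Sol h x := by
    ext y
    refine ⟨fun hy => ⟨σ⁻¹ * y * σ, ?_, by group⟩, ?_⟩
    · have := key σ⁻¹ _ _ hy
      rwa [show σ⁻¹ * (σ * x * σ⁻¹) * σ⁻¹⁻¹ = x by group, inv_inv] at this
    · rintro ⟨z, hz, rfl⟩
      exact key σ x z hz
  rw [e, Set.ncard_image_of_injective]
  exact fun a b e' => mul_left_cancel (mul_right_cancel e')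

theorem sol_torus (hp : (2 * m + 1).Prime) {x : ↥(Cfsg.Sz F m)} (hx : Fpf h x) :
    (Sol h x).ncard = 4 * Nat.card ↥(Subgroup.centralizer ({x} : Set ↥(Cfsg.Sz F m))) := by
  have hx1 := fpf_ne_one h hx
  have hodd : ¬ 2 ∣ orderOf x := by
    rcases cases_centralizer h hx1 with ⟨h4, σ, hσ, -⟩ | ⟨hC, hk⟩
    · exact absurd hx (not_fpf_of_conjSet h (Or.inl ⟨hx1, σ, hσ⟩))
    · exact (comp_centralizer h hC hk (Subgroup.mem_centralizer_singleton_iff.mpr rfl) hx1).1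
  obtain ⟨hC, hk⟩ := comp_of_elem h hx1 hodd
  have hxC : x ∈ Subgroup.centralizer ({x} : Set ↥(Cfsg.Sz F m)) :=
    Subgroup.mem_centralizer_singleton_iff.mpr rfl
  have e : Sol h x = ↑(NC h x) := by
    ext y
    rw [sol_iff h hp, SetLike.mem_coe]
    constructor
    · rintro (⟨p, hp', hxp, -⟩ | ⟨U, hU, hk', hxU, hyU⟩)
      · exact absurd hxp (hx p hp')
      · rw [(comp_centralizer h hU hk' (odd_mem h hU hk' hxU hodd) hx1).2] at hyU
        exact hyU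
    · intro hy
      exact Or.inr ⟨_, hC, hk, Subgroup.le_normalizer hxC, hy⟩
  rw [e, ← Nat.card_coe_set_eq]
  refine ((comp_index h hC hk).2 fun hcard => ?_).2
  obtain ⟨σ, hσ⟩ := ((comp_index h hC hk).1 hcard).1
  rw [hσ] at hxC
  obtain ⟨_, ⟨k, rfl⟩, e'⟩ := hxC
  refine hx (σ.1 • Cfsg.suzukiPointInfinity F) (mem_Sz_iff.mp σ.2 _ (mem_inf m)) ?_
  rw [← e']
  show (σ.1 * (dS h k).1 * σ.1⁻¹) • _ = _
  rw [mul_smul, mul_smul, inv_smul_smul, (dS_fix_both h k).1]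

theorem sol_dS (hp : (2 * m + 1).Prime) {k : Fˣ} (hk1 : k ≠ 1) :
    (Sol h (dS h k)).ncard = 2 * (2 ^ (2 * m + 1)) ^ 2 * (2 ^ (2 * m + 1) - 1) := by
  classical
  obtain ⟨B, hB⟩ : ∃ B, B = MulAction.stabilizer ↥(Cfsg.Sz F m) (Cfsg.suzukiPointInfinity F) := ⟨_, rfl⟩
  obtain ⟨B₀, hB₀⟩ : ∃ B₀ : Subgroup ↥(Cfsg.Sz F m), B₀ = B.comap (MulAut.conj (wS h)).toMonoidHom := ⟨_, rfl⟩
  obtain ⟨N, hN⟩ : ∃ N, N = Subgroup.normalizer ((dS h).range : Set ↥(Cfsg.Sz F m)) := ⟨_, rfl⟩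
  have hwi : (wS h)⁻¹ = wS h := inv_eq_of_mul_eq_one_right (wS_mul_self h)
  have hmemB₀ : ∀ y, y ∈ B₀ ↔ y.1 • pA m (0 : F) 0 = pA m 0 0 := by
    intro y
    rw [hB₀, hB, Subgroup.mem_comap, MulEquiv.coe_toMonoidHom, MulAut.conj_apply]
    nth_rewrite 2 [← hwi]
    rw [inv_inv]
    nth_rewrite 1 [← hwi]
    exact mem_conj_stab h (wSL_inf h)
  have hx : dS h k ∈ (dS h).range := ⟨k, rfl⟩
  have hne : dS h k ≠ 1 := fun e => hk1 (dS_injective h (e.trans (map_one (dS h)).symm))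
  have hck : Nat.card ↥(dS h).range ∈ compOrders h := by rw [card_DS h]; exact q_sub_one_mem h
  have hodd := (comp_centralizer h (isCyclic_DS h) hck hx hne).1
  have e : Sol h (dS h k) = (↑B ∪ ↑B₀) ∪ ↑N := by
    ext y
    rw [sol_iff h hp, hN]
    simp only [Set.mem_union, SetLike.mem_coe]
    constructor
    · rintro (⟨p, hp', hxp, hyp⟩ | ⟨U, hU, hk', hxU, hyU⟩)
      · rcases dS_fix_cases h hk1 hp' hxp with rfl | rfl
        · exact Or.inl (Or.inl (by rw [hB]; exact hyp))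
        · exact Or.inl (Or.inr ((hmemB₀ y).mpr hyp))
      · refine Or.inr ?_
        rwa [(comp_centralizer h hU hk' (odd_mem h hU hk' hxU hodd) hne).2,
          centralizer_DS h hx hne] at hyU
    · rintro ((hy | hy) | hy)
      · exact Or.inl ⟨_, mem_inf m, (dS_fix_both h k).1, by rw [hB] at hy; exact hy⟩
      · exact Or.inl ⟨_, mem_pA m 0 0, (dS_fix_both h k).2, (hmemB₀ y).mp hy⟩
      · exact Or.inr ⟨_, isCyclic_DS h, hck, Subgroup.le_normalizer hx, hy⟩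
  have hmemN : ∀ n ∈ N, (n ∈ B ∨ n ∈ B₀) → n ∈ (dS h).range := by
    intro n hn hor
    obtain ⟨l, hl⟩ := (Subgroup.mem_normalizer_iff.mp (hN ▸ hn) (dS h k)).mp hx
    rcases DS_conj h hk1 hl.symm with ⟨j, rfl, -⟩ | ⟨j, rfl, -⟩
    · exact ⟨j, rfl⟩
    · exfalso
      rcases hor with h' | h'
      · rw [hB] at h'
        change (wSL F * dHom F m j) • Cfsg.suzukiPointInfinity F = Cfsg.suzukiPointInfinity F at h'
        rw [mul_smul, dHom_inf, wSL_inf h] at h'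
        exact inf_ne_pA m _ _ h'.symm
      · have h0 := (hmemB₀ _).mp h'
        change (wSL F * dHom F m j) • pA m (0 : F) 0 = pA m 0 0 at h0
        rw [mul_smul, dHom_pA h, mul_zero, mul_zero, wSL_zero h] at h0
        exact inf_ne_pA m _ _ h0
  have hi1 : (↑B ∩ ↑B₀ : Set ↥(Cfsg.Sz F m)) = ↑(dS h).range := by
    ext y
    simp only [Set.mem_inter_iff, SetLike.mem_coe]
    constructor
    · rintro ⟨h1, h2⟩
      obtain ⟨j, hj⟩ := (mem_stab_two_iff h).mp ⟨(by rw [hB] at h1; exact h1), by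
        show y.1 • Cfsg.suzukiPointZero F = Cfsg.suzukiPointZero F
        rw [pZero_eq h]; exact (hmemB₀ y).mp h2⟩
      exact ⟨j, hj.symm⟩
    · rintro ⟨j, rfl⟩
      exact ⟨by rw [hB]; exact (dS_fix_both h j).1, (hmemB₀ _).mpr (dS_fix_both h j).2⟩
  have hi2 : ((↑B ∪ ↑B₀) ∩ ↑N : Set ↥(Cfsg.Sz F m)) = ↑(dS h).range := by
    ext y
    simp only [Set.mem_inter_iff, Set.mem_union, SetLike.mem_coe]
    constructor
    · rintro ⟨h1, h2⟩; exact hmemN y h2 h1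
    · rintro ⟨j, rfl⟩
      exact ⟨Or.inl (by rw [hB]; exact (dS_fix_both h j).1), hN ▸ Subgroup.le_normalizer ⟨j, rfl⟩⟩
  have u1 := Set.ncard_union_add_ncard_inter (↑B : Set ↥(Cfsg.Sz F m)) ↑B₀
  have u2 := Set.ncard_union_add_ncard_inter (↑B ∪ ↑B₀ : Set ↥(Cfsg.Sz F m)) ↑N
  rw [hi1] at u1
  rw [hi2, ← e] at u2
  simp only [← Nat.card_coe_set_eq, SetLike.coe_sort_coe] at u1 u2 ⊢
  rw [card_DS h] at u1 u2
  have hcB : Nat.card ↥B = (2 ^ (2 * m + 1)) ^ 2 * (2 ^ (2 * m + 1) - 1) := by rw [hB, card_stab_inf h]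
  have hcB₀ : Nat.card ↥B₀ = Nat.card ↥B := by
    rw [hB₀]
    exact Nat.card_congr ((MulAut.conj (wS h)).toEquiv.subtypeEquiv fun _ => Iff.rfl)
  have hcN : Nat.card ↥N = 2 * (2 ^ (2 * m + 1) - 1) := by rw [hN, card_NDS h]
  rw [hcB₀, hcB] at u1
  rw [hcN] at u2
  rw [show 2 * (2 ^ (2 * m + 1)) ^ 2 * (2 ^ (2 * m + 1) - 1) =
    2 * ((2 ^ (2 * m + 1)) ^ 2 * (2 ^ (2 * m + 1) - 1)) by ring]
  omega

theorem NC_unique {u v : ↥(Cfsg.Sz F m)} (hu : u ≠ 1) (huo : ¬ 2 ∣ orderOf u)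
    (hv : v ∈ Subgroup.centralizer ({u} : Set ↥(Cfsg.Sz F m))) (hv1 : v ≠ 1) :
    Subgroup.centralizer ({v} : Set ↥(Cfsg.Sz F m)) = Subgroup.centralizer {u} :=
  ((comp_centralizer h (comp_of_elem h hu huo).1 (comp_of_elem h hu huo).2 hv hv1).2).symm

theorem NC_inf_stab {x : ↥(Cfsg.Sz F m)} (hx : x ∈ US h) (hx1 : x ≠ 1) {u : ↥(Cfsg.Sz F m)}
    (hu : u ∈ Inv h x) :
    Nat.card ↥(NC h u ⊓ MulAction.stabilizer ↥(Cfsg.Sz F m) (Cfsg.suzukiPointInfinity F)) =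
      (if Nat.card ↥(Subgroup.centralizer ({u} : Set ↥(Cfsg.Sz F m))) = 2 ^ (2 * m + 1) - 1 then 2 else 4) ∧
    ∀ y ∈ NC h u, ∃ t ∈ Subgroup.centralizer ({u} : Set ↥(Cfsg.Sz F m)),
      ∃ c ∈ NC h u ⊓ MulAction.stabilizer ↥(Cfsg.Sz F m) (Cfsg.suzukiPointInfinity F), y = t * c := by
  classical
  haveI : Fact (Nat.Prime 2) := ⟨Nat.prime_two⟩
  obtain ⟨hu1, huo, hxN⟩ := hu
  obtain ⟨hC, hk⟩ := comp_of_elem h hu1 huo
  obtain ⟨C, hCdef⟩ : ∃ C, C = Subgroup.centralizer ({u} : Set ↥(Cfsg.Sz F m)) := ⟨_, rfl⟩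
  obtain ⟨N, hNdef⟩ : ∃ N, N = NC h u := ⟨_, rfl⟩
  obtain ⟨H, hHdef⟩ : ∃ H, H = N ⊓ MulAction.stabilizer ↥(Cfsg.Sz F m) (Cfsg.suzukiPointInfinity F) := ⟨_, rfl⟩
  obtain ⟨n, hn⟩ : ∃ n : ℕ, n = if Nat.card ↥C = 2 ^ (2 * m + 1) - 1 then 2 else 4 := ⟨_, rfl⟩
  rw [← hCdef, ← hNdef, ← hHdef, ← hn]
  rw [← hCdef] at hC hk
  have hCN : Subgroup.normalizer (C : Set ↥(Cfsg.Sz F m)) = N := by rw [hNdef, hCdef]; rfl
  rw [← hNdef] at hxN
  have hNcard : Nat.card ↥N = n * Nat.card ↥C := by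
    rw [← hCN, hn]
    by_cases e : Nat.card ↥C = 2 ^ (2 * m + 1) - 1
    · rw [if_pos e]; exact ((comp_index h hC hk).1 e).2
    · rw [if_neg e]; exact ((comp_index h hC hk).2 e).2
  have hCle : C ≤ N := hCN ▸ Subgroup.le_normalizer
  have hHmem : ∀ z, z ∈ H → z ∈ N ∧ z.1 • Cfsg.suzukiPointInfinity F = Cfsg.suzukiPointInfinity F :=
    fun z hz => hHdef.le hz
  obtain ⟨f, hf⟩ : ∃ f : ↥C × ↥H → ↥N, ∀ z, (f z).1 = z.1.1 * z.2.1 :=
    ⟨fun z => ⟨z.1.1 * z.2.1, mul_mem (hCle z.1.2) (hHmem _ z.2.2).1⟩, fun z => rfl⟩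
  have hinj : Function.Injective f := by
    intro a b e
    have e' : a.1.1 * a.2.1 = b.1.1 * b.2.1 := by rw [← hf, ← hf, e]
    have h1 : b.1.1⁻¹ * a.1.1 = b.2.1 * a.2.1⁻¹ := by
      rw [eq_mul_inv_iff_mul_eq, mul_assoc, e', inv_mul_cancel_left]
    have hst : b.2.1 * a.2.1⁻¹ ∈ H := mul_mem b.2.2 (inv_mem a.2.2)
    have h2 : b.1.1⁻¹ * a.1.1 = 1 :=
      US_meet h hx hx1 hC hk (by rw [hCN]; exact hxN) (mul_mem (inv_mem b.1.2) a.1.2)
        (by rw [h1]; exact (hHmem _ hst).2)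
    have h3 := inv_mul_eq_one.mp h2
    exact Prod.ext (Subtype.ext h3.symm) (Subtype.ext (mul_left_cancel (a := a.1.1) (by
      rw [e', h3])))
  have hx4 := pow_four_of_mem_US h hx
  have hz : IsPGroup 2 ↥(Subgroup.zpowers (⟨x, hxN⟩ : ↥N)) := by
    rintro ⟨z, i, rfl⟩
    refine ⟨2, Subtype.ext (Subtype.ext ?_)⟩
    show (x ^ i) ^ 2 ^ 2 = 1
    rw [← zpow_natCast, ← zpow_mul, mul_comm, zpow_mul, zpow_natCast, show (2 : ℕ) ^ 2 = 4 by norm_num, hx4,
      one_zpow]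
  obtain ⟨P, hP⟩ := hz.exists_le_sylow
  have hPH : (P : Subgroup ↥N).map N.subtype ≤ H := by
    rw [hHdef]
    refine le_inf (Subgroup.map_subtype_le _) fun z hz => ?_
    obtain ⟨a, b, rfl⟩ := two_group_le_US h (P.isPGroup'.map N.subtype)
      ⟨_, hP (Subgroup.mem_zpowers _), rfl⟩ hx hx1 hz
    exact uSL_inf a b
  have hnP : n ∣ Nat.card ↥(P : Subgroup ↥N) := by
    have hco : Nat.Coprime n (P : Subgroup ↥N).index := by
      have hodd : Nat.Coprime 2 (P : Subgroup ↥N).index :=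
        Nat.prime_two.coprime_iff_not_dvd.mpr P.not_dvd_index
      rw [hn]
      split_ifs
      exacts [hodd, Nat.Coprime.pow_left 2 hodd]
    refine hco.dvd_of_dvd_mul_left ?_
    rw [Subgroup.index_mul_card, hNcard]
    exact dvd_mul_right _ _
  have h1 : n ≤ Nat.card ↥H := by
    refine le_trans (Nat.le_of_dvd Nat.card_pos hnP) ?_
    rw [← Subgroup.card_map_of_injective (K := (P : Subgroup ↥N)) (f := N.subtype) N.subtype_injective]
    exact Subgroup.card_le_of_le hPH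
  have h2 := Nat.card_le_card_of_injective f hinj
  rw [Nat.card_prod, hNcard, mul_comm n] at h2
  have h3 : Nat.card ↥H = n := le_antisymm (Nat.le_of_mul_le_mul_left h2 Nat.card_pos) h1
  refine ⟨h3, fun y hy => ?_⟩
  obtain ⟨⟨t, c⟩, e⟩ := (hinj.bijective_of_nat_card_le (by
    rw [Nat.card_prod, hNcard, h3, mul_comm])).2 ⟨y, hy⟩
  exact ⟨t.1, t.2, c.1, c.2, by rw [← hf (t, c), e]⟩

/-- The count for an element of two-power order fixing infinity. -/
theorem sol_US (hp : (2 * m + 1).Prime) {x : ↥(Cfsg.Sz F m)} (hx : x ∈ US h) (hx1 : x ≠ 1) :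
    (Sol h x).ncard + 2 * (InvD h x).ncard =
      (2 ^ (2 * m + 1)) ^ 2 * (2 ^ (2 * m + 1) - 1) + 4 * (Inv h x).ncard := by
  classical
  haveI : Fact (Nat.Prime 2) := ⟨Nat.prime_two⟩
  obtain ⟨B, hB⟩ : ∃ B, B = MulAction.stabilizer ↥(Cfsg.Sz F m) (Cfsg.suzukiPointInfinity F) := ⟨_, rfl⟩
  obtain ⟨a, b, hab⟩ := hx
  have hx' : x ∈ US h := ⟨a, b, hab⟩
  have hxi : x.1 • Cfsg.suzukiPointInfinity F = Cfsg.suzukiPointInfinity F := by rw [hab]; exact uSL_inf a b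
  have hfix : ∀ p ∈ Cfsg.suzukiOvoid F m, x.1 • p = p → p = Cfsg.suzukiPointInfinity F := fun p hp' e =>
    fix_unique h (hab ▸ hx1) hp' (by rw [hab] at e; exact e)
  obtain ⟨f, hf⟩ : ∃ f : (Σ u : ↥(Inv h x), ↥(NC h u.1 ⊓ B)) → ↥(Cfsg.Sz F m), ∀ z, f z = z.1.1 * z.2.1 :=
    ⟨_, fun z => rfl⟩
  have houtB : ∀ z, f z ∉ B := by
    rintro ⟨⟨u, hu⟩, c, hc⟩ hmem
    rw [hf] at hmem
    have hu' : u ∈ B := by simpa using mul_mem hmem (inv_mem hc.2)
    rw [hB] at hu'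
    exact hu.1 (US_meet h hx' hx1 (comp_of_elem h hu.1 hu.2.1).1 (comp_of_elem h hu.1 hu.2.1).2 hu.2.2
      (Subgroup.mem_centralizer_singleton_iff.mpr rfl) hu')
  have hfN : ∀ z, f z ∈ NC h z.1.1 := fun z => by
    rw [hf]
    exact mul_mem (Subgroup.le_normalizer (Subgroup.mem_centralizer_singleton_iff.mpr rfl)) z.2.2.1
  have hinj : Function.Injective f := by
    rintro ⟨⟨u, hu⟩, c⟩ ⟨⟨v, hv⟩, d⟩ e
    have hy := houtB ⟨⟨u, hu⟩, c⟩
    have hCuv : Subgroup.centralizer ({u} : Set ↥(Cfsg.Sz F m)) = Subgroup.centralizer {v} := by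
      by_contra hne
      refine hy ?_
      have hIJ : IsPGroup 2 ↥(NC h u ⊓ NC h v) := by
        rw [IsPGroup.iff_orderOf]
        rintro ⟨g, hg⟩
        obtain ⟨i, j, hj, hgj⟩ := Nat.exists_eq_two_pow_mul_odd (n := orderOf g) (orderOf_pos g).ne'
        refine ⟨i, ?_⟩
        rw [Subgroup.orderOf_mk, hgj]
        suffices j = 1 by rw [this, mul_one]
        by_contra hj1
        have hg' : orderOf (g ^ 2 ^ i) = j := by
          rw [orderOf_pow, hgj, Nat.gcd_mul_right_left, Nat.mul_div_cancel_left _ (Nat.two_pow_pos i)]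
        have hodd : ¬ 2 ∣ orderOf (g ^ 2 ^ i) := by
          rw [hg', ← even_iff_two_dvd, Nat.not_even_iff_odd]; exact hj
        have hne1 : g ^ 2 ^ i ≠ 1 := fun e' => hj1 (by rw [← hg', e', orderOf_one])
        obtain ⟨hc1, hk1⟩ := comp_of_elem h hu.1 hu.2.1
        obtain ⟨hc2, hk2⟩ := comp_of_elem h hv.1 hv.2.1
        exact hne ((comp_centralizer h hc1 hk1 (odd_mem h hc1 hk1 (pow_mem hg.1 _) hodd) hne1).2.trans
          (comp_centralizer h hc2 hk2 (odd_mem h hc2 hk2 (pow_mem hg.2 _) hodd) hne1).2.symm)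
      obtain ⟨a', b', hab'⟩ := two_group_le_US h hIJ (Subgroup.mem_inf.mpr ⟨hu.2.2, hv.2.2⟩) hx' hx1
        (Subgroup.mem_inf.mpr ⟨hfN ⟨⟨u, hu⟩, c⟩, by rw [e]; exact hfN ⟨⟨v, hv⟩, d⟩⟩)
      rw [hab', hB]
      exact uSL_inf a' b'
    have e' : u * c.1 = v * d.1 := by
      have := e
      rwa [hf, hf] at this
    have h1 : v⁻¹ * u = d.1 * c.1⁻¹ := by rw [eq_mul_inv_iff_mul_eq, mul_assoc, e', inv_mul_cancel_left]
    have hmem : v⁻¹ * u ∈ Subgroup.centralizer ({u} : Set ↥(Cfsg.Sz F m)) :=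
      mul_mem (inv_mem (hCuv ▸ Subgroup.mem_centralizer_singleton_iff.mpr rfl))
        (Subgroup.mem_centralizer_singleton_iff.mpr rfl)
    have hdc : d.1 * c.1⁻¹ ∈ MulAction.stabilizer ↥(Cfsg.Sz F m) (Cfsg.suzukiPointInfinity F) :=
      hB.le (mul_mem d.2.2 (inv_mem c.2.2))
    have h2 := US_meet h hx' hx1 (comp_of_elem h hu.1 hu.2.1).1 (comp_of_elem h hu.1 hu.2.1).2 hu.2.2 hmem
      (h1 ▸ hdc)
    obtain rfl := inv_mul_eq_one.mp h2
    obtain rfl : c = d := Subtype.ext (mul_left_cancel e')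
    rfl
  have e : Sol h x = ↑B ∪ Set.range f := by
    ext y
    rw [sol_iff h hp, Set.mem_union, SetLike.mem_coe]
    constructor
    · rintro (⟨p, hp', hxp, hyp⟩ | ⟨U, hU, hk', hxU, hyU⟩)
      · refine Or.inl ?_
        rw [hB]
        rw [hfix p hp' hxp] at hyp
        exact hyp
      · by_cases hy : y ∈ B
        · exact Or.inl hy
        refine Or.inr ?_
        obtain ⟨c, hcU, hc1⟩ : ∃ c ∈ U, c ≠ 1 := (Subgroup.bot_or_exists_ne_one U).resolve_left fun e' => by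
          have := (comp_two_le h hk').1
          rw [e', Subgroup.card_bot] at this
          omega
        obtain ⟨hco, hUC⟩ := comp_centralizer h hU hk' hcU hc1
        rw [hUC] at hxU hyU
        obtain ⟨t, ht, w, hw, rfl⟩ := (NC_inf_stab h hx' hx1 (u := c) ⟨hc1, hco, hxU⟩).2 y hyU
        have ht1 : t ≠ 1 := fun e' => hy (by rw [e', one_mul, hB]; exact hw.2)
        have hCt := NC_unique h hc1 hco ht ht1
        have hto := (comp_centralizer h (comp_of_elem h hc1 hco).1 (comp_of_elem h hc1 hco).2 ht ht1).1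
        have hNt : NC h t = NC h c := by rw [NC, NC, hCt]
        refine ⟨⟨⟨t, ht1, hto, by rw [hNt]; exact hxU⟩, ⟨w, by rw [hNt, hB]; exact hw⟩⟩, ?_⟩
        rw [hf]
    · rintro (hy | ⟨z, rfl⟩)
      · exact Or.inl ⟨_, mem_inf m, hxi, by rw [hB] at hy; exact hy⟩
      · exact Or.inr ⟨_, (comp_of_elem h z.1.2.1 z.1.2.2.1).1, (comp_of_elem h z.1.2.1 z.1.2.2.1).2,
          z.1.2.2.2, hfN z⟩
  have hdis : Disjoint (↑B : Set ↥(Cfsg.Sz F m)) (Set.range f) :=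
    Set.disjoint_left.mpr fun y hy ⟨z, hz⟩ => houtB z (hz ▸ hy)
  rw [e, Set.ncard_union_eq hdis, Set.ncard_range_of_injective hinj, Nat.card_sigma,
    ← Nat.card_coe_set_eq, SetLike.coe_sort_coe]
  have hterm : ∀ u : ↥(Inv h x), Nat.card ↥(NC h u.1 ⊓ B) =
      if Nat.card ↥(Subgroup.centralizer ({u.1} : Set ↥(Cfsg.Sz F m))) = 2 ^ (2 * m + 1) - 1 then 2 else 4 :=
    fun u => by rw [hB]; exact (NC_inf_stab h hx' hx1 u.2).1
  rw [Finset.sum_congr rfl fun u _ => hterm u, hB, card_stab_inf h]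
  have hs : ∀ u : ↥(Inv h x),
      (if Nat.card ↥(Subgroup.centralizer ({u.1} : Set ↥(Cfsg.Sz F m))) = 2 ^ (2 * m + 1) - 1 then 2 else 4) +
        2 * (if u.1 ∈ InvD h x then 1 else 0) = 4 := fun u => by
    by_cases hd : Nat.card ↥(Subgroup.centralizer ({u.1} : Set ↥(Cfsg.Sz F m))) = 2 ^ (2 * m + 1) - 1
    · rw [if_pos hd, if_pos (show u.1 ∈ InvD h x from ⟨u.2, hd⟩)]
    · rw [if_neg hd, if_neg (show u.1 ∉ InvD h x from fun h' => hd h'.2)]
  have hsum := Finset.sum_congr (Eq.refl (Finset.univ : Finset ↥(Inv h x))) fun u _ => hs u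
  rw [Finset.sum_add_distrib, ← Finset.mul_sum, Finset.sum_const, Finset.sum_boole, Finset.card_univ,
    ← Nat.card_eq_fintype_card, Nat.card_coe_set_eq, smul_eq_mul, Nat.cast_id] at hsum
  have hD : (Finset.univ.filter fun u : ↥(Inv h x) => u.1 ∈ InvD h x).card = (InvD h x).ncard := by
    rw [← Fintype.card_subtype, ← Nat.card_eq_fintype_card, ← Nat.card_coe_set_eq]
    exact Nat.card_congr (Equiv.subtypeSubtypeEquivSubtype fun {u} (hu : u ∈ InvD h x) => hu.1)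
  rw [hD] at hsum
  omega

end Cfsg.Lib.Linear.Suz
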