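import Cfsg.Agent.Lib.Linear.Suzuki.SolubilizerFour
import Cfsg.Agent.Lib.Linear.Suzuki.LieForm

/-!
# The orders of all solubilizers in a Suzuki group of prime degree
-/

set_option autoImplicit false

namespace Cfsg.Lib.Linear.Suz

open scoped Matrix LinearAlgebra.Projectivization

variable {F : Type*} [Field F] [Fintype F] {m : ℕ} (h : Params F m)
include h

theorem comp_ne : (2 ^ (2 * m + 1) - 1 ≠ 2 ^ (2 * m + 1) + 2 ^ (m + 1) + 1) ∧
    (2 ^ (2 * m + 1) - 1 ≠ 2 ^ (2 * m + 1) - 2 ^ (m + 1) + 1) := by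
  have hr : 2 ^ (m + 1) ≤ 2 ^ (2 * m + 1) := Nat.pow_le_pow_right two_pos (by omega)
  have hr2 : 2 ^ 2 ≤ 2 ^ (m + 1) := Nat.pow_le_pow_right two_pos (by have := h.pos; omega)
  constructor <;> omega

theorem centralizer_card_of_dvd {x : ↥(Cfsg.Sz F m)} (hx : x ≠ 1) {T : ℕ} (hT : T ∈ compOrders h)
    (hd : orderOf x ∣ T) :
    ¬ 2 ∣ orderOf x ∧ Nat.card ↥(Subgroup.centralizer ({x} : Set ↥(Cfsg.Sz F m))) = T := by
  have hodd : ¬ 2 ∣ orderOf x := fun h' => (comp_two_le h hT).2 (h'.trans hd)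
  refine ⟨hodd, ?_⟩
  by_contra hne
  have h1 := Nat.eq_one_of_dvd_coprimes (comp_coprime h (comp_of_elem h hx hodd).2 hT hne)
    (Subgroup.orderOf_dvd_natCard _ (Subgroup.mem_centralizer_singleton_iff.mpr rfl)) hd
  exact hx (orderOf_eq_one_iff.mp h1)

theorem fpf_of_card {x : ↥(Cfsg.Sz F m)} (hx : x ≠ 1) (hodd : ¬ 2 ∣ orderOf x)
    (hne : Nat.card ↥(Subgroup.centralizer ({x} : Set ↥(Cfsg.Sz F m))) ≠ 2 ^ (2 * m + 1) - 1) : Fpf h x :=
  ((comp_index h (comp_of_elem h hx hodd).1 (comp_of_elem h hx hodd).2).2 hne).1 x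
    (Subgroup.mem_centralizer_singleton_iff.mpr rfl) hx

theorem solubilizer_card (hp : (2 * m + 1).Prime) (x : ↥(Cfsg.Sz F m)) :
    (orderOf x = 2 → (Sol h x).ncard = (2 ^ (2 * m + 1)) ^ 2 * (4 * 2 ^ (2 * m + 1) - 3)) ∧
    (orderOf x = 4 → (Sol h x).ncard = (2 ^ (2 * m + 1)) ^ 2 * (2 ^ (2 * m + 1) + 3)) ∧
    (x ≠ 1 → orderOf x ∣ 2 ^ (2 * m + 1) - 1 →
      (Sol h x).ncard = 2 * (2 ^ (2 * m + 1)) ^ 2 * (2 ^ (2 * m + 1) - 1)) ∧
    (x ≠ 1 → orderOf x ∣ 2 ^ (2 * m + 1) + 2 ^ (m + 1) + 1 →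
      (Sol h x).ncard = 4 * (2 ^ (2 * m + 1) + 2 ^ (m + 1) + 1)) ∧
    (x ≠ 1 → orderOf x ∣ 2 ^ (2 * m + 1) - 2 ^ (m + 1) + 1 →
      (Sol h x).ncard = 4 * (2 ^ (2 * m + 1) - 2 ^ (m + 1) + 1)) := by
  refine ⟨fun hx2 => ?_, fun hx4 => ?_, fun hx hd => ?_, fun hx hd => ?_, fun hx hd => ?_⟩
  · obtain ⟨σ, hσ⟩ := involution_conj h hx2
    rw [← sol_conj_ncard h σ x, hσ, sol_invol h hp]
  · have hx1 : x ≠ 1 := fun e => by rw [e, orderOf_one] at hx4; omega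
    obtain ⟨σ, ⟨a, b, hab⟩, -⟩ := exists_centralizer_le_US h hx1 (orderOf_dvd_iff_pow_eq_one.mp hx4.dvd)
    have ha : a ≠ 0 := by
      rintro rfl
      have h2 : (σ * x * σ⁻¹) ^ 2 = 1 := by
        rw [hab, uS_sq h, th_zero h, zero_mul, uS_zero h]
      have := Nat.le_of_dvd two_pos (orderOf_dvd_of_pow_eq_one h2)
      rw [Cfsg.Lib.Invol.orderOf_conj_eq, hx4] at this
      omega
    rw [← sol_conj_ncard h (dS h (Units.mk0 a⁻¹ (inv_ne_zero ha)) * σ) x,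
      show dS h (Units.mk0 a⁻¹ (inv_ne_zero ha)) * σ * x * (dS h (Units.mk0 a⁻¹ (inv_ne_zero ha)) * σ)⁻¹ =
        dS h (Units.mk0 a⁻¹ (inv_ne_zero ha)) * (σ * x * σ⁻¹) *
          (dS h (Units.mk0 a⁻¹ (inv_ne_zero ha)))⁻¹ by group, hab, dS_conj_uS h, Units.val_mk0,
      inv_mul_cancel₀ ha, sol_four h hp]
  · obtain ⟨hodd, hc⟩ := centralizer_card_of_dvd h hx (Or.inl rfl) hd
    obtain ⟨τ, hτ⟩ := ((comp_index h (comp_of_elem h hx hodd).1 (comp_of_elem h hx hodd).2).1 hc).1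
    obtain ⟨_, ⟨k, rfl⟩, hk⟩ := hτ.le (Subgroup.mem_centralizer_singleton_iff.mpr (rfl : x * x = x * x))
    change τ * dS h k * τ⁻¹ = x at hk
    rw [← hk, sol_conj_ncard h, sol_dS h hp]
    rintro rfl
    exact hx (by rw [← hk, map_one, mul_one, mul_inv_cancel])
  · obtain ⟨hodd, hc⟩ := centralizer_card_of_dvd h hx (Or.inr (Or.inl rfl)) hd
    rw [sol_torus h hp (fpf_of_card h hx hodd (fun e => (comp_ne h).1 (e.symm.trans hc))), hc]
  · obtain ⟨hodd, hc⟩ := centralizer_card_of_dvd h hx (Or.inr (Or.inr rfl)) hd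
    rw [sol_torus h hp (fpf_of_card h hx hodd (fun e => (comp_ne h).2 (e.symm.trans hc))), hc]

theorem card_sol_map {G : Type*} [Group G] (e : ↥(Cfsg.Sz F m) ≃* G) (x : ↥(Cfsg.Sz F m)) :
    Nat.card {y : G // Group.IsSolvable ↥(Subgroup.closure ({e x, y} : Set G))} = (Sol h x).ncard := by
  rw [← Nat.card_coe_set_eq]
  refine (Nat.card_congr (e.toEquiv.subtypeEquiv fun y => ?_)).symm
  have hmap : Subgroup.closure ({e x, e y} : Set G) =
      (Subgroup.closure ({x, y} : Set ↥(Cfsg.Sz F m))).map e.toMonoidHom := by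
    rw [MonoidHom.map_closure, Set.image_pair]
    rfl
  show Group.IsSolvable ↥(Subgroup.closure ({x, y} : Set ↥(Cfsg.Sz F m))) ↔
    Group.IsSolvable ↥(Subgroup.closure ({e x, e y} : Set G))
  rw [hmap]
  constructor
  · intro hs
    exact Group.isSolvable_of_surjective (MonoidHom.subgroupMap_surjective e.toMonoidHom _)
  · intro hs
    exact Group.isSolvable_of_isSolvable_injective
      (f := ((Subgroup.closure ({x, y} : Set ↥(Cfsg.Sz F m))).equivMapOfInjective e.toMonoidHom e.injective).toMonoidHom)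
      (MulEquiv.injective _)

end Cfsg.Lib.Linear.Suz
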