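import Cfsg.Agent.Lib.Linear.Suzuki.Solubilizer
import Cfsg.Agent.Lib.Invol.Counting

/-!
# Counting the components normalised by elements of two-power order

Involutions outside a point stabiliser, and the two elements of order four in each normaliser.
-/

set_option autoImplicit false

namespace Cfsg.Lib.Linear.Suz

open scoped Matrix LinearAlgebra.Projectivization

variable {F : Type*} [Field F] [Fintype F] {m : ℕ} (h : Params F m)
include h

theorem z_ne_one : uS h (0 : F) 1 ≠ 1 := fun e => one_ne_zero (uS_inj h (e.trans (uS_zero h).symm)).2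

theorem invol_inverts {x u : ↥(Cfsg.Sz F m)} (hx : x ∈ US h) (hx2 : orderOf x = 2) (hu : u ∈ Inv h x) :
    x * u * x⁻¹ = u⁻¹ := by
  have hx1 := Cfsg.Lib.Invol.ne_one hx2
  obtain ⟨hu1, huo, hxN⟩ := hu
  obtain ⟨hC, hk⟩ := comp_of_elem h hu1 huo
  have huC : u ∈ Subgroup.centralizer ({u} : Set ↥(Cfsg.Sz F m)) :=
    Subgroup.mem_centralizer_singleton_iff.mpr rfl
  have hwC : x * u * x⁻¹ ∈ Subgroup.centralizer ({u} : Set ↥(Cfsg.Sz F m)) :=
    (Subgroup.mem_normalizer_iff.mp hxN u).mp huC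
  have hxx := Cfsg.Lib.Invol.inv_mul_self hx2
  have hxi := Cfsg.Lib.Invol.inv_eq_self hx2
  obtain ⟨s, hs⟩ : ∃ s, s = x * u * x⁻¹ * u := ⟨_, rfl⟩
  have hcomm : x * u * x⁻¹ * u = u * (x * u * x⁻¹) := Subgroup.mem_centralizer_singleton_iff.mp hwC
  have hsx : s * x = x * s := by
    have e1 : x * s * x⁻¹ = s := by
      rw [hs, show x * (x * u * x⁻¹ * u) * x⁻¹ = (x * x) * u * (x⁻¹ * x⁻¹) * (x * u * x⁻¹) by group,
        hxx, hxi, hxx, one_mul, mul_one]
      rw [hxi] at hcomm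
      exact hcomm.symm
    exact (mul_inv_eq_iff_eq_mul.mp e1).symm
  have hsU : s ∈ US h :=
    centralizer_US h hx hx1 (Subgroup.mem_centralizer_singleton_iff.mpr hsx)
  have h4 := pow_four_of_mem_US h hsU
  have hsC : s ∈ Subgroup.centralizer ({u} : Set ↥(Cfsg.Sz F m)) := hs ▸ mul_mem hwC huC
  have hd := Nat.dvd_gcd (Subgroup.orderOf_dvd_natCard _ hsC) (orderOf_dvd_of_pow_eq_one h4)
  rw [show (Nat.card ↥(Subgroup.centralizer ({u} : Set ↥(Cfsg.Sz F m)))).gcd 4 = 1 from comp_coprime_four h hk,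
    Nat.dvd_one, orderOf_eq_one_iff] at hd
  rw [hs] at hd
  exact eq_inv_of_mul_eq_one_left hd

theorem mem_NC_of_inverts {x u : ↥(Cfsg.Sz F m)} (e : x * u * x⁻¹ = u⁻¹) : x ∈ NC h u := by
  have hC : Subgroup.centralizer ({u⁻¹} : Set ↥(Cfsg.Sz F m)) = Subgroup.centralizer {u} := by
    ext c
    simp only [Subgroup.mem_centralizer_singleton_iff]
    exact ⟨fun h' => (inv_inv u) ▸ (Commute.inv_right h'), fun h' => Commute.inv_right h'⟩
  have hm : (Subgroup.centralizer ({u} : Set ↥(Cfsg.Sz F m))).map (MulAut.conj x).toMonoidHom =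
      Subgroup.centralizer {u} := by
    rw [← conj_centralizer h, e, hC]
  exact Subgroup.mem_normalizer_fintype fun n hn => hm.le ⟨n, hn, rfl⟩

theorem card_pts_Inv : (Inv h (uS h 0 1)).ncard = (2 ^ (2 * m + 1)) ^ 2 * (2 ^ (2 * m + 1) - 1) := by
  classical
  have hz2 : orderOf (uS h (0 : F) 1) = 2 := orderOf_uS_zero h one_ne_zero
  have hzU : uS h (0 : F) 1 ∈ US h := ⟨0, 1, rfl⟩
  obtain ⟨g, hg⟩ : ∃ g : F × F → ↥(Cfsg.Sz F m), ∀ p, g p = uS h p.1 p.2 * wS h := ⟨_, fun p => rfl⟩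
  have hgp : ∀ p : F × F, (g p).1 • Cfsg.suzukiPointInfinity F = pA m p.1 p.2 := fun p => by
    rw [hg]
    show (uSL m p.1 p.2 * wSL F) • _ = _
    rw [mul_smul, wSL_inf h, uSL_zero_pt h]
  obtain ⟨f, hf⟩ : ∃ f : (F × F) × {b : F // b ≠ 0} → ↥(Cfsg.Sz F m),
      ∀ z, f z = g z.1 * uS h 0 z.2.1 * (g z.1)⁻¹ := ⟨_, fun z => rfl⟩
  have hpt : ∀ z, ∀ p ∈ Cfsg.suzukiOvoid F m, (f z).1 • p = p → p = pA m z.1.1 z.1.2 := by
    intro z p hp e
    rw [hf] at e
    change ((g z.1).1 * uSL m 0 z.2.1 * (g z.1).1⁻¹) • p = p at e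
    rw [mul_smul, mul_smul, smul_eq_iff_eq_inv_smul] at e
    have e2 := fix_unique h (fun e' => z.2.2 (uS_inj h (e'.trans (uS_zero h).symm)).2)
      (mem_Sz_iff.mp ((g z.1)⁻¹).2 _ hp) e
    rw [← hgp, ← e2]
    exact (smul_inv_smul (g z.1).1 p).symm
  have hord : ∀ z, orderOf (f z) = 2 := fun z => by
    rw [hf, Cfsg.Lib.Invol.orderOf_conj_eq, orderOf_uS_zero h z.2.2]
  have hout : ∀ z, (f z).1 • Cfsg.suzukiPointInfinity F ≠ Cfsg.suzukiPointInfinity F := fun z e =>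
    inf_ne_pA m _ _ (hpt z _ (mem_inf m) e)
  have hinj : Function.Injective f := by
    intro z z' e
    have hfixz : (f z).1 • pA m z.1.1 z.1.2 = pA m z.1.1 z.1.2 := by
      rw [hf, ← hgp]
      show ((g z.1).1 * uSL m 0 z.2.1 * (g z.1).1⁻¹) • _ = _
      rw [mul_smul, mul_smul, inv_smul_smul, uSL_inf]
    obtain ⟨e1, e2⟩ := pA_injective (hpt z' _ (mem_pA m _ _) (e ▸ hfixz))
    have h1 : z.1 = z'.1 := Prod.ext e1 e2
    rw [hf, hf, h1] at e
    exact Prod.ext h1 (Subtype.ext (uS_inj h (mul_left_cancel (mul_right_cancel e))).2)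
  obtain ⟨φ, hφ⟩ : ∃ φ : (F × F) × {b : F // b ≠ 0} → ↥(Cfsg.Sz F m),
      ∀ z, φ z = uS h 0 1 * f z := ⟨_, fun z => rfl⟩
  have hrange : Set.range φ = Inv h (uS h 0 1) := by
    ext u
    constructor
    · rintro ⟨z, rfl⟩
      rw [hφ]
      have hne : uS h 0 1 ≠ f z := fun e => hout z (e ▸ uSL_inf 0 1)
      have hodd : ¬ 2 ∣ orderOf (uS h 0 1 * f z) := by
        intro hev
        obtain ⟨hw, hws, hwv⟩ := Cfsg.Lib.Invol.central_involution hz2 (hord z) (even_iff_two_dvd.mpr hev)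
        have hwU := centralizer_US h hzU (z_ne_one h) (Subgroup.mem_centralizer_singleton_iff.mpr hws.eq)
        obtain ⟨a, b, hab⟩ := centralizer_US h hwU (Cfsg.Lib.Invol.ne_one hw)
          (Subgroup.mem_centralizer_singleton_iff.mpr hwv.eq.symm)
        exact hout z (hab ▸ uSL_inf a b)
      refine ⟨fun e => hne ?_, hodd, mem_NC_of_inverts h (Cfsg.Lib.Invol.conj_mul_left hz2 (hord z))⟩
      have := eq_inv_of_mul_eq_one_left e
      rwa [Cfsg.Lib.Invol.inv_eq_self (hord z)] at this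
    · intro hu
      have hinv := invol_inverts h hzU hz2 hu
      obtain ⟨hu1, huo, hxN⟩ := hu
      have hvv : uS h 0 1 * u * (uS h 0 1 * u) = 1 := by
        rw [Cfsg.Lib.Invol.inv_eq_self hz2] at hinv
        rw [← mul_assoc, hinv, inv_mul_cancel]
      have hv2 : orderOf (uS h 0 1 * u) = 2 := by
        refine Cfsg.Lib.Invol.orderOf_eq_two_of (fun e => huo ?_) hvv
        have := eq_inv_of_mul_eq_one_right e
        rw [Cfsg.Lib.Invol.inv_eq_self hz2] at this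
        rw [this, hz2]
      have hvout : (uS h 0 1 * u).1 • Cfsg.suzukiPointInfinity F ≠ Cfsg.suzukiPointInfinity F := by
        intro e
        refine hu1 (US_meet h hzU (z_ne_one h) (comp_of_elem h hu1 huo).1 (comp_of_elem h hu1 huo).2 hxN
          (Subgroup.mem_centralizer_singleton_iff.mpr rfl) ?_)
        change (uSL m (0 : F) 1 * u.1) • _ = _ at e
        rw [mul_smul, smul_eq_iff_eq_inv_smul] at e
        rw [e, inv_smul_eq_iff, uSL_inf]
      obtain ⟨σ, hσ, -⟩ := exists_centralizer_le_US h (Cfsg.Lib.Invol.ne_one hv2)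
        (orderOf_dvd_iff_pow_eq_one.mp (hv2 ▸ by norm_num))
      obtain ⟨a, c, hac⟩ := hσ
      have hp : (uS h 0 1 * u).1 • ((σ⁻¹).1 • Cfsg.suzukiPointInfinity F) = (σ⁻¹).1 • Cfsg.suzukiPointInfinity F :=
        (mem_conj_stab h (g := σ⁻¹) rfl).mp (by rw [inv_inv, hac]; exact uSL_inf a c)
      obtain ⟨x, y, hxy⟩ := (mem_ovoid_iff.mp (mem_Sz_iff.mp (σ⁻¹).2 _ (mem_inf m))).resolve_left
        fun e => hvout (by rwa [e] at hp)
      rw [hxy] at hp
      obtain ⟨b, hb, e⟩ := stab_coords_two h ((mem_conj_stab h (hgp (x, y))).mpr hp) (by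
        have := Cfsg.Lib.Invol.orderOf_conj_eq (g (x, y))⁻¹ (uS h 0 1 * u)
        rw [inv_inv] at this
        rw [this, hv2])
      refine ⟨((x, y), ⟨b, hb⟩), ?_⟩
      rw [hφ, hf]
      simp only
      rw [← e, show g (x, y) * ((g (x, y))⁻¹ * (uS h 0 1 * u) * g (x, y)) * (g (x, y))⁻¹ = uS h 0 1 * u by group,
        ← mul_assoc, Cfsg.Lib.Invol.inv_mul_self hz2, one_mul]
  rw [← hrange, Set.ncard_range_of_injective (fun a b e => hinj (mul_left_cancel (a := uS h 0 1) (by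
    rw [← hφ, ← hφ, e]))), Nat.card_prod, Nat.card_prod, Nat.card_eq_fintype_card (α := F), h.card,
    Nat.card_eq_fintype_card (α := {b : F // b ≠ 0}), Fintype.card_subtype_compl, Fintype.card_subtype_eq,
    h.card, sq]

theorem card_InvD : 2 * (InvD h (uS h 0 1)).ncard =
    (2 ^ (2 * m + 1)) ^ 2 * (2 ^ (2 * m + 1) - 2) := by
  classical
  have hz2 : orderOf (uS h (0 : F) 1) = 2 := orderOf_uS_zero h one_ne_zero
  have hzU : uS h (0 : F) 1 ∈ US h := ⟨0, 1, rfl⟩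
  have hmove : ∀ p : F × F, pA m p.1 p.2 ≠ (uS h (0 : F) 1).1 • pA m p.1 p.2 := fun p e =>
    inf_ne_pA m p.1 p.2 (fix_unique h (z_ne_one h) (mem_pA m _ _) e.symm).symm
  have hσ : ∀ p : F × F, ∃ σ : ↥(Cfsg.Sz F m), σ.1 • pA m p.1 p.2 = Cfsg.suzukiPointInfinity F ∧
      σ.1 • ((uS h (0 : F) 1).1 • pA m p.1 p.2) = pA m 0 0 := fun p =>
    to_inf_zero h (mem_pA m _ _) (mem_Sz_iff.mp (uS h (0 : F) 1).2 _ (mem_pA m _ _)) (hmove p)
  choose σ hσ1 hσ2 using hσ
  -- pairs of a point and an element of a component through that point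
  obtain ⟨f, hf⟩ : ∃ f : (F × F) × {k : Fˣ // k ≠ 1} → (F × F) × ↥(Cfsg.Sz F m),
      ∀ z, f z = (z.1, (σ z.1)⁻¹ * dS h z.2.1 * σ z.1) := ⟨_, fun z => rfl⟩
  have hinj : Function.Injective f := by
    intro z z' e
    rw [hf, hf] at e
    obtain ⟨e1, e2⟩ := Prod.mk.inj e
    rw [e1] at e2
    exact Prod.ext e1 (Subtype.ext (dS_injective h (mul_left_cancel (mul_right_cancel e2))))
  have hrange : Set.range f = {w | w.2 ∈ InvD h (uS h 0 1) ∧ w.2.1 • pA m w.1.1 w.1.2 = pA m w.1.1 w.1.2} := by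
    ext ⟨p, u⟩
    constructor
    · rintro ⟨⟨q, k, hk⟩, e⟩
      rw [hf] at e
      obtain ⟨rfl, rfl⟩ := Prod.mk.inj e
      obtain ⟨κ, hκ⟩ := moves_inf_zero h (v := σ q * uS h 0 1 * (σ q)⁻¹)
        (by show ((σ q).1 * (uS h (0 : F) 1).1 * (σ q).1⁻¹) • _ = _
            rw [mul_smul, mul_smul, inv_smul_eq_iff.mpr (hσ1 q).symm, hσ2])
        (by show ((σ q).1 * (uS h (0 : F) 1).1 * (σ q).1⁻¹) • _ = _
            rw [mul_smul, mul_smul, inv_smul_eq_iff.mpr (hσ2 q).symm, ← mul_smul (uS h (0 : F) 1).1,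
              ← Subgroup.coe_mul, Cfsg.Lib.Invol.inv_mul_self hz2, Subgroup.coe_one, one_smul, hσ1])
      have hinv : uS h 0 1 * ((σ q)⁻¹ * dS h k * σ q) * (uS h 0 1)⁻¹ = ((σ q)⁻¹ * dS h k * σ q)⁻¹ := by
        rw [show uS h 0 1 * ((σ q)⁻¹ * dS h k * σ q) * (uS h 0 1)⁻¹ =
          (σ q)⁻¹ * ((σ q * uS h 0 1 * (σ q)⁻¹) * dS h k * (σ q * uS h 0 1 * (σ q)⁻¹)⁻¹) * σ q by group, hκ,
          show wS h * dS h κ * dS h k * (wS h * dS h κ)⁻¹ =
            wS h * (dS h κ * dS h k * (dS h κ)⁻¹) * (wS h)⁻¹ by group,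
          ← map_mul, ← map_inv (dS h) κ, ← map_mul, mul_inv_cancel_comm, wS_conj h, mul_inv_cancel_right, map_inv]
        group
      have hne : dS h k ≠ 1 := fun e => hk (dS_injective h (e.trans (map_one (dS h)).symm))
      have hne' : (σ q)⁻¹ * dS h k * σ q ≠ 1 := fun e => hne (by
        rwa [mul_eq_one_iff_eq_inv, mul_eq_left] at e)
      have hck : Nat.card ↥(dS h).range ∈ compOrders h := by rw [card_DS h]; exact q_sub_one_mem h
      have hodd := (comp_centralizer h (isCyclic_DS h) hck ⟨k, rfl⟩ hne).1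
      have hord : orderOf ((σ q)⁻¹ * dS h k * σ q) = orderOf (dS h k) := by
        have := Cfsg.Lib.Invol.orderOf_conj_eq (σ q)⁻¹ (dS h k)
        rwa [inv_inv] at this
      refine ⟨⟨⟨hne', hord ▸ hodd, mem_NC_of_inverts h hinv⟩, ?_⟩, ?_⟩
      · have := card_conj_centralizer h (σ q)⁻¹ (dS h k)
        rw [inv_inv] at this
        rw [this, centralizer_DS h ⟨k, rfl⟩ hne, card_DS h]
      · show ((σ q).1⁻¹ * (dS h k).1 * (σ q).1) • _ = _
        rw [mul_smul, mul_smul, hσ1, (dS_fix_both h k).1, inv_smul_eq_iff, hσ1]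
    · rintro ⟨⟨hu, -⟩, hfix⟩
      dsimp only at hu hfix
      have hinv := invol_inverts h hzU hz2 hu
      have hfix2 : u.1 • ((uS h (0 : F) 1).1 • pA m p.1 p.2) = (uS h (0 : F) 1).1 • pA m p.1 p.2 := by
        have hcm : u * uS h 0 1 = uS h 0 1 * u⁻¹ := by
          have e1 := mul_inv_eq_iff_eq_mul.mp hinv
          rw [show u * uS h 0 1 = u * (uS h 0 1 * u) * u⁻¹ by group, e1]
          group
        have := congrArg (fun g : ↥(Cfsg.Sz F m) => g.1 • pA m p.1 p.2) hcm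
        simp only [Subgroup.coe_mul, Subgroup.coe_inv, mul_smul] at this
        rw [this, inv_smul_eq_iff.mpr hfix.symm]
      obtain ⟨k, hk⟩ := (mem_stab_two_iff h).mp (show σ p * u * (σ p)⁻¹ ∈
          MulAction.stabilizer ↥(Cfsg.Sz F m) (Cfsg.suzukiPointInfinity F) ⊓
            MulAction.stabilizer ↥(Cfsg.Sz F m) (Cfsg.suzukiPointZero F) from ⟨by
        show ((σ p).1 * u.1 * (σ p).1⁻¹) • Cfsg.suzukiPointInfinity F = Cfsg.suzukiPointInfinity F
        rw [mul_smul, mul_smul, inv_smul_eq_iff.mpr (hσ1 p).symm, hfix, hσ1], by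
        show ((σ p).1 * u.1 * (σ p).1⁻¹) • Cfsg.suzukiPointZero F = Cfsg.suzukiPointZero F
        rw [pZero_eq h, mul_smul, mul_smul, inv_smul_eq_iff.mpr (hσ2 p).symm, hfix2, hσ2]⟩)
      refine ⟨(p, ⟨k, fun e => hu.1 ?_⟩), ?_⟩
      · rw [e, map_one] at hk
        rwa [mul_inv_eq_one, mul_eq_left] at hk
      · rw [hf]
        simp only
        rw [← hk]
        congr 1
        group
  have hcount : Nat.card ↥(Set.range f) = (2 ^ (2 * m + 1)) ^ 2 * (2 ^ (2 * m + 1) - 2) := by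
    rw [Nat.card_range_of_injective hinj, Nat.card_prod, Nat.card_prod, Nat.card_eq_fintype_card (α := F),
      h.card, Nat.card_eq_fintype_card (α := {k : Fˣ // k ≠ 1}), Fintype.card_subtype_compl,
      Fintype.card_subtype_eq, Fintype.card_units, h.card, sq, Nat.sub_sub]
  have hfib : ∀ u ∈ InvD h (uS h 0 1),
      Nat.card {p : F × F // u.1 • pA m p.1 p.2 = pA m p.1 p.2} = 2 := by
    rintro u ⟨⟨hu1, huo, hzN⟩, hcard⟩
    obtain ⟨hC, hk⟩ := comp_of_elem h hu1 huo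
    obtain ⟨τ, hτ⟩ := ((comp_index h hC hk).1 hcard).1
    obtain ⟨_, ⟨k, rfl⟩, hk'⟩ := hτ.le (Subgroup.mem_centralizer_singleton_iff.mpr (rfl : u * u = u * u))
    change τ * dS h k * τ⁻¹ = u at hk'
    have hk1 : k ≠ 1 := fun e => hu1 (by rw [← hk', e, map_one, mul_one, mul_inv_cancel])
    have hnoinf : u.1 • Cfsg.suzukiPointInfinity F ≠ Cfsg.suzukiPointInfinity F := fun e =>
      hu1 (US_meet h hzU (z_ne_one h) hC hk hzN (Subgroup.mem_centralizer_singleton_iff.mpr rfl) e)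
    have hfx : ∀ P ∈ Cfsg.suzukiOvoid F m, u.1 • P = P ↔
        P = τ.1 • Cfsg.suzukiPointInfinity F ∨ P = τ.1 • pA m (0 : F) 0 := by
      intro P hP
      rw [← hk']
      show (τ.1 * (dS h k).1 * τ.1⁻¹) • P = P ↔ _
      rw [mul_smul, mul_smul]
      constructor
      · intro e
        rw [smul_eq_iff_eq_inv_smul] at e
        rcases dS_fix_cases h hk1 (mem_Sz_iff.mp (τ⁻¹).2 _ hP) e with e' | e'
        exacts [Or.inl (inv_smul_eq_iff.mp e'), Or.inr (inv_smul_eq_iff.mp e')]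
      · rintro (rfl | rfl) <;> rw [inv_smul_smul]
        · rw [(dS_fix_both h k).1]
        · rw [(dS_fix_both h k).2]
    have haff : ∀ P ∈ Cfsg.suzukiOvoid F m, u.1 • P = P → ∃ p : F × F, P = pA m p.1 p.2 := fun P hP e =>
      match mem_ovoid_iff.mp hP with
      | Or.inl e' => absurd (e' ▸ e) hnoinf
      | Or.inr ⟨x, y, e'⟩ => ⟨(x, y), e'⟩
    obtain ⟨p₁, hp₁⟩ := haff _ (mem_Sz_iff.mp τ.2 _ (mem_inf m))
      ((hfx _ (mem_Sz_iff.mp τ.2 _ (mem_inf m))).mpr (Or.inl rfl))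
    obtain ⟨p₂, hp₂⟩ := haff _ (mem_Sz_iff.mp τ.2 _ (mem_pA m 0 0))
      ((hfx _ (mem_Sz_iff.mp τ.2 _ (mem_pA m 0 0))).mpr (Or.inr rfl))
    have hne : p₁ ≠ p₂ := fun e => inf_ne_pA m (0 : F) 0
      (MulAction.injective τ.1 (hp₁.trans ((congrArg (fun p : F × F => pA m p.1 p.2) e).trans hp₂.symm)))
    have hset : {p : F × F | u.1 • pA m p.1 p.2 = pA m p.1 p.2} = {p₁, p₂} := by
      ext p
      simp only [Set.mem_setOf_eq, Set.mem_insert_iff, Set.mem_singleton_iff]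
      rw [hfx _ (mem_pA m _ _), hp₁, hp₂]
      exact or_congr ⟨fun e => Prod.ext (pA_injective e).1 (pA_injective e).2, fun e => by rw [e]⟩
        ⟨fun e => Prod.ext (pA_injective e).1 (pA_injective e).2, fun e => by rw [e]⟩
    show Nat.card ↥{p : F × F | u.1 • pA m p.1 p.2 = pA m p.1 p.2} = 2
    rw [hset, Nat.card_coe_set_eq, Set.ncard_pair hne]
  have e : ↥(Set.range f) ≃
      Σ u : ↥(InvD h (uS h 0 1)), {p : F × F // u.1.1 • pA m p.1 p.2 = pA m p.1 p.2} := by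
    rw [hrange]
    exact { toFun := fun w => ⟨⟨w.1.2, w.2.1⟩, ⟨w.1.1, w.2.2⟩⟩
            invFun := fun z => ⟨(z.2.1, z.1.1), z.1.2, z.2.2⟩
            left_inv := fun w => rfl
            right_inv := fun z => rfl }
  rw [← hcount, Nat.card_congr e, Nat.card_sigma, Finset.sum_congr rfl fun u _ => hfib u.1 u.2,
    Finset.sum_const, Finset.card_univ, ← Nat.card_eq_fintype_card, Nat.card_coe_set_eq, smul_eq_mul, mul_comm]

theorem sol_invol (hp : (2 * m + 1).Prime) :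
    (Sol h (uS h 0 1)).ncard = (2 ^ (2 * m + 1)) ^ 2 * (4 * 2 ^ (2 * m + 1) - 3) := by
  have e := sol_US h hp (x := uS h 0 1) ⟨0, 1, rfl⟩ (z_ne_one h)
  rw [card_InvD h, card_pts_Inv h] at e
  have hq := q_ge h
  zify [show 1 ≤ 2 ^ (2 * m + 1) by omega, show 2 ≤ 2 ^ (2 * m + 1) by omega,
    show 3 ≤ 4 * 2 ^ (2 * m + 1) by omega] at e ⊢
  linear_combination e

end Cfsg.Lib.Linear.Suz
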