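import Cfsg.Agent.Lib.Linear.Suzuki.SolubilizerCount

/-!
# Solubilizers of the elements of order four

All square roots of a central involution normalise equally many components.
-/

set_option autoImplicit false

namespace Cfsg.Lib.Linear.Suz

open scoped Matrix LinearAlgebra.Projectivization

variable {F : Type*} [Field F] [Fintype F] {m : ℕ} (h : Params F m)
include h

theorem uS_sq (a b : F) : uS h a b ^ 2 = uS h 0 (th m a * a) := by
  rw [sq, uS_mul h, add_self h, add_self h, zero_add]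

theorem uS_one_ne_one (b : F) : uS h 1 b ≠ 1 := fun e => one_ne_zero (uS_inj h (e.trans (uS_zero h).symm)).1

theorem Inv_inv (x : ↥(Cfsg.Sz F m)) : Inv h x⁻¹ = Inv h x := by
  ext u
  simp only [Inv, Set.mem_setOf_eq, inv_mem_iff]

theorem Inv_conj_ncard (σ x : ↥(Cfsg.Sz F m)) : (Inv h (σ * x * σ⁻¹)).ncard = (Inv h x).ncard := by
  have key : ∀ (τ a u : ↥(Cfsg.Sz F m)), u ∈ Inv h a → τ * u * τ⁻¹ ∈ Inv h (τ * a * τ⁻¹) := by
    rintro τ a u ⟨hu1, huo, haN⟩
    refine ⟨fun e => hu1 (by rwa [mul_inv_eq_one, mul_eq_left] at e), ?_, ?_⟩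
    · rwa [Cfsg.Lib.Invol.orderOf_conj_eq]
    · show τ * a * τ⁻¹ ∈ Subgroup.normalizer
        (Subgroup.centralizer ({τ * u * τ⁻¹} : Set ↥(Cfsg.Sz F m)) : Set ↥(Cfsg.Sz F m))
      rw [conj_centralizer h, ← Subgroup.map_equiv_normalizer_eq _ (MulAut.conj τ)]
      exact ⟨a, haN, rfl⟩
  have e : Inv h (σ * x * σ⁻¹) = (fun y => σ * y * σ⁻¹) '' Inv h x := by
    ext u
    refine ⟨fun hu => ⟨σ⁻¹ * u * σ, ?_, by group⟩, ?_⟩
    · have := key σ⁻¹ _ _ hu
      rwa [show σ⁻¹ * (σ * x * σ⁻¹) * σ⁻¹⁻¹ = x by group, inv_inv] at this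
    · rintro ⟨z, hz, rfl⟩
      exact key σ x z hz
  rw [e, Set.ncard_image_of_injective]
  exact fun a b e' => mul_left_cancel (mul_right_cancel e')

theorem exists_as_root (b : F) : ∃ c : F, c + th m c = b ∨ c + th m c + 1 = b := by
  classical
  haveI := charP_two h
  obtain ⟨ψ, hψ⟩ : ∃ ψ : F →+ F, ∀ c, ψ c = c + th m c :=
    ⟨AddMonoidHom.mk' (fun c => c + th m c) fun x y => by rw [th_add h]; ring, fun c => rfl⟩
  have hker : Nat.card ↥ψ.ker ≤ 2 := by
    have : ∀ c ∈ ψ.ker, c = 0 ∨ c = 1 := fun c hc => th_eq_self h (by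
      rw [AddMonoidHom.mem_ker, hψ] at hc
      linear_combination hc - c * two_eq h)
    rw [← SetLike.coe_sort_coe, Nat.card_coe_set_eq]
    refine (Set.ncard_le_ncard (t := {0, 1}) (fun c hc => this c hc) (Set.toFinite _)).trans ?_
    rw [Set.ncard_pair zero_ne_one]
  have hprod := ψ.ker.index_mul_card
  rw [AddSubgroup.index_ker, Nat.card_eq_fintype_card (α := F)] at hprod
  have hdis : Disjoint (ψ.range : Set F) ((fun y => y + 1) '' (ψ.range : Set F)) := by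
    refine Set.disjoint_left.mpr ?_
    rintro _ ⟨c, rfl⟩ ⟨_, ⟨d, rfl⟩, e⟩
    simp only [hψ] at e
    have e1 : (c + d) + th m (c + d) = 1 := by
      rw [th_add h]
      linear_combination -e + (d + th m d) * two_eq h
    obtain ⟨w, hw⟩ : ∃ w, w = c + d := ⟨_, rfl⟩
    rw [← hw] at e1
    have e2 := congrArg (th m) e1
    rw [th_add h, th_th h, th_one h] at e2
    have e3 : w * (w + 1) = 0 := by linear_combination e1 + e2 - (th m w - 1) * two_eq h
    rcases mul_eq_zero.mp e3 with h0 | h0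
    · rw [h0, th_zero h, add_zero] at e1
      exact zero_ne_one e1
    · rw [show w = 1 by linear_combination h0 - two_eq h, th_one h] at e1
      exact one_ne_zero (by linear_combination -e1 + two_eq h)
  have huniv : (ψ.range : Set F) ∪ (fun y => y + 1) '' (ψ.range : Set F) = Set.univ := by
    refine Set.eq_of_subset_of_ncard_le (Set.subset_univ _) ?_ (Set.toFinite _)
    rw [Set.ncard_union_eq hdis, Set.ncard_image_of_injective _ (add_left_injective 1), Set.ncard_univ,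
      ← Nat.card_coe_set_eq, SetLike.coe_sort_coe, Nat.card_eq_fintype_card (α := F), ← hprod]
    calc Nat.card ↥ψ.range * Nat.card ↥ψ.ker ≤ Nat.card ↥ψ.range * 2 := Nat.mul_le_mul_left _ hker
      _ = _ := by ring
  rcases huniv.ge (Set.mem_univ b) with ⟨c, hc⟩ | ⟨_, ⟨c, rfl⟩, hc⟩
  · exact ⟨c, Or.inl ((hψ c).symm.trans hc)⟩
  · exact ⟨c, Or.inr (by rw [← hψ]; exact hc)⟩

theorem Inv_root_const (b : F) : (Inv h (uS h 1 b)).ncard = (Inv h (uS h 1 0)).ncard := by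
  obtain ⟨c, hc⟩ := exists_as_root h b
  have key : uS h c 0 * uS h 1 0 * (uS h c 0)⁻¹ = uS h 1 (c + th m c) := by
    rw [uS_inv h, uS_mul h, uS_mul h, th_add h, th_one h]
    congr 1
    · linear_combination c * two_eq h
    · linear_combination (th m c * c) * two_eq h
  rcases hc with rfl | rfl
  · rw [← key, Inv_conj_ncard h]
  · have e : (uS h 1 (c + th m c))⁻¹ = uS h 1 (c + th m c + 1) := by
      rw [uS_inv h, th_one h, mul_one]
    rw [← e, Inv_inv h, ← key, Inv_conj_ncard h]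

theorem Inv_root_sub (b : F) : Inv h (uS h 1 b) ⊆ Inv h (uS h 0 1) \ InvD h (uS h 0 1) := by
  classical
  rintro u ⟨hu1, huo, hxN⟩
  have hz : uS h (0 : F) 1 = uS h 1 b ^ 2 := by rw [uS_sq h, th_one h, mul_one]
  refine ⟨⟨hu1, huo, hz ▸ pow_mem hxN 2⟩, ?_⟩
  rintro ⟨-, hcard⟩
  obtain ⟨hC, hk⟩ := comp_of_elem h hu1 huo
  have hzC : uS h (0 : F) 1 ∈ Subgroup.centralizer ({u} : Set ↥(Cfsg.Sz F m)) := by
    have hidx : ((Subgroup.centralizer ({u} : Set ↥(Cfsg.Sz F m))).subgroupOf (NC h u)).index = 2 := by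
      have hc := ((Subgroup.centralizer ({u} : Set ↥(Cfsg.Sz F m))).subgroupOf (NC h u)).index_mul_card
      rw [Nat.card_congr (Subgroup.subgroupOfEquivOfLe (show Subgroup.centralizer ({u} : Set ↥(Cfsg.Sz F m)) ≤ NC h u
          from Subgroup.le_normalizer)).toEquiv,
        show Nat.card ↥(NC h u) = _ from ((comp_index h hC hk).1 hcard).2] at hc
      exact Nat.eq_of_mul_eq_mul_right Nat.card_pos hc
    have hn := Subgroup.mul_self_mem_of_index_two hidx (⟨uS h 1 b, hxN⟩ : ↥(NC h u))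
    rw [Subgroup.mem_subgroupOf, Subgroup.coe_mul, ← sq, ← hz] at hn
    exact hn
  have h2 := (comp_two_le h hk).2
  refine h2 ?_
  have := Subgroup.orderOf_dvd_natCard _ hzC
  rwa [orderOf_uS_zero h one_ne_zero] at this

theorem two_roots {u : ↥(Cfsg.Sz F m)} (hu : u ∈ Inv h (uS h 0 1) \ InvD h (uS h 0 1)) :
    Nat.card {b : F // u ∈ Inv h (uS h 1 b)} = 2 := by
  classical
  obtain ⟨⟨hu1, huo, hzN⟩, hD⟩ := hu
  have hzU : uS h (0 : F) 1 ∈ US h := ⟨0, 1, rfl⟩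
  obtain ⟨hC, hk⟩ := comp_of_elem h hu1 huo
  obtain ⟨H, hH⟩ : ∃ H, H = NC h u ⊓ MulAction.stabilizer ↥(Cfsg.Sz F m) (Cfsg.suzukiPointInfinity F) := ⟨_, rfl⟩
  have hcard : Nat.card ↥H = 4 := by
    rw [hH, (NC_inf_stab h hzU (z_ne_one h) ⟨hu1, huo, hzN⟩).1, if_neg]
    exact fun e => hD ⟨⟨hu1, huo, hzN⟩, e⟩
  have hmemH : ∀ g, g ∈ H → g ∈ NC h u ∧
      g ∈ MulAction.stabilizer ↥(Cfsg.Sz F m) (Cfsg.suzukiPointInfinity F) := fun g hg => hH.le hg
  have hzH : uS h (0 : F) 1 ∈ H := hH.ge ⟨hzN, uSL_inf 0 1⟩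
  have huC : u ∈ Subgroup.centralizer ({u} : Set ↥(Cfsg.Sz F m)) :=
    Subgroup.mem_centralizer_singleton_iff.mpr rfl
  have honly : ∀ c, uS h (0 : F) c ∈ H → c = 0 ∨ c = 1 := by
    intro c hc
    refine or_iff_not_imp_left.mpr fun hc0 => ?_
    have e1 := invol_inverts h ⟨0, c, rfl⟩ (orderOf_uS_zero h hc0) ⟨hu1, huo, (hmemH _ hc).1⟩
    have e2 := invol_inverts h hzU (orderOf_uS_zero h one_ne_zero) ⟨hu1, huo, hzN⟩
    have hcm : (uS h 0 c * uS h 0 1) * u * (uS h 0 c * uS h 0 1)⁻¹ = u := by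
      rw [show (uS h 0 c * uS h 0 1) * u * (uS h 0 c * uS h 0 1)⁻¹ =
        uS h 0 c * (uS h 0 1 * u * (uS h 0 1)⁻¹) * (uS h 0 c)⁻¹ by group, e2, ← conj_inv, e1, inv_inv]
    have hmem : uS h 0 c * uS h 0 1 ∈ Subgroup.centralizer ({u} : Set ↥(Cfsg.Sz F m)) :=
      Subgroup.mem_centralizer_singleton_iff.mpr (mul_inv_eq_iff_eq_mul.mp hcm)
    have h1 := US_meet h hzU (z_ne_one h) hC hk hzN hmem (hmemH _ (mul_mem hc hzH)).2
    rw [uS_mul h, th_zero h, zero_mul, add_zero, add_zero, ← uS_zero h] at h1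
    linear_combination (uS_inj h h1).2 - two_eq h
  have hform : ∀ g ∈ H, ∃ a b : F, g = uS h a b ∧ (a = 0 ∨ a = 1) := by
    intro g hg
    obtain ⟨a, b, k, rfl⟩ := (mem_stab_inf_iff h).mp (hmemH _ hg).2
    have hPH : IsPGroup 2 ↥H := IsPGroup.of_card (n := 2) (by rw [hcard]; norm_num)
    obtain ⟨a', b', e⟩ := two_group_le_US h hPH hzH hzU (z_ne_one h) hg
    refine ⟨a', b', e, ?_⟩
    have hsq : uS h 0 (th m a' * a') ∈ H := by
      rw [← uS_sq h a' b', ← e]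
      exact pow_mem hg 2
    rcases honly _ hsq with e0 | e0
    · exact Or.inl ((mul_eq_zero.mp e0).elim (fun e' => (th_eq_zero h).mp e') id)
    · exact Or.inr (mul_th_inj h (by rw [th_one h, mul_one, mul_comm, e0]))
  have hset : (↑H : Set ↥(Cfsg.Sz F m)) \ {1, uS h 0 1} = (fun b : F => uS h 1 b) '' {b | u ∈ Inv h (uS h 1 b)} := by
    ext g
    constructor
    · rintro ⟨hg, hg'⟩
      obtain ⟨a, b, rfl, rfl | rfl⟩ := hform g hg
      · exfalso
        rcases honly b hg with rfl | rfl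
        · exact hg' (Or.inl (uS_zero h))
        · exact hg' (Or.inr rfl)
      · exact ⟨b, ⟨hu1, huo, (hmemH _ hg).1⟩, rfl⟩
    · rintro ⟨b, hb, rfl⟩
      refine ⟨hH.ge ⟨hb.2.2, uSL_inf 1 b⟩, ?_⟩
      rintro (e | e)
      · exact uS_one_ne_one h b e
      · exact one_ne_zero (uS_inj h e).1
  have hn := Set.ncard_sdiff_add_ncard_of_subset (s := {1, uS h 0 1}) (t := (↑H : Set ↥(Cfsg.Sz F m))) (by
    rintro g (rfl | rfl)
    exacts [one_mem H, hzH])
  rw [hset, Set.ncard_image_of_injective _ (fun b b' e => (uS_inj h e).2),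
    Set.ncard_pair (Ne.symm (z_ne_one h)), ← Nat.card_coe_set_eq (↑H : Set ↥(Cfsg.Sz F m)),
    SetLike.coe_sort_coe, hcard] at hn
  show Nat.card ↥{b : F | u ∈ Inv h (uS h 1 b)} = 2
  rw [Nat.card_coe_set_eq]
  omega

theorem card_Inv_root (b : F) : (Inv h (uS h 1 b)).ncard = (2 ^ (2 * m + 1)) ^ 2 := by
  classical
  rw [Inv_root_const h]
  obtain ⟨R, hR⟩ : ∃ R, R = Inv h (uS h (0 : F) 1) \ InvD h (uS h 0 1) := ⟨_, rfl⟩
  have e : (Σ b : F, ↥(Inv h (uS h 1 b))) ≃ Σ u : ↥R, {b : F // u.1 ∈ Inv h (uS h 1 b)} :=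
    { toFun := fun z => ⟨⟨z.2.1, hR.ge (Inv_root_sub h z.1 z.2.2)⟩, ⟨z.1, z.2.2⟩⟩
      invFun := fun z => ⟨z.2.1, ⟨z.1.1, z.2.2⟩⟩
      left_inv := fun z => rfl
      right_inv := fun z => rfl }
  have hc := Nat.card_congr e
  rw [Nat.card_sigma, Nat.card_sigma,
    Finset.sum_congr rfl fun b _ => (Nat.card_coe_set_eq (Inv h (uS h 1 b))).trans (Inv_root_const h b),
    Finset.sum_congr rfl fun u (_ : u ∈ Finset.univ) => two_roots h (hR.le u.2), Finset.sum_const,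
    Finset.sum_const, Finset.card_univ, Finset.card_univ, ← Nat.card_eq_fintype_card (α := ↥R),
    Nat.card_coe_set_eq, h.card, smul_eq_mul, smul_eq_mul] at hc
  have hR' := Set.ncard_sdiff_add_ncard_of_subset (s := InvD h (uS h (0 : F) 1)) (t := Inv h (uS h 0 1))
    (fun u hu => hu.1)
  rw [← hR, card_pts_Inv h] at hR'
  have hD := card_InvD h
  have hq := q_ge h
  have hgoal : 2 ^ (2 * m + 1) * (Inv h (uS h (1 : F) 0)).ncard =
      2 ^ (2 * m + 1) * (2 ^ (2 * m + 1)) ^ 2 := by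
    zify [show 1 ≤ 2 ^ (2 * m + 1) by omega, show 2 ≤ 2 ^ (2 * m + 1) by omega] at hc hR' hD ⊢
    linear_combination hc + 2 * hR' - hD
  exact Nat.eq_of_mul_eq_mul_left (by omega) hgoal

theorem sol_four (hp : (2 * m + 1).Prime) (b : F) :
    (Sol h (uS h 1 b)).ncard = (2 ^ (2 * m + 1)) ^ 2 * (2 ^ (2 * m + 1) + 3) := by
  have e := sol_US h hp (x := uS h 1 b) ⟨1, b, rfl⟩ (uS_one_ne_one h b)
  have hD : InvD h (uS h 1 b) = ∅ := Set.eq_empty_of_forall_notMem fun u ⟨hu, hk⟩ =>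
    (Inv_root_sub h b hu).2 ⟨(Inv_root_sub h b hu).1, hk⟩
  rw [hD, Set.ncard_empty, card_Inv_root h] at e
  have hq := q_ge h
  zify [show 1 ≤ 2 ^ (2 * m + 1) by omega] at e ⊢
  linear_combination e

end Cfsg.Lib.Linear.Suz
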