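import Cfsg.Agent.Lib.Linear.Suzuki.Simple

/-!
# Subfield subgroups of the Suzuki groups

For `2k+1` dividing `2m+1` the elements over the subfield of size `2^(2k+1)` generate a copy of the
smaller Suzuki group.
-/

set_option autoImplicit false

namespace Cfsg.Lib.Linear.Suz

open scoped Matrix

variable {F : Type*} [Field F] [Fintype F] {m : ℕ} (h : Params F m)
include h

/-- Membership in the subfield of size `2 ^ (2 k + 1)`. -/
def Fx (_h : Params F m) (k : ℕ) (x : F) : Prop := x ^ 2 ^ (2 * k + 1) = x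

variable {k : ℕ}

theorem fx_zero : Fx h k (0 : F) := zero_pow (by positivity)

theorem fx_one : Fx h k (1 : F) := one_pow _

theorem fx_add {x y : F} (hx : Fx h k x) (hy : Fx h k y) : Fx h k (x + y) := by
  haveI := charP_two h
  rw [Fx] at hx hy ⊢
  rw [add_pow_char_pow, hx, hy]

theorem fx_mul {x y : F} (hx : Fx h k x) (hy : Fx h k y) : Fx h k (x * y) := by
  rw [Fx] at hx hy ⊢
  rw [mul_pow, hx, hy]

theorem fx_inv {x : F} (hx : Fx h k x) : Fx h k x⁻¹ := by
  rw [Fx] at hx ⊢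
  rw [inv_pow, hx]

theorem fx_div {x y : F} (hx : Fx h k x) (hy : Fx h k y) : Fx h k (x / y) :=
  div_eq_mul_inv x y ▸ fx_mul h hx (fx_inv h hy)

theorem fx_th {x : F} (hx : Fx h k x) : Fx h k (th m x) := by
  rw [Fx] at hx ⊢
  rw [← th_pow h, hx]

theorem fx_card_le : Nat.card {x : F // Fx h k x} ≤ 2 ^ (2 * k + 1) := by
  classical
  rw [Nat.card_eq_fintype_card, Fintype.card_subtype]
  have h1 : 1 < 2 ^ (2 * k + 1) := Nat.one_lt_two_pow (by omega)
  refine le_trans (Finset.card_le_card (t := (Polynomial.X ^ 2 ^ (2 * k + 1) - Polynomial.X : Polynomial F).roots.toFinset)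
    fun x hx => ?_) ((Multiset.toFinset_card_le _).trans ((Polynomial.card_roots' _).trans
      (FiniteField.X_pow_card_sub_X_natDegree_eq F h1).le))
  rw [Multiset.mem_toFinset, Polynomial.mem_roots (FiniteField.X_pow_card_sub_X_ne_zero F h1)]
  rw [Finset.mem_filter, Fx] at hx
  simp [hx.2]

/-- The subgroup generated by the standard elements over the subfield. -/
def SubG (h : Params F m) (k : ℕ) : Subgroup ↥(Cfsg.Sz F m) :=
  Subgroup.closure {g | (∃ a b, Fx h k a ∧ Fx h k b ∧ g = uS h a b) ∨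
    (∃ κ : Fˣ, Fx h k (κ : F) ∧ g = dS h κ) ∨ g = wS h}

theorem uS_mem_SubG {a b : F} (ha : Fx h k a) (hb : Fx h k b) : uS h a b ∈ SubG h k :=
  Subgroup.subset_closure (Or.inl ⟨a, b, ha, hb, rfl⟩)

theorem dS_mem_SubG {κ : Fˣ} (hκ : Fx h k (κ : F)) : dS h κ ∈ SubG h k :=
  Subgroup.subset_closure (Or.inr (Or.inl ⟨κ, hκ, rfl⟩))

theorem wS_mem_SubG : wS h ∈ SubG h k := Subgroup.subset_closure (Or.inr (Or.inr rfl))

theorem SubG_top : SubG h m = ⊤ := by
  have hF : ∀ x : F, Fx h m x := fun x => by rw [Fx, ← h.card, FiniteField.pow_card]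
  exact eq_top_of_gens h _ (fun a b => uS_mem_SubG h (hF a) (hF b)) (fun κ => dS_mem_SubG h (hF _))
    (wS_mem_SubG h)

theorem exists_field_hom {K : Type*} [Field K] [Fintype K] (g : Params K k)
    (hdiv : 2 * k + 1 ∣ 2 * m + 1) : Nonempty (K →+* F) := by
  haveI := charP_two h
  haveI := charP_two g
  letI := ZMod.algebra F 2
  letI := ZMod.algebra K 2
  have hfr : ∀ (L : Type _) [Field L] [Fintype L] [Algebra (ZMod 2) L] (n : ℕ),
      Fintype.card L = 2 ^ n → Module.finrank (ZMod 2) L = n := fun L _ _ _ n hn =>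
    Nat.pow_right_injective le_rfl (by
      dsimp only
      rw [← hn, Module.card_eq_pow_finrank (K := ZMod 2) (V := L), ZMod.card])
  have hF' : Module.finrank (ZMod 2) F = 2 * m + 1 := hfr F _ h.card
  have hK' : Module.finrank (ZMod 2) K = 2 * k + 1 := Nat.pow_right_injective le_rfl (by
    dsimp only
    rw [← g.card, Module.card_eq_pow_finrank (K := ZMod 2) (V := K), ZMod.card])
  obtain ⟨f⟩ := FiniteField.nonempty_algHom_of_finrank_dvd (F := ZMod 2) (K := K) (L := F)
    (by rw [hF', hK']; exact hdiv)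
  exact ⟨f.toRingHom⟩

theorem exists_sub_hom {K : Type*} [Field K] [Fintype K] (g : Params K k)
    (hdiv : 2 * k + 1 ∣ 2 * m + 1) :
    ∃ ψ : ↥(Cfsg.Sz K k) →* ↥(Cfsg.Sz F m), Function.Injective ψ ∧ ψ.range = SubG h k := by
  classical
  obtain ⟨φ⟩ := exists_field_hom h g hdiv
  obtain ⟨i, hi⟩ : ∃ i, m = i * (2 * k + 1) + k := by
    obtain ⟨c, hc⟩ := hdiv
    have hodd : c % 2 = 1 := by
      rcases Nat.mod_two_eq_zero_or_one c with e | e
      · exfalso
        obtain ⟨j, rfl⟩ := Nat.dvd_of_mod_eq_zero e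
        rw [show (2 * k + 1) * (2 * j) = 2 * ((2 * k + 1) * j) by ring] at hc
        omega
      · exact e
    refine ⟨c / 2, ?_⟩
    rw [show c = 2 * (c / 2) + 1 by omega] at hc
    generalize c / 2 = j at hc ⊢
    have : (2 * k + 1) * (2 * j + 1) = 2 * (j * (2 * k + 1) + k) + 1 := by ring
    omega
  have hpow : ∀ a : K, ∀ e, a ^ 2 ^ (e + i * (2 * k + 1)) = a ^ 2 ^ e := fun a e => by
    rw [pow_add, pow_mul, mul_comm i, pow_mul, ← g.card]
    exact FiniteField.pow_card_pow i _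
  have hth : ∀ a : K, φ (th k a) = th m (φ a) := fun a => by
    simp only [th, ← map_pow]
    rw [show m + 1 = (k + 1) + i * (2 * k + 1) by omega, hpow]
  have hmk : ∀ a : Kˣ, a ^ 2 ^ m = a ^ 2 ^ k := fun a => Units.ext (by
    push_cast
    rw [show m = k + i * (2 * k + 1) by omega, hpow])
  have hu : ∀ a b, Matrix.SpecialLinearGroup.map φ (uSL k a b) = uSL m (φ a) (φ b) := fun a b => by
    refine Subtype.ext ?_
    show (uM k a b).map φ = uM m (φ a) (φ b)
    ext r s
    fin_cases r <;> fin_cases s <;> simp [uM, Matrix.map_apply, hth]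
  have hd : ∀ κ : Kˣ, Matrix.SpecialLinearGroup.map φ (dHom K k κ) = dHom F m (Units.map (φ : K →* F) κ) := by
    intro κ
    refine Subtype.ext ?_
    show (dM k κ).map φ = dM m (Units.map (φ : K →* F) κ)
    rw [dM, dM, Matrix.diagonal_map (map_zero φ)]
    congr 1
    funext r
    rw [pow_succ (Units.map (φ : K →* F) κ) (2 ^ m), ← map_pow, ← map_mul, ← map_inv, ← map_inv, hmk κ,
      ← pow_succ κ (2 ^ k)]
    fin_cases r <;> simp
  have hw : Matrix.SpecialLinearGroup.map φ (wSL K) = wSL F := by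
    refine Subtype.ext ?_
    show (wM K).map φ = wM F
    ext r s
    fin_cases r <;> fin_cases s <;> simp [wM, Matrix.map_apply]
  have hmem : ∀ x : ↥(Cfsg.Sz K k), Matrix.SpecialLinearGroup.map φ x.1 ∈ Cfsg.Sz F m := by
    have := eq_top_of_gens g ((Cfsg.Sz F m).comap
      ((Matrix.SpecialLinearGroup.map φ).comp (Cfsg.Sz K k).subtype))
      (fun a b => by
        show Matrix.SpecialLinearGroup.map φ (uSL k a b) ∈ Cfsg.Sz F m
        rw [hu]; exact uSL_mem h _ _)
      (fun κ => by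
        show Matrix.SpecialLinearGroup.map φ (dHom K k κ) ∈ Cfsg.Sz F m
        rw [hd]; exact dHom_mem h _)
      (by
        show Matrix.SpecialLinearGroup.map φ (wSL K) ∈ Cfsg.Sz F m
        rw [hw]; exact wSL_mem h)
    exact fun x => this.ge (Subgroup.mem_top x)
  obtain ⟨ψ, hψ⟩ : ∃ ψ : ↥(Cfsg.Sz K k) →* ↥(Cfsg.Sz F m),
      ∀ x, (ψ x).1 = Matrix.SpecialLinearGroup.map φ x.1 :=
    ⟨((Matrix.SpecialLinearGroup.map φ).comp (Cfsg.Sz K k).subtype).codRestrict _ hmem, fun x => rfl⟩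
  have hψu : ∀ a b, ψ (uS g a b) = uS h (φ a) (φ b) := fun a b => Subtype.ext ((hψ _).trans (hu a b))
  have hψd : ∀ κ, ψ (dS g κ) = dS h (Units.map (φ : K →* F) κ) := fun κ =>
    Subtype.ext ((hψ _).trans (hd κ))
  have hψw : ψ (wS g) = wS h := Subtype.ext ((hψ _).trans hw)
  refine ⟨ψ, fun x y e => Subtype.ext (Subtype.ext ?_), le_antisymm ?_ ?_⟩
  · have e' := congrArg (fun z : ↥(Cfsg.Sz F m) => z.1.val) e
    simp only [hψ] at e'
    exact Matrix.map_injective φ.injective e'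
  · have hfx : ∀ a : K, Fx h k (φ a) := fun a => by
      rw [Fx, ← map_pow, ← g.card, FiniteField.pow_card]
    have := eq_top_of_gens g ((SubG h k).comap ψ)
      (fun a b => by rw [Subgroup.mem_comap, hψu]; exact uS_mem_SubG h (hfx a) (hfx b))
      (fun κ => by rw [Subgroup.mem_comap, hψd]; exact dS_mem_SubG h (hfx _))
      (by rw [Subgroup.mem_comap, hψw]; exact wS_mem_SubG h)
    rintro _ ⟨x, rfl⟩
    exact this.ge (Subgroup.mem_top x)
  · have hsurj : ∀ x : F, Fx h k x → ∃ a, φ a = x := by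
      obtain ⟨f, hf⟩ : ∃ f : K → {x : F // Fx h k x}, ∀ a, (f a).1 = φ a :=
        ⟨fun a => ⟨φ a, by rw [Fx, ← map_pow, ← g.card, FiniteField.pow_card]⟩, fun a => rfl⟩
      have hinj : Function.Injective f := fun a b e => φ.injective (by rw [← hf, ← hf, e])
      have hb := hinj.bijective_of_nat_card_le
        ((fx_card_le h).trans (by rw [Nat.card_eq_fintype_card, g.card]))
      intro x hx
      obtain ⟨a, ha⟩ := hb.2 ⟨x, hx⟩
      exact ⟨a, by rw [← hf, ha]⟩
    rw [SubG, Subgroup.closure_le]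
    rintro _ (⟨a, b, ha, hb, rfl⟩ | ⟨κ, hκ, rfl⟩ | rfl)
    · obtain ⟨a', rfl⟩ := hsurj a ha
      obtain ⟨b', rfl⟩ := hsurj b hb
      exact ⟨_, hψu a' b'⟩
    · obtain ⟨a', ha'⟩ := hsurj _ hκ
      have h0 : a' ≠ 0 := fun e => κ.ne_zero (by rw [← ha', e, map_zero])
      exact ⟨dS g (Units.mk0 a' h0), by rw [hψd]; congr 1; exact Units.ext ha'⟩
    · exact ⟨_, hψw⟩

end Cfsg.Lib.Linear.Suz
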