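import Cfsg.Agent.Lib.Linear.Suzuki.Subgroups

/-!
# Subfield subgroups of Suzuki groups up to conjugation
-/

set_option autoImplicit false

namespace Cfsg.Lib.Linear.Suz

variable {F : Type*} [Field F] [Fintype F] {m : ℕ} (h : Params F m)
include h

theorem exists_params_galois (k : ℕ) (hk : 1 ≤ k) :
    ∃ (K : Type) (_ : Field K) (_ : Fintype K), Params K k := by
  haveI : Fact (Nat.Prime 2) := ⟨Nat.prime_two⟩
  letI : Fintype (GaloisField 2 (2 * k + 1)) := Fintype.ofFinite _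
  exact ⟨GaloisField 2 (2 * k + 1), inferInstance, inferInstance, hk, by
    rw [← Nat.card_eq_fintype_card, GaloisField.card 2 _ (by omega)]⟩

theorem card_SubG {k : ℕ} (hk : 1 ≤ k) (hdiv : 2 * k + 1 ∣ 2 * m + 1) :
    Nat.card ↥(SubG h k) =
      (2 ^ (2 * k + 1)) ^ 2 * ((2 ^ (2 * k + 1)) ^ 2 + 1) * (2 ^ (2 * k + 1) - 1) := by
  obtain ⟨K, iK, iK', g⟩ := exists_params_galois h k hk
  obtain ⟨ψ, hinj, hr⟩ := exists_sub_hom h g hdiv
  rw [← hr, ← card_Sz' g]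
  exact Nat.card_congr (MonoidHom.ofInjective hinj).symm.toEquiv

theorem card_formula_inj {a b : ℕ}
    (e : (2 ^ a) ^ 2 * ((2 ^ a) ^ 2 + 1) * (2 ^ a - 1) = (2 ^ b) ^ 2 * ((2 ^ b) ^ 2 + 1) * (2 ^ b - 1)) :
    a = b := by
  by_contra hne
  have mono : ∀ u v : ℕ, u < v →
      (2 ^ u) ^ 2 * ((2 ^ u) ^ 2 + 1) * (2 ^ u - 1) < (2 ^ v) ^ 2 * ((2 ^ v) ^ 2 + 1) * (2 ^ v - 1) := by
    intro u v huv
    have h1 : 2 ^ u < 2 ^ v := Nat.pow_lt_pow_right (by norm_num) huv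
    have h0 : 1 ≤ 2 ^ u := Nat.one_le_two_pow
    have h2 : (2 ^ u) ^ 2 < (2 ^ v) ^ 2 := Nat.pow_lt_pow_left h1 two_ne_zero
    exact Nat.mul_lt_mul_of_le_of_lt
      (Nat.mul_le_mul h2.le (by omega)) (by omega) (by positivity)
  rcases Nat.lt_or_ge a b with h' | h'
  · exact (mono a b h').ne e
  · exact (mono b a (lt_of_le_of_ne h' (Ne.symm hne))).ne e.symm

theorem not_solvable : ¬ Group.IsSolvable ↥(Cfsg.Sz F m) := by
  intro hs
  haveI := isSimple h
  have := Group.IsSolvable.commutator_lt_top_of_nontrivial ↥(Cfsg.Sz F m)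
  rw [commutator_eq_top h] at this
  exact lt_irrefl _ this

theorem eq_conj_SubG {K : Type*} [Field K] [Fintype K] {k : ℕ} (g : Params K k)
    {S : Subgroup ↥(Cfsg.Sz F m)} (hS : Nonempty (↥S ≃* ↥(Cfsg.Sz K k))) :
    ∃ σ : ↥(Cfsg.Sz F m), S = (SubG h k).map (MulAut.conj σ).toMonoidHom := by
  obtain ⟨e⟩ := hS
  obtain ⟨k', σ, hk', hdiv, hS'⟩ := subgroup_nonsolvable h (M := S) fun hs =>
    not_solvable g (Group.isSolvable_of_surjective (f := e.toMonoidHom) e.surjective)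
  have hc : Nat.card ↥S = Nat.card ↥(SubG h k') := by
    rw [hS']
    exact Subgroup.card_map_of_injective (f := (MulAut.conj σ).toMonoidHom) (MulAut.conj σ).injective
  rw [Nat.card_congr e.toEquiv, card_Sz' g, card_SubG h hk' hdiv] at hc
  have := card_formula_inj h hc
  obtain rfl : k = k' := by omega
  exact ⟨σ, hS'⟩

end Cfsg.Lib.Linear.Suz
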