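import Cfsg.Agent.Lib.Linear.Suzuki.Partition
import Cfsg.Agent.Lib.Linear.Suzuki.Subfield
import Cfsg.Agent.Lib.Invol.Embedded

/-!
# Subgroups of the Suzuki groups: normal cyclic subgroups, involutions, fusion

First facts towards the list of all subgroups.
-/

set_option autoImplicit false

namespace Cfsg.Lib.Linear.Suz

open scoped Matrix LinearAlgebra.Projectivization

variable {F : Type*} [Field F] [Fintype F] {m : ℕ} (h : Params F m)
include h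

/-- The standard possibilities for a subgroup. -/
def CaseStd (h : Params F m) (M : Subgroup ↥(Cfsg.Sz F m)) : Prop :=
  (∃ g : ↥(Cfsg.Sz F m), ∀ x ∈ M,
      g * x * g⁻¹ ∈ MulAction.stabilizer ↥(Cfsg.Sz F m) (Cfsg.suzukiPointInfinity F)) ∨
  (∃ U : Subgroup ↥(Cfsg.Sz F m), IsCyclic ↥U ∧ Nat.card ↥U ∈ compOrders h ∧
      M ≤ Subgroup.normalizer (U : Set ↥(Cfsg.Sz F m))) ∨
  ∃ (k : ℕ) (g : ↥(Cfsg.Sz F m)), 1 ≤ k ∧ 2 * k + 1 ∣ 2 * m + 1 ∧
    M = (SubG h k).map (MulAut.conj g).toMonoidHom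

theorem cases_conj {M : Subgroup ↥(Cfsg.Sz F m)} (σ : ↥(Cfsg.Sz F m))
    (hc : CaseStd h (M.map (MulAut.conj σ).toMonoidHom)) : CaseStd h M := by
  have hM : ∀ x ∈ M, σ * x * σ⁻¹ ∈ M.map (MulAut.conj σ).toMonoidHom := fun x hx => ⟨x, hx, rfl⟩
  rcases hc with ⟨g, hg⟩ | ⟨U, hU, hcard, hle⟩ | ⟨k, g, hk, hdiv, e⟩
  · refine Or.inl ⟨g * σ, fun x hx => ?_⟩
    have := hg _ (hM x hx)
    rwa [show g * (σ * x * σ⁻¹) * g⁻¹ = g * σ * x * (g * σ)⁻¹ by group] at this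
  · refine Or.inr (Or.inl ⟨U.map (MulAut.conj σ⁻¹).toMonoidHom, ?_, ?_, fun x hx => ?_⟩)
    · exact (U.equivMapOfInjective _ (MulAut.conj σ⁻¹).injective).isCyclic.mp hU
    · rwa [Subgroup.card_map_of_injective (f := (MulAut.conj σ⁻¹).toMonoidHom) (MulAut.conj σ⁻¹).injective]
    · refine Subgroup.mem_normalizer_fintype fun n hn => ?_
      obtain ⟨u, hu, rfl⟩ := hn
      refine ⟨σ * x * σ⁻¹ * u * (σ * x * σ⁻¹)⁻¹,
        (Subgroup.mem_normalizer_iff.mp (hle (hM x hx)) u).mp hu, ?_⟩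
      show σ⁻¹ * (σ * x * σ⁻¹ * u * (σ * x * σ⁻¹)⁻¹) * σ⁻¹⁻¹ = x * (σ⁻¹ * u * σ⁻¹⁻¹) * x⁻¹
      group
  · refine Or.inr (Or.inr ⟨k, σ⁻¹ * g, hk, hdiv, ?_⟩)
    ext x
    constructor
    · intro hx
      obtain ⟨y, hy, e'⟩ := e.le (hM x hx)
      refine ⟨y, hy, ?_⟩
      change g * y * g⁻¹ = σ * x * σ⁻¹ at e'
      show σ⁻¹ * g * y * (σ⁻¹ * g)⁻¹ = x
      rw [show σ⁻¹ * g * y * (σ⁻¹ * g)⁻¹ = σ⁻¹ * (g * y * g⁻¹) * σ by group, e']
      group
    · rintro ⟨y, hy, rfl⟩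
      obtain ⟨x, hx, e'⟩ := e.ge (show g * y * g⁻¹ ∈ (SubG h k).map (MulAut.conj g).toMonoidHom from
        ⟨y, hy, rfl⟩)
      change σ * x * σ⁻¹ = g * y * g⁻¹ at e'
      show σ⁻¹ * g * y * (σ⁻¹ * g)⁻¹ ∈ M
      rw [show σ⁻¹ * g * y * (σ⁻¹ * g)⁻¹ = σ⁻¹ * (g * y * g⁻¹) * σ by group, ← e',
        show σ⁻¹ * (σ * x * σ⁻¹) * σ = x by group]
      exact hx

theorem stab_coords_two {g : ↥(Cfsg.Sz F m)}
    (hg : g ∈ MulAction.stabilizer ↥(Cfsg.Sz F m) (Cfsg.suzukiPointInfinity F)) (h2 : orderOf g = 2) :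
    ∃ b : F, b ≠ 0 ∧ g = uS h 0 b := by
  obtain ⟨a, b, k, rfl⟩ := (mem_stab_inf_iff h).mp hg
  have e : uS h a b * dS h k * (uS h a b * dS h k) = 1 := by
    rw [← sq, ← h2]; exact pow_orderOf_eq_one _
  rw [mul_assoc, ← mul_assoc (dS h k), dS_mul_uS h, mul_assoc, ← map_mul, ← mul_assoc, uS_mul h,
    show (1 : ↥(Cfsg.Sz F m)) = uS h 0 0 * dS h 1 by rw [uS_zero h, map_one, one_mul]] at e
  obtain ⟨e1, e2, e3⟩ := decomp_injective h (congrArg Subtype.val e)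
  have hk : k = 1 := by
    have h1 : ((k : F) - 1) ^ 2 = 0 := by
      have e3' : (k : F) * k = 1 := by rw [← Units.val_mul, e3, Units.val_one]
      linear_combination e3' - ((k : F) - 1) * two_eq h
    exact Units.ext (sub_eq_zero.mp (eq_zero_of_pow_eq_zero h1))
  subst hk
  simp only [Units.val_one, th_one h, one_mul, add_self h, zero_add] at e2
  have ha : a = 0 := by
    rcases mul_eq_zero.mp e2 with h' | h'
    exacts [(th_eq_zero h).mp h', h']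
  subst ha
  refine ⟨b, fun hb => ?_, by rw [map_one, mul_one]⟩
  rw [hb, map_one, mul_one, uS_zero h, orderOf_one] at h2
  omega

theorem orderOf_uS_zero {b : F} (hb : b ≠ 0) : orderOf (uS h 0 b) = 2 := by
  refine orderOf_eq_prime ?_ fun e => hb (uS_inj h (e.trans (uS_zero h).symm)).2
  rw [sq, uS_mul h, th_zero h, zero_mul, add_zero, add_zero, add_self h, uS_zero h]

theorem conj_ZS (a b c : F) (k : Fˣ) :
    uS h a b * dS h k * uS h 0 c * (uS h a b * dS h k)⁻¹ = uS h 0 ((k : F) * th m (k : F) * c) := by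
  rw [show uS h a b * dS h k * uS h 0 c * (uS h a b * dS h k)⁻¹ =
    uS h a b * (dS h k * uS h 0 c * (dS h k)⁻¹) * (uS h a b)⁻¹ by group, dS_mul_uS h, mul_inv_cancel_right,
    mul_inv_eq_iff_eq_mul, uS_mul h, uS_mul h]
  simp [th_zero h, add_comm]

theorem mul_th_inj {x y : F} (e : x * th m x = y * th m y) : x = y :=
  Finite.injective_iff_surjective.mpr (fun c => mul_th_surjective h c) e

theorem exists_centralizer_le_US {z : ↥(Cfsg.Sz F m)} (hz : z ≠ 1) (hz4 : z ^ 4 = 1) :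
    ∃ σ : ↥(Cfsg.Sz F m), σ * z * σ⁻¹ ∈ US h ∧
      Subgroup.centralizer ({σ * z * σ⁻¹} : Set ↥(Cfsg.Sz F m)) ≤ US h := by
  rcases cases_centralizer h hz with ⟨-, σ, h1, h2⟩ | ⟨-, hk⟩
  · exact ⟨σ, h1, h2⟩
  · exfalso
    have hd := Nat.dvd_gcd (Subgroup.orderOf_dvd_natCard (Subgroup.centralizer ({z} : Set ↥(Cfsg.Sz F m)))
      (Subgroup.mem_centralizer_singleton_iff.mpr rfl)) (orderOf_dvd_of_pow_eq_one hz4)
    have hco : Nat.Coprime (Nat.card ↥(Subgroup.centralizer ({z} : Set ↥(Cfsg.Sz F m)))) (2 ^ 2) :=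
      Nat.Coprime.pow_right _ (Nat.prime_two.coprime_iff_not_dvd.mpr (comp_two_le h hk).2).symm
    rw [show (Nat.card ↥(Subgroup.centralizer ({z} : Set ↥(Cfsg.Sz F m)))).gcd 4 = 1 from hco,
      Nat.dvd_one, orderOf_eq_one_iff] at hd
    exact hz hd

theorem involution_conj {z : ↥(Cfsg.Sz F m)} (hz : orderOf z = 2) :
    ∃ σ : ↥(Cfsg.Sz F m), σ * z * σ⁻¹ = uS h 0 1 := by
  have hz4 : z ^ 4 = 1 := orderOf_dvd_iff_pow_eq_one.mp (hz ▸ by norm_num)
  obtain ⟨σ, ⟨a, c, e⟩, -⟩ := exists_centralizer_le_US h (fun e => by rw [e, orderOf_one] at hz; omega) hz4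
  obtain ⟨b, hb, e'⟩ := stab_coords_two h (g := σ * z * σ⁻¹) (by rw [e]; exact uSL_inf a c)
    (by rw [Cfsg.Lib.Invol.orderOf_conj_eq, hz])
  obtain ⟨l, hl⟩ := mul_th_surjective h b⁻¹
  have hl0 : l ≠ 0 := fun h0 => inv_ne_zero hb (by rw [← hl, h0, zero_mul])
  refine ⟨uS h 0 0 * dS h (Units.mk0 l hl0) * σ, ?_⟩
  rw [show uS h 0 0 * dS h (Units.mk0 l hl0) * σ * z * (uS h 0 0 * dS h (Units.mk0 l hl0) * σ)⁻¹ =
    uS h 0 0 * dS h (Units.mk0 l hl0) * (σ * z * σ⁻¹) * (uS h 0 0 * dS h (Units.mk0 l hl0))⁻¹ by group,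
    e', conj_ZS h, Units.val_mk0, hl, inv_mul_cancel₀ hb]

theorem two_group_le_US {P : Subgroup ↥(Cfsg.Sz F m)} (hP : IsPGroup 2 ↥P) {u : ↥(Cfsg.Sz F m)}
    (huP : u ∈ P) (hu : u ∈ US h) (hne : u ≠ 1) : P ≤ US h := by
  haveI : Fact (Nat.Prime 2) := ⟨Nat.prime_two⟩
  haveI : Nontrivial ↥P := ⟨⟨⟨u, huP⟩, 1, fun e => hne (congrArg Subtype.val e)⟩⟩
  haveI := hP.center_nontrivial
  obtain ⟨⟨⟨y, hyP⟩, hyZ⟩, hy⟩ := exists_ne (1 : Subgroup.center ↥P)
  have hy1 : y ≠ 1 := fun e => hy (Subtype.ext (Subtype.ext e))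
  have hc : ∀ c ∈ P, c * y = y * c := fun c hc =>
    congrArg Subtype.val (Subgroup.mem_center_iff.mp hyZ ⟨c, hc⟩)
  have hyU : y ∈ US h :=
    centralizer_US h hu hne (Subgroup.mem_centralizer_singleton_iff.mpr (hc u huP).symm)
  exact fun c hcP => centralizer_US h hyU hy1 (Subgroup.mem_centralizer_singleton_iff.mpr (hc c hcP))

theorem comp_of_odd {c : ↥(Cfsg.Sz F m)} (hc : c ≠ 1) (hodd : ¬ 2 ∣ orderOf c) :
    ∃ U : Subgroup ↥(Cfsg.Sz F m), IsCyclic ↥U ∧ Nat.card ↥U ∈ compOrders h ∧ c ∈ U ∧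
      ∀ U' : Subgroup ↥(Cfsg.Sz F m), IsCyclic ↥U' → Nat.card ↥U' ∈ compOrders h → c ∈ U' → U' = U := by
  haveI : Fact (Nat.Prime 2) := ⟨Nat.prime_two⟩
  obtain ⟨U, ⟨hU, hcU⟩, huniq⟩ := component_unique h c hc
  rcases hU with ⟨P, rfl⟩ | ⟨h1, h2⟩
  · exfalso
    obtain ⟨j, hj⟩ := IsPGroup.iff_orderOf.mp P.isPGroup' ⟨c, hcU⟩
    rw [← Subgroup.orderOf_coe] at hj
    rcases j with _ | j
    · exact hc (orderOf_eq_one_iff.mp (by simpa using hj))
    · exact hodd (hj ▸ dvd_pow_self 2 (by omega))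
  · exact ⟨U, h1, h2, hcU, fun U' a b c' => huniq U' ⟨Or.inr ⟨a, b⟩, c'⟩⟩

theorem case_cyclic {M : Subgroup ↥(Cfsg.Sz F m)} {c : ↥(Cfsg.Sz F m)} (hc : c ≠ 1)
    (hn : ∀ x ∈ M, x * c * x⁻¹ ∈ Subgroup.zpowers c) : CaseStd h M := by
  by_cases heven : 2 ∣ orderOf c
  · obtain ⟨z, hz⟩ : ∃ z, z = c ^ (orderOf c / 2) := ⟨_, rfl⟩
    have hz2 : orderOf z = 2 := hz ▸ orderOf_pow_orderOf_div (orderOf_pos c).ne' heven
    have hz1 : z ≠ 1 := fun e => by rw [e, orderOf_one] at hz2; omega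
    obtain ⟨σ, hσ, hle⟩ := exists_centralizer_le_US h hz1 (orderOf_dvd_iff_pow_eq_one.mp (hz2 ▸ by norm_num))
    refine Or.inl ⟨σ, fun x hx => ?_⟩
    have hcomm : x * z * x⁻¹ = z := by
      obtain ⟨i, hi⟩ := hn x hx
      have e : x * z * x⁻¹ = z ^ i := by
        rw [hz, ← conj_pow, ← hi, ← zpow_natCast, ← zpow_mul, mul_comm, zpow_mul, zpow_natCast]
      have hne : z ^ i ≠ 1 := fun e' => hz1 (by rwa [e', mul_inv_eq_one, mul_eq_left] at e)
      rw [e]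
      rcases Int.even_or_odd i with ⟨j, hj⟩ | ⟨j, hj⟩
      · exfalso
        refine hne ?_
        rw [hj, zpow_add, ← (Commute.refl z).mul_zpow, ← sq, ← hz2, pow_orderOf_eq_one, one_zpow]
      · rw [hj, zpow_add, zpow_mul, zpow_one, zpow_two, ← sq, ← hz2, pow_orderOf_eq_one, one_zpow, one_mul]
    have hxu : σ * x * σ⁻¹ ∈ US h := hle (Subgroup.mem_centralizer_singleton_iff.mpr (by
      have e := mul_inv_eq_iff_eq_mul.mp hcomm
      rw [show σ * x * σ⁻¹ * (σ * z * σ⁻¹) = σ * (x * z) * σ⁻¹ by group, e]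
      group))
    obtain ⟨a, b, e⟩ := hxu
    rw [e]
    exact uSL_inf a b
  · obtain ⟨U, hU, hcard, hcU, huniq⟩ := comp_of_odd h hc heven
    refine Or.inr (Or.inl ⟨U, hU, hcard, fun x hx => ?_⟩)
    have e : U.map (MulAut.conj x).toMonoidHom = U := by
      refine huniq _ ((U.equivMapOfInjective _ (MulAut.conj x).injective).isCyclic.mp hU)
        (by rwa [Subgroup.card_map_of_injective (f := (MulAut.conj x).toMonoidHom) (MulAut.conj x).injective]) ?_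
      refine ⟨x⁻¹ * c * x, ?_, ?_⟩
      · have := hn x⁻¹ (inv_mem hx)
        rw [inv_inv] at this
        exact (Subgroup.zpowers_le.mpr hcU) this
      · show x * (x⁻¹ * c * x) * x⁻¹ = c
        group
    exact Subgroup.mem_normalizer_fintype fun n hn' => e.le ⟨n, hn', rfl⟩

theorem zgroup_case {M : Subgroup ↥(Cfsg.Sz F m)} (hne : M ≠ ⊥)
    (h2 : ∀ P : Sylow 2 ↥M, IsCyclic ↥(P : Subgroup ↥M)) : CaseStd h M := by
  haveI hZ : IsZGroup ↥M := by
    refine ⟨fun p hp P => ?_⟩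
    haveI : Fact p.Prime := ⟨hp⟩
    by_cases hp2 : p = 2
    · subst hp2; exact h2 P
    · obtain ⟨Q, hQ⟩ := (P.isPGroup'.map M.subtype).exists_le_sylow
      haveI := sylow_odd_cyclic h hp2 Q
      haveI : IsCyclic ↥((P : Subgroup ↥M).map M.subtype) :=
        isCyclic_of_injective (Subgroup.inclusion hQ) (Subgroup.inclusion_injective hQ)
      exact ((P : Subgroup ↥M).equivMapOfInjective M.subtype M.subtype_injective).isCyclic.mpr inferInstance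
  have key : ∀ N : Subgroup ↥M, N.Normal → IsCyclic ↥N → N ≠ ⊥ → CaseStd h M := by
    intro N hN hNc hNb
    obtain ⟨⟨g, hgN⟩, hg⟩ := hNc.exists_generator
    refine case_cyclic h (c := g.1) (fun e => hNb ?_) fun x hx => ?_
    · refine (Subgroup.eq_bot_iff_forall _).mpr fun y hy => ?_
      obtain ⟨i, hi⟩ := hg ⟨y, hy⟩
      have hg1 : g = 1 := Subtype.ext e
      have := congrArg Subtype.val hi
      simpa [hg1] using this.symm
    · obtain ⟨w, hw⟩ : ∃ w : ↥M, w.1 = x := ⟨⟨x, hx⟩, rfl⟩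
      obtain ⟨i, hi⟩ := hg ⟨w * g * w⁻¹, hN.conj_mem g hgN w⟩
      refine ⟨i, ?_⟩
      have := congrArg (fun z : N => M.subtype (N.subtype z)) hi
      simp only [map_zpow] at this
      subst hw
      exact this
  by_cases hc : commutator ↥M = ⊥
  · haveI : IsMulCommutative ↥M := ⟨⟨fun a b => commutatorElement_eq_one_iff_mul_comm.mp
      ((Subgroup.eq_bot_iff_forall _).mp hc _
        (Subgroup.commutator_mem_commutator (Subgroup.mem_top a) (Subgroup.mem_top b)))⟩⟩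
    haveI : Group.IsNilpotent ↥M := by
      letI : CommGroup ↥M := { (inferInstance : Group ↥M) with mul_comm := mul_comm' }
      infer_instance
    haveI : IsCyclic ↥(⊤ : Subgroup ↥M) := Subgroup.isCyclic _
    refine key ⊤ inferInstance inferInstance fun e => hne ?_
    refine (Subgroup.eq_bot_iff_forall _).mpr fun y hy => ?_
    exact congrArg Subtype.val ((Subgroup.eq_bot_iff_forall _).mp e ⟨y, hy⟩ trivial)
  · haveI := IsZGroup.isCyclic_commutator (G := ↥M)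
    exact key _ inferInstance inferInstance hc

/-- The first structural data of a subgroup containing a central involution but not fixing infinity. -/
theorem stage_one {M : Subgroup ↥(Cfsg.Sz F m)} (hz : uS h 0 1 ∈ M)
    (hnot : ¬ M ≤ MulAction.stabilizer ↥(Cfsg.Sz F m) (Cfsg.suzukiPointInfinity F)) :
    ∃ k : ℕ, 2 * k + 1 ∣ 2 * m + 1 ∧ (∀ b, uS h 0 b ∈ M ↔ Fx h k b) ∧
      Nat.card {b : F // Fx h k b} = 2 ^ (2 * k + 1) ∧
      (∀ a b (κ : Fˣ), uS h a b * dS h κ ∈ M → Fx h k (κ : F)) ∧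
      (∀ a b, uS h a b ∈ M → Fx h k a) ∧
      (∀ κ : Fˣ, Fx h k (κ : F) → ∃ a b, uS h a b * dS h κ ∈ M) ∧
      ∀ g ∈ M, orderOf g = 2 → ∃ x ∈ M, x * g * x⁻¹ = uS h 0 1 := by
  classical
  obtain ⟨B, hB⟩ : ∃ B : Subgroup ↥M, B =
      (MulAction.stabilizer ↥(Cfsg.Sz F m) (Cfsg.suzukiPointInfinity F)).comap M.subtype := ⟨_, rfl⟩
  have hmemB : ∀ g : ↥M, g ∈ B ↔
      (g : ↥(Cfsg.Sz F m)) ∈ MulAction.stabilizer ↥(Cfsg.Sz F m) (Cfsg.suzukiPointInfinity F) := fun g => by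
    rw [hB]; exact Iff.rfl
  have hz1 : orderOf (⟨uS h 0 1, hz⟩ : ↥M) = 2 := by
    rw [← Subgroup.orderOf_coe]; exact orderOf_uS_zero h one_ne_zero
  have hzB : (⟨uS h 0 1, hz⟩ : ↥M) ∈ B := (hmemB _).mpr (uSL_inf 0 1)
  have hse : IsStronglyEmbedded B := by
    refine (Cfsg.Lib.Invol.stronglyEmbedded_iff ?_ ?_).mpr ?_
    · intro e
      exact hnot fun x hx => (hmemB ⟨x, hx⟩).mp (e.ge (Subgroup.mem_top _))
    · rw [even_iff_two_dvd, ← hz1]
      exact Subgroup.orderOf_dvd_natCard _ hzB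
    · intro t ht ht2 g hg
      rw [hmemB] at ht hg ⊢
      rw [← Subgroup.orderOf_coe] at ht2
      obtain ⟨b, hb, e⟩ := stab_coords_two h ht ht2
      obtain ⟨b', -, e'⟩ := stab_coords_two h (g := ((g * t * g⁻¹ : ↥M) : ↥(Cfsg.Sz F m))) hg (by
        simp only [Subgroup.coe_mul, Subgroup.coe_inv, Cfsg.Lib.Invol.orderOf_conj_eq, ht2])
      exact conj_mem_stab h (u := (t : ↥(Cfsg.Sz F m))) ⟨0, b, e⟩ ⟨0, b', e'⟩
        (fun e1 => by rw [e1, orderOf_one] at ht2; omega) (by simp)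
  obtain ⟨E, hE⟩ : ∃ E : Subgroup Fˣ, ∀ κ, κ ∈ E ↔ ∃ a b, uS h a b * dS h κ ∈ M := by
    refine ⟨{ carrier := {κ | ∃ a b, uS h a b * dS h κ ∈ M}
              one_mem' := ⟨0, 0, by rw [uS_zero h, map_one, one_mul]; exact one_mem M⟩
              mul_mem' := ?_
              inv_mem' := ?_ }, fun κ => Iff.rfl⟩
    · rintro κ κ' ⟨a, b, hab⟩ ⟨a', b', hab'⟩
      have := mul_mem hab hab'
      rw [mul_assoc, ← mul_assoc (dS h κ), dS_mul_uS h, mul_assoc, ← map_mul, ← mul_assoc, uS_mul h] at this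
      exact ⟨_, _, this⟩
    · rintro κ ⟨a, b, hab⟩
      have := inv_mem hab
      rw [mul_inv_rev, ← map_inv, uS_inv h, dS_mul_uS h] at this
      exact ⟨_, _, this⟩
  obtain ⟨S, hS⟩ : ∃ S : AddSubgroup F, ∀ b, b ∈ S ↔ uS h 0 b ∈ M := by
    refine ⟨{ carrier := {b | uS h 0 b ∈ M}
              zero_mem' := by rw [Set.mem_setOf_eq, uS_zero h]; exact one_mem M
              add_mem' := fun {x y} hx hy => by
                have := mul_mem (Set.mem_setOf_eq ▸ hx : uS h 0 x ∈ M) hy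
                rwa [uS_mul h, th_zero h, zero_mul, add_zero, add_zero] at this
              neg_mem' := fun {x} hx => by rwa [neg_eq h] }, fun b => Iff.rfl⟩
  have htrans : ∀ b : F, b ≠ 0 → b ∈ S → ∃ κ ∈ E, (κ : F) * th m (κ : F) = b := by
    intro b hb hbS
    obtain ⟨g, hg⟩ := isConj_iff.mp (Cfsg.Lib.Invol.se_isConj hse hz1
      (b := ⟨uS h 0 b, (hS b).mp hbS⟩) (by rw [← Subgroup.orderOf_coe]; exact orderOf_uS_zero h hb))
    have hg' : g.1 * uS h 0 1 * g.1⁻¹ = uS h 0 b := congrArg Subtype.val hg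
    obtain ⟨a, c, κ, e⟩ := (mem_stab_inf_iff h).mp (conj_mem_stab h ⟨0, 1, rfl⟩ ⟨0, b, rfl⟩
      (fun e => one_ne_zero (uS_inj h (e.trans (uS_zero h).symm)).2) hg')
    rw [e, conj_ZS h, mul_one] at hg'
    exact ⟨κ, (hE κ).mpr ⟨a, c, e ▸ g.2⟩, (uS_inj h hg').2⟩
  have hES : ∀ κ ∈ E, (κ : F) * th m (κ : F) ∈ S := fun κ hκ => by
    obtain ⟨a, b, hab⟩ := (hE κ).mp hκ
    have := mul_mem (mul_mem hab hz) (inv_mem hab)
    rw [conj_ZS h, mul_one] at this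
    exact (hS _).mpr this
  have hcard : Nat.card ↥E + 1 = Nat.card ↥S := by
    obtain ⟨f, hf⟩ : ∃ f : ↥E → {b : F // b ∈ S ∧ b ≠ 0}, ∀ κ, (f κ).1 = ((κ : Fˣ) : F) * th m ((κ : Fˣ) : F) :=
      ⟨fun κ => ⟨_, hES _ κ.2, mul_ne_zero (Units.ne_zero _) fun e => (Units.ne_zero _) ((th_eq_zero h).mp e)⟩,
        fun κ => rfl⟩
    have hb : Function.Bijective f := by
      refine ⟨fun κ κ' e => Subtype.ext (Units.ext (mul_th_inj h (by rw [← hf, ← hf, e]))), fun b => ?_⟩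
      obtain ⟨κ, hκ, e⟩ := htrans b.1 b.2.2 b.2.1
      exact ⟨⟨κ, hκ⟩, Subtype.ext (by rw [hf]; exact e)⟩
    rw [Nat.card_eq_of_bijective f hb]
    have := Set.ncard_sdiff_singleton_add_one (s := (S : Set F)) (a := 0) S.zero_mem
    rw [← Nat.card_coe_set_eq, ← Nat.card_coe_set_eq] at this
    exact this
  obtain ⟨a, -, ha⟩ := (Nat.dvd_prime_pow Nat.prime_two).mp (show Nat.card ↥S ∣ 2 ^ (2 * m + 1) by
    rw [← h.card, ← Nat.card_eq_fintype_card]; exact S.card_addSubgroup_dvd_card)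
  have hEdvd : 2 ^ a - 1 ∣ 2 ^ (2 * m + 1) - 1 := by
    rw [← ha, ← hcard, Nat.add_sub_cancel, ← h.card, ← Fintype.card_units, ← Nat.card_eq_fintype_card]
    exact E.card_subgroup_dvd_card
  have ha0 : a ≠ 0 := fun e => by
    rw [e, pow_zero] at ha
    have := Nat.card_pos (α := ↥E)
    omega
  have hadiv : a ∣ 2 * m + 1 := by
    have e := Nat.gcd_eq_left hEdvd
    rw [Nat.pow_sub_one_gcd_pow_sub_one] at e
    have h1 : 1 ≤ 2 ^ a := Nat.one_le_two_pow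
    have h2 : 1 ≤ 2 ^ Nat.gcd a (2 * m + 1) := Nat.one_le_two_pow
    exact Nat.gcd_eq_left_iff_dvd.mp (Nat.pow_right_injective le_rfl (show 2 ^ Nat.gcd a (2 * m + 1) = 2 ^ a by omega))
  obtain ⟨k, rfl⟩ : ∃ k, a = 2 * k + 1 := by
    rcases Nat.even_or_odd a with ⟨j, rfl⟩ | ⟨j, rfl⟩
    · obtain ⟨c, hc⟩ := hadiv
      rw [show (j + j) * c = 2 * (j * c) by ring] at hc
      omega
    · exact ⟨j, rfl⟩
  have hEfx : ∀ κ ∈ E, Fx h k (κ : F) := fun κ hκ => by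
    have e : κ ^ Nat.card ↥E = 1 := by
      have := congrArg E.subtype (pow_card_eq_one' (x := (⟨κ, hκ⟩ : ↥E)))
      rwa [map_pow, map_one] at this
    rw [Fx, ← ha, ← hcard, pow_succ, ← Units.val_pow_eq_pow_val, e, Units.val_one, one_mul]
  have hSfx : ∀ b, b ∈ S ↔ Fx h k b := by
    have h1 : ∀ b, b ∈ S → Fx h k b := fun b hb => by
      by_cases hb0 : b = 0
      · rw [hb0]; exact fx_zero h
      · obtain ⟨κ, hκ, e⟩ := htrans b hb0 hb
        rw [← e]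
        exact fx_mul h (hEfx κ hκ) (fx_th h (hEfx κ hκ))
    refine fun b => ⟨h1 b, fun hb => ?_⟩
    have hinj : Function.Injective (fun x : ↥S => (⟨x.1, h1 x.1 x.2⟩ : {x : F // Fx h k x})) :=
      fun x y e => Subtype.ext (congrArg (fun z : {x : F // Fx h k x} => z.1) e)
    obtain ⟨x, hx⟩ := (hinj.bijective_of_nat_card_le ((fx_card_le h).trans ha.ge)).2 ⟨b, hb⟩
    have e : x.1 = b := congrArg (fun z : {x : F // Fx h k x} => z.1) hx
    exact e ▸ x.2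
  refine ⟨k, hadiv, fun b => (hS b).symm.trans (hSfx b), ?_, ?_, ?_, ?_, ?_⟩
  · rw [← ha]
    exact Nat.card_congr (Equiv.subtypeEquivRight fun b => (hSfx b).symm)
  · exact fun a b κ hm => hEfx κ ((hE κ).mpr ⟨a, b, hm⟩)
  · intro a b hab
    have h2 : th m a * a ∈ S := (hS _).mpr (by
      have := mul_mem hab hab
      rwa [uS_mul h, add_self h, add_self h, zero_add] at this)
    have e : a ^ 2 ^ (2 * k + 1) * th m (a ^ 2 ^ (2 * k + 1)) = a * th m a := by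
      rw [th_pow h, ← mul_pow, mul_comm a]
      exact (hSfx _).mp h2
    exact mul_th_inj h e
  · intro κ hκ
    obtain ⟨κ', hκ', e⟩ := htrans _ (mul_ne_zero κ.ne_zero fun e => κ.ne_zero ((th_eq_zero h).mp e))
      ((hSfx _).mpr (fx_mul h hκ (fx_th h hκ)))
    rw [← Units.ext (mul_th_inj h e)]
    exact (hE κ').mp hκ'
  · intro g hg hg2
    obtain ⟨x, hx⟩ := isConj_iff.mp (Cfsg.Lib.Invol.se_isConj hse
      (a := ⟨g, hg⟩) (by rw [← Subgroup.orderOf_coe]; exact hg2) hz1)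
    exact ⟨x.1, x.2, congrArg Subtype.val hx⟩

end Cfsg.Lib.Linear.Suz
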