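import Cfsg.Agent.Lib.Linear.Suzuki.SubgroupFacts

/-!
# The list of subgroups of a Suzuki group

A subgroup with a central involution at infinity that moves infinity and contains the diagonal
elements of a subfield is the Suzuki group over that subfield.
-/

set_option autoImplicit false

namespace Cfsg.Lib.Linear.Suz

open scoped Matrix LinearAlgebra.Projectivization

variable {F : Type*} [Field F] [Fintype F] {m : ℕ} (h : Params F m)
include h

theorem dS_conj_uS (κ : Fˣ) (a b : F) :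
    dS h κ * uS h a b * (dS h κ)⁻¹ = uS h ((κ : F) * a) ((κ : F) * th m (κ : F) * b) := by
  rw [dS_mul_uS h, mul_inv_cancel_right]

theorem fx_unit_ne {k : ℕ} (hk : 1 ≤ k) (hcard : Nat.card {b : F // Fx h k b} = 2 ^ (2 * k + 1)) :
    ∃ κ : Fˣ, Fx h k (κ : F) ∧ (κ : F) ≠ 1 := by
  classical
  have hlt : ({0, 1} : Finset F).card < (Finset.univ.filter (Fx h k)).card := by
    rw [← Fintype.card_subtype, ← Nat.card_eq_fintype_card, hcard]
    exact lt_of_le_of_lt Finset.card_le_two (lt_of_lt_of_le (show 2 < 2 ^ 3 by norm_num)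
      (Nat.pow_le_pow_right two_pos (by omega)))
  obtain ⟨x, hx, hx'⟩ := Finset.exists_mem_notMem_of_card_lt_card hlt
  simp only [Finset.mem_filter, Finset.mem_univ, true_and] at hx
  simp only [Finset.mem_insert, Finset.mem_singleton, not_or] at hx'
  exact ⟨Units.mk0 x hx'.1, hx, hx'.2⟩

theorem moves_inf_zero {v : ↥(Cfsg.Sz F m)} (hi : v.1 • Cfsg.suzukiPointInfinity F = pA m (0 : F) 0)
    (h0 : v.1 • pA m (0 : F) 0 = Cfsg.suzukiPointInfinity F) : ∃ κ : Fˣ, v = wS h * dS h κ := by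
  obtain ⟨j, hj⟩ := two_point h ((wS h)⁻¹ * v).2
    (by show ((wSL F)⁻¹ * v.1) • Cfsg.suzukiPointInfinity F = Cfsg.suzukiPointInfinity F
        rw [mul_smul, hi, inv_smul_eq_iff, wSL_inf h])
    (by show ((wSL F)⁻¹ * v.1) • pA m (0 : F) 0 = pA m 0 0
        rw [mul_smul, h0, inv_smul_eq_iff, wSL_zero h])
  exact ⟨j, by rw [← show (wS h)⁻¹ * v = dS h j from Subtype.ext hj, mul_inv_cancel_left]⟩

theorem stage_two {M : Subgroup ↥(Cfsg.Sz F m)} {k : ℕ} (hk : 1 ≤ k)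
    (hnot : ¬ M ≤ MulAction.stabilizer ↥(Cfsg.Sz F m) (Cfsg.suzukiPointInfinity F))
    (hS : ∀ b, uS h 0 b ∈ M ↔ Fx h k b) (hcard : Nat.card {b : F // Fx h k b} = 2 ^ (2 * k + 1))
    (hE : ∀ a b (κ : Fˣ), uS h a b * dS h κ ∈ M → Fx h k (κ : F))
    (hA : ∀ a b, uS h a b ∈ M → Fx h k a)
    (hd : ∀ κ : Fˣ, Fx h k (κ : F) → dS h κ ∈ M)
    (hconj : ∀ g ∈ M, orderOf g = 2 → ∃ x ∈ M, x * g * x⁻¹ = uS h 0 1) : M = SubG h k := by
  classical
  obtain ⟨κ, hκ, hκ1⟩ := fx_unit_ne h hk hcard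
  have hκ0 := κ.ne_zero
  have h2 := two_eq h
  have hb : ∀ a b, uS h a b ∈ M → Fx h k b := by
    intro a b hab
    have hκ' : (1 + (κ : F)) ≠ 0 := fun e => hκ1 (by linear_combination e - h2)
    have e1 := mul_mem (mul_mem (hd κ hκ) hab) (inv_mem (hd κ hκ))
    have e2 := mul_mem (mul_mem (hd (Units.mk0 _ hκ') (fx_add h (fx_one h) hκ)) hab)
      (inv_mem (hd (Units.mk0 _ hκ') (fx_add h (fx_one h) hκ)))
    rw [dS_conj_uS h] at e1 e2
    rw [Units.val_mk0] at e2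
    have e3 := mul_mem (mul_mem hab e1) (inv_mem e2)
    rw [uS_mul h, uS_inv h, uS_mul h] at e3
    have ec : a + (κ : F) * a + (1 + κ) * a = 0 := by linear_combination ((1 + (κ : F)) * a) * h2
    rw [ec] at e3
    have hne : (κ : F) + th m (κ : F) ≠ 0 := fun e => by
      rcases th_eq_self h (x := (κ : F)) (by linear_combination e - (κ : F) * h2) with e' | e'
      exacts [hκ0 e', hκ1 e']
    have ha := hA a b hab
    have e4 := fx_add h ((hS _).mp e3) (fx_mul h (fx_mul h (fx_th h ha) hκ) ha)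
    have e5 : b + (κ : F) * th m (κ : F) * b + th m a * ((κ : F) * a) +
        ((1 + (κ : F)) * th m (1 + (κ : F)) * b + th m ((1 + (κ : F)) * a) * ((1 + (κ : F)) * a)) +
        th m (a + (κ : F) * a) * ((1 + (κ : F)) * a) + th m a * (κ : F) * a =
        ((κ : F) + th m (κ : F)) * b := by
      rw [show a + (κ : F) * a = (1 + (κ : F)) * a by ring, th_add h, th_one h]
      linear_combination (b + (κ : F) * th m (κ : F) * b + th m a * κ * a +
        th m ((1 + (κ : F)) * a) * ((1 + (κ : F)) * a)) * h2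
    rw [e5] at e4
    have := fx_div h e4 (fx_add h hκ (fx_th h hκ))
    rwa [mul_div_cancel_left₀ _ hne] at this
  have hlift : ∀ a b, uS h a b ∈ M → a ≠ 0 → ∀ a', Fx h k a' → uS h a' 0 ∈ M := by
    intro a b hab ha a' ha'
    by_cases h0 : a' = 0
    · rw [h0, uS_zero h]; exact one_mem M
    · have e1 : uS h a 0 ∈ M := by
        have := mul_mem hab ((hS b).mpr (hb a b hab))
        rwa [uS_mul h, add_zero, mul_zero, add_zero, add_self h] at this
      have hne : a' / a ≠ 0 := div_ne_zero h0 ha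
      have hdm := hd (Units.mk0 _ hne) (fx_div h ha' (hA a b hab))
      have := mul_mem (mul_mem hdm e1) (inv_mem hdm)
      rwa [dS_conj_uS h, Units.val_mk0, mul_zero, div_mul_cancel₀ _ ha] at this
  have hz : uS h 0 1 ∈ M := (hS 1).mpr (fx_one h)
  obtain ⟨Ω, hΩ⟩ : ∃ Ω : Set (ℙ F (Fin 4 → F)), Ω = {p | p ≠ Cfsg.suzukiPointInfinity F ∧
      ∃ g ∈ M, g.1 • Cfsg.suzukiPointInfinity F = p} := ⟨_, rfl⟩
  have hΩmem : ∀ p : ↥Ω, p.1 ≠ Cfsg.suzukiPointInfinity F ∧
      ∃ g ∈ M, g.1 • Cfsg.suzukiPointInfinity F = p.1 := fun p => (Set.ext_iff.mp hΩ p.1).mp p.2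
  have hΩg := fun p => (hΩmem p).2
  have hΩne := fun p => (hΩmem p).1
  choose rep hrep hrepi using hΩg
  have hfixu : ∀ b : F, (uS h 0 b).1 • Cfsg.suzukiPointInfinity F = Cfsg.suzukiPointInfinity F :=
    fun b => uSL_inf 0 b
  have hfixone : ∀ (g : ↥(Cfsg.Sz F m)) (b : F), b ≠ 0 → ∀ p ∈ Cfsg.suzukiOvoid F m,
      (g * uS h 0 b * g⁻¹).1 • p = p → p = g.1 • Cfsg.suzukiPointInfinity F := by
    intro g b hb0 p hp e
    change (g.1 * uSL m 0 b * g.1⁻¹) • p = p at e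
    rw [mul_smul, mul_smul, smul_eq_iff_eq_inv_smul] at e
    rw [← fix_unique h (fun e' => hb0 (uS_inj h (e'.trans (uS_zero h).symm)).2)
      (mem_Sz_iff.mp (g⁻¹).2 _ hp) e]
    exact (smul_inv_smul g.1 p).symm
  have hmove : ∀ (p : ↥Ω) (b : F), b ≠ 0 → ∀ g' : ↥(Cfsg.Sz F m), g' = rep p * uS h 0 b * (rep p)⁻¹ →
      g'.1 • Cfsg.suzukiPointInfinity F ≠ Cfsg.suzukiPointInfinity F := by
    intro p b hb0 g' hg' e
    rw [hg'] at e
    exact hΩne p ((hrepi p).symm.trans (hfixone _ b hb0 _ (mem_inf m) e).symm)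
  -- the involutions of the subgroup moving infinity, indexed by a point and a central element
  obtain ⟨f, hf⟩ : ∃ f : ↥Ω × {b : F // Fx h k b ∧ b ≠ 0} → ↥(Cfsg.Sz F m),
      ∀ x, f x = rep x.1 * uS h 0 x.2.1 * (rep x.1)⁻¹ := ⟨_, fun x => rfl⟩
  have hfM : ∀ x, f x ∈ M := fun x => by
    rw [hf]; exact mul_mem (mul_mem (hrep _) ((hS _).mpr x.2.2.1)) (inv_mem (hrep _))
  have hfinv : ∀ x, orderOf (f x) = 2 := fun x => by
    rw [hf, Cfsg.Lib.Invol.orderOf_conj_eq, orderOf_uS_zero h x.2.2.2]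
  have hfinj : Function.Injective f := by
    intro x y e
    rw [hf, hf] at e
    have hp : x.1 = y.1 := Subtype.ext (by
      rw [← hrepi x.1, ← hrepi y.1]
      refine hfixone _ _ y.2.2.2 _ (mem_Sz_iff.mp (rep x.1).2 _ (mem_inf m)) ?_
      rw [← e]
      show ((rep x.1).1 * uSL m 0 x.2.1 * (rep x.1).1⁻¹) • ((rep x.1).1 • _) = _
      rw [mul_smul, mul_smul, inv_smul_smul, uSL_inf])
    rw [hp] at e
    exact Prod.ext hp (Subtype.ext (uS_inj h (mul_left_cancel (mul_right_cancel e))).2)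
  have hcover : ∀ v ∈ M, orderOf v = 2 → v.1 • Cfsg.suzukiPointInfinity F ≠ Cfsg.suzukiPointInfinity F →
      ∃ x, f x = v := by
    intro v hv hv2 hvi
    obtain ⟨c, hc, hcv⟩ := hconj v hv hv2
    have ev : v = c⁻¹ * uS h 0 1 * c := by rw [← hcv]; group
    have hpΩ : (c⁻¹).1 • Cfsg.suzukiPointInfinity F ∈ Ω := by
      rw [hΩ]
      refine ⟨fun e => hvi ?_, c⁻¹, inv_mem hc, rfl⟩
      rw [ev]
      change (c.1⁻¹ * uSL m (0 : F) 1 * c.1) • _ = _
      change c.1⁻¹ • _ = _ at e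
      rw [mul_smul, mul_smul, show c.1 • Cfsg.suzukiPointInfinity F = Cfsg.suzukiPointInfinity F from
        (inv_smul_eq_iff.mp e).symm, uSL_inf, e]
    obtain ⟨q, hq⟩ : ∃ q : ↥Ω, q.1 = (c⁻¹).1 • Cfsg.suzukiPointInfinity F := ⟨⟨_, hpΩ⟩, rfl⟩
    have hst : (rep q)⁻¹ * c⁻¹ ∈ MulAction.stabilizer ↥(Cfsg.Sz F m) (Cfsg.suzukiPointInfinity F) := by
      show ((rep q).1⁻¹ * (c⁻¹).1) • Cfsg.suzukiPointInfinity F = Cfsg.suzukiPointInfinity F
      rw [mul_smul, ← hq, ← hrepi q, inv_smul_smul]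
    obtain ⟨a, b, l, el⟩ := (mem_stab_inf_iff h).mp hst
    have hl : Fx h k (l : F) := hE a b l (el ▸ mul_mem (inv_mem (hrep q)) (inv_mem hc))
    have hne : (l : F) * th m (l : F) ≠ 0 :=
      mul_ne_zero l.ne_zero fun e => l.ne_zero ((th_eq_zero h).mp e)
    refine ⟨(q, ⟨_, fx_mul h hl (fx_th h hl), hne⟩), ?_⟩
    rw [hf, ev]
    simp only
    rw [← mul_one ((l : F) * th m (l : F)), ← conj_ZS h a b 1 l, ← el]
    group
  -- the involution attached to a point and a central element sends infinity to that point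
  obtain ⟨q, hqdef⟩ : ∃ q : ↥Ω × {b : F // Fx h k b ∧ b ≠ 0} → ↥Ω,
      ∀ x, (q x).1 = (f x).1 • Cfsg.suzukiPointInfinity F := by
    refine ⟨fun x => ⟨(f x).1 • Cfsg.suzukiPointInfinity F, ?_⟩, fun x => rfl⟩
    rw [hΩ]
    exact ⟨hmove x.1 x.2.1 x.2.2.2 _ (hf x), f x, hfM x, rfl⟩
  have hswap : ∀ x, (f x).1 • (q x).1 = Cfsg.suzukiPointInfinity F := fun x => by
    rw [hqdef, ← mul_smul, ← Subgroup.coe_mul, ← sq, ← hfinv x, pow_orderOf_eq_one]
    exact one_smul _ _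
  obtain ⟨first, hfirst⟩ : ∃ first : ↥Ω → ↥(Cfsg.Sz F m), ∀ x, ∃ y, first (q x) = f y ∧ q y = q x := by
    refine ⟨fun p => if hp : ∃ x, q x = p then f hp.choose else 1, fun x => ?_⟩
    have hp : ∃ y, q y = q x := ⟨x, rfl⟩
    exact ⟨hp.choose, dif_pos hp, hp.choose_spec⟩
  have hcoord : ∀ x, ∃ a b l, first (q x) * f x = uS h a b * dS h l ∧ first (q x) * f x ∈ M ∧
      (first (q x) * f x).1 • (q x).1 = (q x).1 := by
    intro x
    obtain ⟨y, hy, hqy⟩ := hfirst x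
    have hst : first (q x) * f x ∈ MulAction.stabilizer ↥(Cfsg.Sz F m) (Cfsg.suzukiPointInfinity F) := by
      show ((first (q x)).1 * (f x).1) • Cfsg.suzukiPointInfinity F = Cfsg.suzukiPointInfinity F
      rw [mul_smul, ← hqdef, hy, ← hqy, hswap]
    obtain ⟨a, b, l, e⟩ := (mem_stab_inf_iff h).mp hst
    refine ⟨a, b, l, e, hy ▸ mul_mem (hfM y) (hfM x), ?_⟩
    show ((first (q x)).1 * (f x).1) • _ = _
    rw [mul_smul, hswap, hy, ← hqdef, hqy]
  choose ca cb cl hc1 hc2 hc3 using hcoord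
  obtain ⟨Φ, hΦ⟩ : ∃ Φ : ↥Ω × {b : F // Fx h k b ∧ b ≠ 0} → ↥Ω × {b : F // Fx h k b ∧ b ≠ 0},
      ∀ x, (Φ x).1 = q x ∧ (Φ x).2.1 = (cl x : F) :=
    ⟨fun x => (q x, ⟨(cl x : F), hE _ _ _ (hc1 x ▸ hc2 x), (cl x).ne_zero⟩), fun x => ⟨rfl, rfl⟩⟩
  have hΦinj : Function.Injective Φ := by
    intro x y e
    have e1 : q x = q y := by rw [← (hΦ x).1, ← (hΦ y).1, e]
    have e2 : cl x = cl y := Units.ext (by rw [← (hΦ x).2, ← (hΦ y).2, e])
    refine hfinj (mul_left_cancel (a := first (q x)) ?_)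
    nth_rewrite 2 [e1]
    have hcm : (first (q x) * f x) * (first (q y) * f y)⁻¹ = 1 := by
      have hmem : (first (q x) * f x) * (first (q y) * f y)⁻¹ = uS h (ca x) (cb x) * (uS h (ca y) (cb y))⁻¹ := by
        rw [hc1, hc1, e2]; group
      rw [hmem]
      by_contra hne
      obtain ⟨a, b, eab⟩ : ∃ a b, uS h (ca x) (cb x) * (uS h (ca y) (cb y))⁻¹ = uS h a b :=
        mul_mem (show uS h (ca x) (cb x) ∈ US h from ⟨_, _, rfl⟩) (inv_mem ⟨_, _, rfl⟩)
      refine hΩne (q x) (fix_unique h (a := a) (b := b) (eab ▸ hne) ?_ ?_)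
      · rw [← hrepi (q x)]; exact mem_Sz_iff.mp (rep _).2 _ (mem_inf m)
      · show (uS h a b).1 • _ = _
        rw [← eab, ← hmem]
        show ((first (q x) * f x).1 * (first (q y) * f y).1⁻¹) • _ = _
        rw [mul_smul, e1, inv_smul_eq_iff.mpr (hc3 y).symm, ← e1, hc3]
    exact mul_inv_eq_one.mp hcm
  have hsurj : Function.Surjective Φ := hΦinj.surjective_of_finite (Equiv.refl _)
  have hpts : ∀ g ∈ M, g.1 • Cfsg.suzukiPointInfinity F ≠ Cfsg.suzukiPointInfinity F →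
      ∃ x y v, g.1 • Cfsg.suzukiPointInfinity F = pA m x y ∧ Fx h k x ∧ Fx h k y ∧ uS h x y ∈ M ∧
        v ∈ M ∧ v * v = 1 ∧ v.1 • Cfsg.suzukiPointInfinity F = pA m x y := by
    intro g hg hgi
    obtain ⟨x, y, hxy⟩ := (mem_ovoid_iff.mp (mem_Sz_iff.mp g.2 _ (mem_inf m))).resolve_left hgi
    have hpΩ : g.1 • Cfsg.suzukiPointInfinity F ∈ Ω := by rw [hΩ]; exact ⟨hgi, g, hg, rfl⟩
    obtain ⟨z, hz'⟩ := hsurj (⟨_, hpΩ⟩, ⟨(κ : F), hκ, hκ0⟩)
    have hqz : (q z).1 = pA m x y := by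
      rw [← (hΦ z).1, hz']; exact hxy
    have hlz : cl z = κ := Units.ext (by rw [← (hΦ z).2, hz'])
    have e := hc3 z
    rw [hc1 z, hlz, hqz] at e
    change (uSL m (ca z) (cb z) * dHom F m κ) • pA m x y = pA m x y at e
    rw [mul_smul, dHom_pA h, uSL_pA h] at e
    obtain ⟨e1, e2⟩ := pA_injective e
    have hU : uS h (ca z) (cb z) ∈ M := by
      have := mul_mem (hc2 z) (inv_mem (hd κ hκ))
      rwa [hc1 z, hlz, mul_inv_cancel_right] at this
    have hne1 : 1 + (κ : F) ≠ 0 := fun e => hκ1 (by linear_combination e - h2)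
    have hne2 : 1 + (κ : F) * th m (κ : F) ≠ 0 := fun e =>
      mul_th_ne_one h hκ1 (by linear_combination e - h2)
    have hx : x = ca z / (1 + (κ : F)) := by
      rw [eq_div_iff hne1]
      linear_combination e1 + (x - ca z) * h2
    have hy : y = (cb z + th m (ca z) * ((κ : F) * x)) / (1 + (κ : F) * th m (κ : F)) := by
      rw [eq_div_iff hne2]
      linear_combination e2 + (y - cb z - th m (ca z) * ((κ : F) * x)) * h2
    have hfa := hA _ _ hU
    have hfx : Fx h k x := hx ▸ fx_div h hfa (fx_add h (fx_one h) hκ)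
    have hfy : Fx h k y := hy ▸ fx_div h (fx_add h (hb _ _ hU) (fx_mul h (fx_th h hfa) (fx_mul h hκ hfx)))
      (fx_add h (fx_one h) (fx_mul h hκ (fx_th h hκ)))
    have hx0 : uS h x 0 ∈ M := by
      by_cases ha : ca z = 0
      · rw [hx, ha, zero_div, uS_zero h]; exact one_mem M
      · exact hlift _ _ hU ha x hfx
    refine ⟨x, y, f z, hxy, hfx, hfy, ?_, hfM z, ?_, ?_⟩
    · have := mul_mem hx0 ((hS y).mpr hfy)
      rwa [uS_mul h, add_zero, mul_zero, add_zero, zero_add] at this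
    · rw [← sq, ← hfinv z, pow_orderOf_eq_one]
    · rw [← hqdef, hqz]
  obtain ⟨g₁, hg₁, hg₁i⟩ := Set.not_subset.mp hnot
  obtain ⟨x, y, v, -, -, -, hu, hv, hv2, hvi⟩ := hpts g₁ hg₁ hg₁i
  have hui : (uS h x y).1 • Cfsg.suzukiPointInfinity F = Cfsg.suzukiPointInfinity F := uSL_inf x y
  have hu0 : (uS h x y).1 • pA m (0 : F) 0 = pA m x y := uSL_zero_pt h x y
  have hvp : v.1 • pA m x y = Cfsg.suzukiPointInfinity F := by
    rw [← hvi, ← mul_smul, ← Subgroup.coe_mul, hv2]; exact one_smul _ _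
  obtain ⟨l, hl⟩ := moves_inf_zero h (v := (uS h x y)⁻¹ * v * uS h x y)
    (by show ((uS h x y).1⁻¹ * v.1 * (uS h x y).1) • _ = _
        rw [mul_smul, mul_smul, hui, hvi, inv_smul_eq_iff, hu0])
    (by show ((uS h x y).1⁻¹ * v.1 * (uS h x y).1) • _ = _
        rw [mul_smul, mul_smul, hu0, hvp, inv_smul_eq_iff, hui])
  have hvM : wS h * dS h l ∈ M := hl ▸ mul_mem (mul_mem (inv_mem hu) hv) hu
  -- the image of the point with parameters zero and one
  have himg : ((wS h * dS h l) * uS h 0 1 * (wS h * dS h l)).1 • Cfsg.suzukiPointInfinity F =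
      pA m ((l : F)⁻¹) 0 := by
    show ((wSL F * dHom F m l) * uSL m (0 : F) 1 * (wSL F * dHom F m l)) • _ = _
    rw [mul_smul, mul_smul, mul_smul, mul_smul, dHom_inf, wSL_inf h, uSL_zero_pt h, dHom_pA h, mul_zero, mul_one]
    have hth : th m (l : F) ≠ 0 := fun e => l.ne_zero ((th_eq_zero h).mp e)
    have hz' : zc m (0 : F) ((l : F) * th m (l : F)) = th m (l : F) * (l : F) ^ 2 := by
      rw [zc, th_mul h, th_th h, th_zero h]; ring
    rw [wSL_pA h (by rw [hz']; exact mul_ne_zero hth (pow_ne_zero 2 l.ne_zero)), hz', zero_div]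
    congr 1
    have := l.ne_zero
    field_simp
  obtain ⟨x', y', -, hxy', hfx', -, hu', -⟩ := hpts _ (mul_mem (mul_mem hvM hz) hvM)
    (by rw [himg]; exact (inf_ne_pA m _ _).symm)
  obtain ⟨ex, -⟩ := pA_injective (himg.symm.trans hxy')
  have hl' : Fx h k (l : F) := inv_inv (l : F) ▸ fx_inv h (ex ▸ hfx')
  have hw : wS h ∈ M := by
    have := mul_mem hvM (inv_mem (hd l hl'))
    rwa [mul_inv_cancel_right] at this
  have hall : ∀ a, Fx h k a → uS h a 0 ∈ M := hlift _ _ hu' (ex ▸ inv_ne_zero l.ne_zero)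
  refine le_antisymm (fun g hg => ?_) ?_
  · have hstab : ∀ g ∈ M, g ∈ MulAction.stabilizer ↥(Cfsg.Sz F m) (Cfsg.suzukiPointInfinity F) →
        g ∈ SubG h k := by
      intro g hg hgi
      obtain ⟨a, b, j, rfl⟩ := (mem_stab_inf_iff h).mp hgi
      have hj := hE a b j hg
      have hu : uS h a b ∈ M := by
        have := mul_mem hg (inv_mem (hd j hj))
        rwa [mul_inv_cancel_right] at this
      exact mul_mem (uS_mem_SubG h (hA a b hu) (hb a b hu)) (dS_mem_SubG h hj)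
    by_cases hgi : g.1 • Cfsg.suzukiPointInfinity F = Cfsg.suzukiPointInfinity F
    · exact hstab g hg hgi
    · obtain ⟨x, y, -, hxy, hfx, hfy, hu, -⟩ := hpts g hg hgi
      have hst := hstab _ (mul_mem (inv_mem (mul_mem hu hw)) hg) (by
        show ((uSL m x y * wSL F)⁻¹ * g.1) • Cfsg.suzukiPointInfinity F = Cfsg.suzukiPointInfinity F
        rw [mul_smul, hxy, inv_smul_eq_iff, mul_smul, wSL_inf h, uSL_zero_pt h])
      have := mul_mem (mul_mem (uS_mem_SubG h hfx hfy) (wS_mem_SubG h)) hst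
      rwa [mul_inv_cancel_left] at this
  · rw [SubG, Subgroup.closure_le]
    rintro _ (⟨a, b, ha, hb', rfl⟩ | ⟨j, hj, rfl⟩ | rfl)
    · have := mul_mem (hall a ha) ((hS b).mpr hb')
      rwa [uS_mul h, add_zero, mul_zero, add_zero, zero_add] at this
    · exact hd j hj
    · exact hw

end Cfsg.Lib.Linear.Suz
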