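import Cfsg.Agent.Lib.Linear.Suzuki.Struct
import Cfsg.Agent.Lib.Linear.Suzuki.Sylow
import Cfsg.Agent.Lib.Linear.Suzuki.Semisimple

/-!
# The elements of a Suzuki group without fixed points

Centralisers of elements, the cyclic tori, and their sizes obtained by counting.
-/

set_option autoImplicit false

namespace Cfsg.Lib.Linear.Suz

open scoped Matrix LinearAlgebra.Projectivization

theorem zmod_three_sq : ∀ z : ZMod 3, z ^ 2 ≠ -1 := by decide

/-- The elements different from one having a conjugate in `T`. -/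
def conjSet {G : Type*} [Group G] (T : Subgroup G) : Set G := {x | x ≠ 1 ∧ ∃ σ, σ * x * σ⁻¹ ∈ T}

theorem ncard_conjSet {G : Type*} [Group G] [Finite G] (T N : Subgroup G)
    (h1 : ∀ n ∈ N, ∀ t ∈ T, n * t * n⁻¹ ∈ T)
    (h2 : ∀ t ∈ T, t ≠ 1 → ∀ g : G, g * t * g⁻¹ ∈ T → g ∈ N) :
    (conjSet T).ncard = N.index * (Nat.card T - 1) := by
  classical
  have := Fintype.ofFinite G
  obtain ⟨f, hf⟩ : ∃ f : (G ⧸ N) × ↥((T : Set G) \ {1}) → G,
      ∀ x, f x = x.1.out * x.2.1 * x.1.out⁻¹ := ⟨_, fun x => rfl⟩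
  have hinj : Function.Injective f := fun a b e => by
    obtain ⟨x, t, ht, ht1⟩ := a
    obtain ⟨y, s, hs, hs1⟩ := b
    rw [hf, hf] at e
    simp only at e
    have hxy : x = y := by
      rw [← QuotientGroup.out_eq' x, ← QuotientGroup.out_eq' y]
      refine (QuotientGroup.eq.mpr (h2 t ht ht1 _ ?_)).symm
      rw [show y.out⁻¹ * x.out * t * (y.out⁻¹ * x.out)⁻¹ = y.out⁻¹ * (x.out * t * x.out⁻¹) * y.out by group, e,
        show y.out⁻¹ * (y.out * s * y.out⁻¹) * y.out = s by group]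
      exact hs
    subst hxy
    simp only [mul_left_inj, mul_right_inj] at e
    exact Prod.ext rfl (Subtype.ext e)
  have hrange : Set.range f = conjSet T := by
    ext z
    constructor
    · rintro ⟨⟨x, t, ht, ht1⟩, rfl⟩
      rw [hf]
      refine ⟨fun e => ht1 ?_, x.out⁻¹, ?_⟩
      · rwa [mul_inv_eq_one, mul_eq_left] at e
      · rw [show x.out⁻¹ * (x.out * t * x.out⁻¹) * x.out⁻¹⁻¹ = t by group]; exact ht
    · rintro ⟨hz, σ, hσ⟩
      obtain ⟨g, hg⟩ : ∃ g, g = (QuotientGroup.mk σ⁻¹ : G ⧸ N).out := ⟨_, rfl⟩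
      have hN : g⁻¹ * σ⁻¹ ∈ N := QuotientGroup.eq.mp (hg ▸ QuotientGroup.out_eq' _)
      refine ⟨(QuotientGroup.mk σ⁻¹, ⟨g⁻¹ * z * g, ?_, ?_⟩), ?_⟩
      · have := h1 _ hN _ hσ
        simpa [mul_assoc] using this
      · intro e
        rw [Set.mem_singleton_iff] at e
        refine hz ?_
        have e' := congrArg (fun w => g * w * g⁻¹) e
        simpa [mul_assoc] using e'
      · rw [hf, ← hg]
        group
  rw [← hrange, Set.ncard_range_of_injective hinj, Nat.card_prod, Subgroup.index, Nat.card_coe_set_eq,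
    Set.ncard_sdiff_singleton_of_mem (one_mem T), ← Nat.card_coe_set_eq]
  rfl

variable {F : Type*} [Field F] [Fintype F] {m : ℕ} (h : Params F m)
include h

/-- An element moving every point of the ovoid. -/
def Fpf (_h : Params F m) (g : ↥(Cfsg.Sz F m)) : Prop := ∀ p ∈ Cfsg.suzukiOvoid F m, g.1 • p ≠ p

theorem fpf_conj {x : ↥(Cfsg.Sz F m)} (hx : Fpf h x) (σ : ↥(Cfsg.Sz F m)) : Fpf h (σ * x * σ⁻¹) := by
  intro p hp e
  refine hx (σ.1⁻¹ • p) (mem_Sz_iff.mp (σ⁻¹).2 _ hp) ?_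
  change (σ.1 * x.1 * σ.1⁻¹) • p = p at e
  rw [mul_smul, mul_smul] at e
  exact eq_inv_smul_iff.mpr e

theorem fpf_ne_one {x : ↥(Cfsg.Sz F m)} (hx : Fpf h x) : x ≠ 1 := fun e =>
  hx _ (mem_inf m) (by rw [e]; exact one_smul _ _)

theorem not_fpf_stab {x : ↥(Cfsg.Sz F m)}
    (hx : x ∈ MulAction.stabilizer ↥(Cfsg.Sz F m) (Cfsg.suzukiPointInfinity F)) : ¬ Fpf h x :=
  fun h' => h' _ (mem_inf m) hx

theorem not_fpf_of_conjSet {x : ↥(Cfsg.Sz F m)}
    (hx : x ∈ conjSet (US h) ∨ x ∈ conjSet (dS h).range) : ¬ Fpf h x := by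
  intro hf
  rcases hx with ⟨-, σ, a, b, e⟩ | ⟨-, σ, k, e⟩
  · exact not_fpf_stab h (x := σ * x * σ⁻¹) (by rw [e]; exact uSL_inf a b) (fpf_conj h hf σ)
  · exact not_fpf_stab h (x := σ * x * σ⁻¹) (by rw [← e]; exact dHom_inf k) (fpf_conj h hf σ)

theorem dS_injective : Function.Injective (dS h) := fun _ _ e => dHom_injective (congrArg Subtype.val e)

theorem dS_fix {k : Fˣ} (hk : k ≠ 1) {x y : F} (e : dHom F m k • pA m x y = pA m x y) : x = 0 ∧ y = 0 := by
  have hk1 : (k : F) ≠ 1 := fun e => hk (Units.ext e)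
  rw [dHom_pA h] at e
  obtain ⟨e1, e2⟩ := pA_injective e
  constructor
  · by_contra hx
    exact hk1 (mul_right_cancel₀ hx (by rw [e1, one_mul]))
  · by_contra hy
    exact mul_th_ne_one h hk1 (mul_right_cancel₀ hy (by rw [e2, one_mul]))

theorem classify {x : ↥(Cfsg.Sz F m)} (hx : x ≠ 1) (hfix : ¬ Fpf h x) :
    x ∈ conjSet (US h) ∨ x ∈ conjSet (dS h).range := by
  simp only [Fpf, not_forall, Classical.not_not] at hfix
  obtain ⟨p, hp, hxp⟩ := hfix
  rw [← orbit_inf h] at hp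
  obtain ⟨g, hg⟩ := hp
  have hg' : g.1 • Cfsg.suzukiPointInfinity F = p := hg
  have hstab : g⁻¹ * x * g ∈ MulAction.stabilizer ↥(Cfsg.Sz F m) (Cfsg.suzukiPointInfinity F) := by
    show (g.1⁻¹ * x.1 * g.1) • Cfsg.suzukiPointInfinity F = Cfsg.suzukiPointInfinity F
    rw [mul_smul, mul_smul, hg', hxp, inv_smul_eq_iff, hg']
  obtain ⟨a, b, k, e⟩ := (mem_stab_inf_iff h).mp hstab
  by_cases hk : k = 1
  · refine Or.inl ⟨hx, g⁻¹, a, b, ?_⟩
    rw [inv_inv, e, hk, map_one, mul_one]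
  · refine Or.inr ⟨hx, ?_⟩
    have hk1 : (k : F) ≠ 1 := fun e => hk (Units.ext e)
    have hd1 : 1 - (k : F) ≠ 0 := sub_ne_zero.mpr (Ne.symm hk1)
    have hd2 : 1 - (k : F) * th m (k : F) ≠ 0 := sub_ne_zero.mpr (Ne.symm (mul_th_ne_one h hk1))
    obtain ⟨X, hX⟩ : ∃ X, X = a / (1 - (k : F)) := ⟨_, rfl⟩
    obtain ⟨Y, hY⟩ : ∃ Y, Y = (th m a * ((k : F) * X) + b) / (1 - (k : F) * th m (k : F)) := ⟨_, rfl⟩
    have hfixA : (uS h a b * dS h k).1 • pA m X Y = pA m X Y := by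
      show (uSL m a b * dHom F m k) • pA m X Y = pA m X Y
      rw [mul_smul, dHom_pA h, uSL_pA h]
      congr 1
      · rw [hX]; field_simp; ring
      · rw [hY]; field_simp; ring
    obtain ⟨u, hu⟩ : ∃ u, u = uS h X Y := ⟨_, rfl⟩
    have hmem : u⁻¹ * (g⁻¹ * x * g) * u ∈ MulAction.stabilizer ↥(Cfsg.Sz F m) (Cfsg.suzukiPointInfinity F) ⊓
        MulAction.stabilizer ↥(Cfsg.Sz F m) (Cfsg.suzukiPointZero F) := by
      have hu' : u ∈ MulAction.stabilizer ↥(Cfsg.Sz F m) (Cfsg.suzukiPointInfinity F) := by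
        rw [hu]; exact uSL_inf X Y
      refine Subgroup.mem_inf.mpr ⟨mul_mem (mul_mem (inv_mem hu') hstab) hu', ?_⟩
      rw [pZero_eq h, e, hu]
      show ((uSL m X Y)⁻¹ * (uS h a b * dS h k).1 * uSL m X Y) • pA m (0 : F) 0 = pA m 0 0
      rw [mul_smul, mul_smul, uSL_zero_pt h, hfixA, inv_smul_eq_iff, uSL_zero_pt h]
    obtain ⟨l, hl⟩ := (mem_stab_two_iff h).mp hmem
    refine ⟨u⁻¹ * g⁻¹, l, ?_⟩
    rw [← hl]; group

theorem centralizer_US {u : ↥(Cfsg.Sz F m)} (hu : u ∈ US h) (hne : u ≠ 1) :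
    Subgroup.centralizer ({u} : Set ↥(Cfsg.Sz F m)) ≤ US h := by
  have hZ : ∀ β : F, β ≠ 0 → ∀ c, c * uS h 0 β = uS h 0 β * c → c ∈ US h := fun β hβ c hc => by
    have hconj : c * uS h 0 β * c⁻¹ = uS h 0 β := by rw [hc]; group
    obtain ⟨a, b, k, rfl⟩ := (mem_stab_inf_iff h).mp (conj_mem_stab h ⟨0, β, rfl⟩ ⟨0, β, rfl⟩
      (fun e => by rw [← uS_zero h] at e; exact hβ (uS_inj h e).2) hconj)
    rw [show uS h a b * dS h k * uS h 0 β * (uS h a b * dS h k)⁻¹ =
        uS h a b * (dS h k * uS h 0 β * (dS h k)⁻¹) * (uS h a b)⁻¹ by group,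
      dS_mul_uS h, mul_inv_cancel_right, mul_inv_eq_iff_eq_mul, uS_mul h, uS_mul h] at hconj
    simp only [mul_zero, add_zero, zero_add, th_zero h, zero_mul] at hconj
    have hk : (k : F) = 1 := by
      by_contra hk
      refine mul_th_ne_one h hk (mul_right_cancel₀ hβ ?_)
      linear_combination (uS_inj h hconj).2
    rw [show k = 1 from Units.ext hk, map_one, mul_one]
    exact ⟨a, b, rfl⟩
  intro c hc
  have hc' : c * u = u * c := (Subgroup.mem_centralizer_iff.mp hc u rfl).symm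
  obtain ⟨a, b, rfl⟩ := hu
  by_cases ha : a = 0
  · subst ha
    exact hZ b (fun e => hne (by rw [e, uS_zero h])) c hc'
  · refine hZ (th m a * a) (mul_ne_zero (fun e => ha ((th_eq_zero h).mp e)) ha) c ?_
    have e2 : uS h a b * uS h a b = uS h 0 (th m a * a) := by
      rw [uS_mul h, add_self h, add_self h, zero_add]
    rw [← e2, ← mul_assoc, hc', mul_assoc, hc', mul_assoc]

theorem DS_conj {k l : Fˣ} (hk : k ≠ 1) {n : ↥(Cfsg.Sz F m)} (e : n * dS h k * n⁻¹ = dS h l) :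
    (∃ j, n = dS h j ∧ l = k) ∨ ∃ j, n = wS h * dS h j ∧ l = k⁻¹ := by
  have hl : l ≠ 1 := fun hl => hk (dS_injective h (by
    rw [hl, map_one, mul_inv_eq_one, mul_eq_left] at e
    rw [e, map_one]))
  have hperm : ∀ p ∈ Cfsg.suzukiOvoid F m, dHom F m k • p = p →
      n.1 • p = Cfsg.suzukiPointInfinity F ∨ n.1 • p = pA m (0 : F) 0 := by
    intro p hp hfix
    have hq : dHom F m l • (n.1 • p) = n.1 • p := by
      rw [← show n.1 * dHom F m k * n.1⁻¹ = dHom F m l from congrArg Subtype.val e, mul_smul, mul_smul,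
        inv_smul_smul, hfix]
    rcases mem_ovoid_iff.mp (mem_Sz_iff.mp n.2 _ hp) with h' | ⟨x, y, h'⟩
    · exact Or.inl h'
    · rw [h'] at hq
      obtain ⟨rfl, rfl⟩ := dS_fix h hl hq
      exact Or.inr h'
  have h0fix : dHom F m k • pA m (0 : F) 0 = pA m 0 0 := by rw [dHom_pA h, mul_zero, mul_zero]
  rcases hperm _ (mem_inf m) (dHom_inf k) with hi | hi
  · have h0 : n.1 • pA m (0 : F) 0 = pA m 0 0 := (hperm _ (mem_pA m 0 0) h0fix).resolve_left fun e' =>
      inf_ne_pA m _ _ (MulAction.injective n.1 (hi.trans e'.symm))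
    obtain ⟨j, hj⟩ := two_point h n.2 hi h0
    have hn : n = dS h j := Subtype.ext hj
    refine Or.inl ⟨j, hn, dS_injective h ?_⟩
    rw [← e, hn, ← map_mul, ← map_inv, ← map_mul, mul_inv_cancel_comm]
  · have h0 : n.1 • pA m (0 : F) 0 = Cfsg.suzukiPointInfinity F :=
      (hperm _ (mem_pA m 0 0) h0fix).resolve_right fun e' =>
        inf_ne_pA m _ _ (MulAction.injective n.1 (hi.trans e'.symm))
    obtain ⟨j, hj⟩ := two_point h ((wS h)⁻¹ * n).2
      (by show ((wSL F)⁻¹ * n.1) • Cfsg.suzukiPointInfinity F = Cfsg.suzukiPointInfinity F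
          rw [mul_smul, hi, inv_smul_eq_iff, wSL_inf h])
      (by show ((wSL F)⁻¹ * n.1) • pA m (0 : F) 0 = pA m 0 0
          rw [mul_smul, h0, inv_smul_eq_iff, wSL_zero h])
    have hn : n = wS h * dS h j := by
      rw [← show (wS h)⁻¹ * n = dS h j from Subtype.ext hj, mul_inv_cancel_left]
    refine Or.inr ⟨j, hn, dS_injective h ?_⟩
    rw [← e, hn, show wS h * dS h j * dS h k * (wS h * dS h j)⁻¹ =
      wS h * (dS h j * dS h k * (dS h j)⁻¹) * (wS h)⁻¹ by group, ← map_mul, ← map_inv, ← map_mul,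
      mul_inv_cancel_comm, wS_conj h, mul_inv_cancel_right]

theorem centralizer_DS {d : ↥(Cfsg.Sz F m)} (hd : d ∈ (dS h).range) (hne : d ≠ 1) :
    Subgroup.centralizer ({d} : Set ↥(Cfsg.Sz F m)) = (dS h).range := by
  obtain ⟨k, rfl⟩ := hd
  have hk : k ≠ 1 := fun e => hne (by rw [e, map_one])
  ext c
  rw [Subgroup.mem_centralizer_singleton_iff]
  constructor
  · intro hc
    rcases DS_conj h hk (l := k) (n := c) (by rw [hc]; group) with ⟨j, hj, -⟩ | ⟨j, -, hj⟩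
    · exact ⟨j, hj.symm⟩
    · exfalso
      refine hk (Units.ext ?_)
      rw [Units.val_one]
      haveI := charP_two h
      refine frobenius_inj F 2 ?_
      simp only [frobenius_def, one_pow]
      rw [sq]
      nth_rewrite 2 [hj]
      rw [← Units.val_mul, mul_inv_cancel, Units.val_one]
  · rintro ⟨j, rfl⟩
    rw [← map_mul, ← map_mul, mul_comm]

theorem card_DS : Nat.card ↥(dS h).range = 2 ^ (2 * m + 1) - 1 := by
  classical
  rw [← Nat.card_congr (MonoidHom.ofInjective (dS_injective h)).toEquiv, Nat.card_eq_fintype_card,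
    Fintype.card_units, h.card]

theorem q_ge : 8 ≤ 2 ^ (2 * m + 1) := by
  have := h.pos
  calc 8 = 2 ^ 3 := rfl
    _ ≤ _ := Nat.pow_le_pow_right two_pos (by omega)

theorem card_NDS : Nat.card ↥(Subgroup.normalizer ((dS h).range : Set ↥(Cfsg.Sz F m))) =
    2 * (2 ^ (2 * m + 1) - 1) := by
  classical
  obtain ⟨k, hk0, hk1⟩ := exists_ne_zero_one h
  obtain ⟨κ, hκ⟩ : ∃ κ : Fˣ, κ ≠ 1 :=
    ⟨Units.mk0 k hk0, fun e => hk1 (by simpa using congrArg Units.val e)⟩
  obtain ⟨f, hf⟩ : ∃ f : Fˣ ⊕ Fˣ → ↥(Cfsg.Sz F m),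
      f = Sum.elim (fun j => dS h j) (fun j => wS h * dS h j) := ⟨_, rfl⟩
  have hinj : Function.Injective f := by
    have hne : ∀ a b, dS h a ≠ wS h * dS h b := fun a b e => by
      have e1 : wSL F • Cfsg.suzukiPointInfinity F = Cfsg.suzukiPointInfinity F := by
        have := congrArg (fun g : ↥(Cfsg.Sz F m) => g.1 • Cfsg.suzukiPointInfinity F) e
        simp only [Subgroup.coe_mul, mul_smul] at this
        change dHom F m a • _ = wSL F • (dHom F m b • _) at this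
        rw [dHom_inf, dHom_inf] at this
        exact this.symm
      rw [wSL_inf h] at e1
      exact inf_ne_pA m _ _ e1.symm
    rw [hf]
    rintro (a | a) (b | b) e <;> simp only [Sum.elim_inl, Sum.elim_inr] at e
    · exact congrArg Sum.inl (dS_injective h e)
    · exact absurd e (hne a b)
    · exact absurd e.symm (hne b a)
    · exact congrArg Sum.inr (dS_injective h (mul_left_cancel e))
  have hrange : Set.range f = ↑(Subgroup.normalizer ((dS h).range : Set ↥(Cfsg.Sz F m))) := by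
    ext n
    rw [hf]
    constructor
    · rintro ⟨j | j, rfl⟩
      · exact Subgroup.le_normalizer ⟨j, rfl⟩
      · refine Subgroup.mem_normalizer_fintype fun x hx => ?_
        obtain ⟨l, rfl⟩ := hx
        exact ⟨l⁻¹, by
          show dS h l⁻¹ = wS h * dS h j * dS h l * (wS h * dS h j)⁻¹
          rw [show wS h * dS h j * dS h l * (wS h * dS h j)⁻¹ =
            wS h * (dS h j * dS h l * (dS h j)⁻¹) * (wS h)⁻¹ by group, ← map_mul, ← map_inv (dS h) j, ← map_mul,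
            mul_inv_cancel_comm, wS_conj h, mul_inv_cancel_right]⟩
    · intro hn
      obtain ⟨l, hl⟩ := (Subgroup.mem_normalizer_iff.mp hn (dS h κ)).mp ⟨κ, rfl⟩
      rcases DS_conj h hκ hl.symm with ⟨j, hj, -⟩ | ⟨j, hj, -⟩
      · exact ⟨.inl j, hj.symm⟩
      · exact ⟨.inr j, hj.symm⟩
  rw [← SetLike.coe_sort_coe, ← hrange, Nat.card_range_of_injective hinj, Nat.card_sum,
    Nat.card_eq_fintype_card, Fintype.card_units, h.card]
  ring

theorem fpf_dvd {y : ↥(Cfsg.Sz F m)} {p : ℕ} [Fact p.Prime] (hy : orderOf y = p) (hf : Fpf h y) :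
    p ∣ (2 ^ (2 * m + 1)) ^ 2 + 1 := by
  classical
  rw [← card_ovoid h]
  by_contra hp
  haveI := Fintype.ofFinite ↥(Cfsg.suzukiOvoid F m)
  rw [Nat.card_eq_fintype_card] at hp
  obtain ⟨a, ha⟩ := Equiv.Perm.exists_fixed_point_of_prime (n := 1) hp
    (σ := MulAction.toPermHom ↥(Cfsg.Sz F m) ↥(Cfsg.suzukiOvoid F m) y) (by
      rw [← map_pow, pow_one, ← hy, pow_orderOf_eq_one, map_one])
  exact hf a.1 a.2 (congrArg Subtype.val ha)

theorem prime_facts {p : ℕ} [Fact p.Prime] (hp : p ∣ (2 ^ (2 * m + 1)) ^ 2 + 1) :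
    (∀ i : ℕ, i ≤ 3 → 1 ≤ i → ¬ p ∣ Fintype.card F ^ i - 1) ∧ ¬ p ∣ Fintype.card F ∧ 5 ≤ p := by
  have hp' := (Fact.out : p.Prime)
  have hp2 : p ≠ 2 := by
    rintro rfl
    have : 2 ∣ (2 ^ (2 * m + 1)) ^ 2 := dvd_pow (dvd_pow_self 2 (by omega)) two_ne_zero
    omega
  rw [← h.card] at hp
  have hq : ((Fintype.card F : ℕ) : ZMod p) ^ 2 = -1 := by
    have := (ZMod.natCast_eq_zero_iff _ p).mpr hp
    push_cast at this
    linear_combination this
  have h2 : (2 : ZMod p) ≠ 0 := fun e => hp2 (by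
    have := (ZMod.natCast_eq_zero_iff 2 p).mp (by exact_mod_cast e)
    exact (Nat.prime_dvd_prime_iff_eq hp' Nat.prime_two).mp this)
  refine ⟨fun i hi3 hi1 hd => h2 ?_, fun hd => ?_, ?_⟩
  · have hd' := (ZMod.natCast_eq_zero_iff _ p).mpr hd
    rw [Nat.cast_sub (Nat.one_le_pow _ _ Fintype.card_pos), Nat.cast_pow, Nat.cast_one, sub_eq_zero] at hd'
    interval_cases i
    · rw [pow_one] at hd'; rw [hd'] at hq; linear_combination hq
    · rw [hd'] at hq; linear_combination hq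
    · rw [pow_succ, hq] at hd'
      have h6 : (((Fintype.card F : ℕ) : ZMod p)) = -1 := by linear_combination -hd'
      rw [h6] at hq
      linear_combination hq
  · rw [(ZMod.natCast_eq_zero_iff _ p).mpr hd] at hq
    exact one_ne_zero (show (1 : ZMod p) = 0 by linear_combination hq)
  · have h3 : p ≠ 3 := by
      rintro rfl
      exact zmod_three_sq _ hq
    have := hp'.two_le
    have h4 : p ≠ 4 := fun e => by rw [e] at hp'; norm_num at hp'
    omega

theorem three_not_dvd : ¬ 3 ∣ Nat.card ↥(Cfsg.Sz F m) := by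
  rw [card_Sz' h, Nat.Prime.dvd_mul (by norm_num), Nat.Prime.dvd_mul (by norm_num)]
  have hmod : 2 ^ (2 * m + 1) % 3 = 2 := by
    rw [pow_succ, pow_mul, Nat.mul_mod, Nat.pow_mod]
    norm_num
  have hq := q_ge h
  obtain ⟨a, ha⟩ : ∃ a, 2 ^ (2 * m + 1) = 3 * a + 2 := ⟨2 ^ (2 * m + 1) / 3, by omega⟩
  rw [ha]
  rintro ((h1 | h1) | h1)
  · have := Nat.Prime.dvd_of_dvd_pow (by norm_num) h1; omega
  · rw [show (3 * a + 2) ^ 2 + 1 = 3 * (3 * a * a + 4 * a + 1) + 2 by ring] at h1; omega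
  · omega

/-- The centraliser of an element without fixed points. -/
theorem torus_data {x : ↥(Cfsg.Sz F m)} (hx : Fpf h x) :
    IsCyclic (Subgroup.centralizer ({x} : Set ↥(Cfsg.Sz F m))) ∧
    (∀ t ∈ Subgroup.centralizer ({x} : Set ↥(Cfsg.Sz F m)), t ≠ 1 →
      Fpf h t ∧ Subgroup.centralizer ({t} : Set ↥(Cfsg.Sz F m)) = Subgroup.centralizer {x}) ∧
    Nat.card ↥(Subgroup.centralizer ({x} : Set ↥(Cfsg.Sz F m))) ∣ (2 ^ (2 * m + 1)) ^ 2 + 1 ∧
    5 ≤ Nat.card ↥(Subgroup.centralizer ({x} : Set ↥(Cfsg.Sz F m))) ∧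
    ∃ n, (n = 1 ∨ n = 2 ∨ n = 4) ∧
      Nat.card ↥(Subgroup.normalizer (Subgroup.centralizer ({x} : Set ↥(Cfsg.Sz F m)) : Set ↥(Cfsg.Sz F m))) =
        n * Nat.card ↥(Subgroup.centralizer ({x} : Set ↥(Cfsg.Sz F m))) := by
  classical
  have hnotfix : ∀ y, y ≠ 1 → ¬ Fpf h y → ∀ z ∈ Subgroup.centralizer ({y} : Set ↥(Cfsg.Sz F m)), ¬ Fpf h z := by
    intro y hy hf z hz hzf
    have hz' : z * y = y * z := Subgroup.mem_centralizer_singleton_iff.mp hz
    rcases classify h hy hf with ⟨-, σ, hσ⟩ | ⟨-, σ, hσ⟩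
    · have : σ * z * σ⁻¹ ∈ US h := centralizer_US h hσ (fun e => hy (by rwa [mul_inv_eq_one, mul_eq_left] at e))
        (Subgroup.mem_centralizer_singleton_iff.mpr (by
          simp only [mul_assoc, inv_mul_cancel_left]; rw [← mul_assoc z, hz', mul_assoc]))
      exact not_fpf_of_conjSet h (Or.inl ⟨fpf_ne_one h hzf, σ, this⟩) hzf
    · have : σ * z * σ⁻¹ ∈ (dS h).range := by
        rw [← centralizer_DS h hσ (fun e => hy (by rwa [mul_inv_eq_one, mul_eq_left] at e))]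
        refine Subgroup.mem_centralizer_singleton_iff.mpr ?_
        simp only [mul_assoc, inv_mul_cancel_left]; rw [← mul_assoc z, hz', mul_assoc]
      exact not_fpf_of_conjSet h (Or.inr ⟨fpf_ne_one h hzf, σ, this⟩) hzf
  obtain ⟨ι, hι⟩ : ∃ ι : ↥(Cfsg.Sz F m) →* Matrix (Fin 4) (Fin 4) F, ∀ g, ι g = g.1.val :=
    ⟨{ toFun := fun g => g.1.val, map_one' := rfl, map_mul' := fun _ _ => rfl }, fun g => rfl⟩
  have hιinj : Function.Injective ι := fun a b e => by
    rw [hι, hι] at e; exact Subtype.ext (Subtype.ext e)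
  have hprime : ∀ z, Fpf h z → ∃ (p : ℕ) (y : ↥(Cfsg.Sz F m)), p.Prime ∧ orderOf y = p ∧ y ∈ Subgroup.zpowers z ∧
      Fpf h y ∧ IsCyclic (Subgroup.centralizer ({y} : Set ↥(Cfsg.Sz F m))) ∧ 5 ≤ p ∧
      Nat.card {w : ↥(Cfsg.Sz F m) // w ∈ Subgroup.centralizer ({y} : Set ↥(Cfsg.Sz F m)) ∧
        ∃ n, w = n * y * n⁻¹} ≤ 4 := by
    intro z hz
    have ho1 : orderOf z ≠ 1 := fun e => fpf_ne_one h hz (orderOf_eq_one_iff.mp e)
    have hp : (orderOf z).minFac.Prime := Nat.minFac_prime ho1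
    haveI : Fact (orderOf z).minFac.Prime := ⟨hp⟩
    obtain ⟨c, hc⟩ := Nat.minFac_dvd (orderOf z)
    have hc0 : c ≠ 0 := by rintro rfl; rw [mul_zero] at hc; exact (orderOf_pos z).ne' hc
    have hoy : orderOf (z ^ c) = (orderOf z).minFac := by
      rw [orderOf_pow' z hc0]
      generalize (orderOf z).minFac = a at hc
      rw [hc, Nat.gcd_eq_right (dvd_mul_left c a), Nat.mul_div_cancel _ (Nat.pos_of_ne_zero hc0)]
    have hy1 : z ^ c ≠ 1 := fun e => hp.ne_one (by rw [← hoy, e, orderOf_one])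
    have hyf : Fpf h (z ^ c) := by
      by_contra hf
      exact hnotfix _ hy1 hf z (Subgroup.mem_centralizer_singleton_iff.mpr (Commute.self_pow z c).eq) hz
    obtain ⟨f1, f2, f3⟩ := prime_facts h (fpf_dvd h hoy hyf)
    obtain ⟨d1, d2⟩ := centralizer_data (A := ι (z ^ c)) (p := (orderOf z).minFac)
      (by rw [← map_pow, ← hoy, pow_orderOf_eq_one, map_one])
      (fun e => hy1 (hιinj (e.trans (map_one ι).symm))) f1 f2 ι hιinj rfl
    exact ⟨_, _, hp, hoy, pow_mem (Subgroup.mem_zpowers z) c, hyf, d1, f3, d2⟩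
  have hcomm : ∀ (T : Subgroup ↥(Cfsg.Sz F m)), IsCyclic T → ∀ a ∈ T, ∀ b ∈ T, a * b = b * a := by
    intro T hT a ha b hb
    letI := hT.commGroup
    exact congrArg Subtype.val (mul_comm (⟨a, ha⟩ : T) ⟨b, hb⟩)
  have hall : ∀ z, Fpf h z → IsCyclic (Subgroup.centralizer ({z} : Set ↥(Cfsg.Sz F m))) := by
    intro z hz
    obtain ⟨p, y, -, -, hyz, -, hcy, -, -⟩ := hprime z hz
    have hle : Subgroup.centralizer ({z} : Set ↥(Cfsg.Sz F m)) ≤ Subgroup.centralizer {y} := by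
      intro c hc
      obtain ⟨i, rfl⟩ := hyz
      rw [Subgroup.mem_centralizer_singleton_iff] at hc ⊢
      exact (Commute.zpow_right (show Commute c z from hc) i).eq
    exact isCyclic_of_injective (Subgroup.inclusion hle) (Subgroup.inclusion_injective hle)
  have hT : ∀ t ∈ Subgroup.centralizer ({x} : Set ↥(Cfsg.Sz F m)), t ≠ 1 →
      Fpf h t ∧ Subgroup.centralizer ({t} : Set ↥(Cfsg.Sz F m)) = Subgroup.centralizer {x} := by
    intro t ht ht1
    have hxt : x ∈ Subgroup.centralizer ({t} : Set ↥(Cfsg.Sz F m)) := by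
      rw [Subgroup.mem_centralizer_singleton_iff] at ht ⊢; exact ht.symm
    have htf : Fpf h t := by
      by_contra hf
      exact hnotfix t ht1 hf x hxt hx
    refine ⟨htf, le_antisymm (fun c hc => ?_) (fun c hc => ?_)⟩
    · exact Subgroup.mem_centralizer_singleton_iff.mpr (hcomm _ (hall t htf) c hc x hxt)
    · exact Subgroup.mem_centralizer_singleton_iff.mpr (hcomm _ (hall x hx) c hc t ht)
  obtain ⟨p, y, hp, hoy, hyx, hyf, -, hp5, hroots⟩ := hprime x hx
  have hyC : y ∈ Subgroup.centralizer ({x} : Set ↥(Cfsg.Sz F m)) := by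
    obtain ⟨i, rfl⟩ := hyx
    exact Subgroup.mem_centralizer_singleton_iff.mpr (Commute.zpow_left (Commute.refl x) i).eq
  obtain ⟨T, hTdef⟩ : ∃ T, T = Subgroup.centralizer ({x} : Set ↥(Cfsg.Sz F m)) := ⟨_, rfl⟩
  rw [← hTdef] at hT hyC ⊢
  have hCy : Subgroup.centralizer ({y} : Set ↥(Cfsg.Sz F m)) = T :=
    (hT y hyC (fpf_ne_one h hyf)).2
  rw [hCy] at hroots
  refine ⟨hTdef ▸ hall x hx, hT, ?_, ?_, ?_⟩
  · rw [← card_ovoid h]
    haveI := Fintype.ofFinite ↥(Cfsg.suzukiOvoid F m)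
    have hstab : ∀ a : ↥(Cfsg.suzukiOvoid F m), MulAction.stabilizer ↥T a = ⊥ := fun a => by
      refine (Subgroup.eq_bot_iff_forall _).mpr fun t ht => ?_
      by_contra hne
      exact (hT t.1 t.2 fun e => hne (Subtype.ext e)).1 a.1 a.2 (congrArg Subtype.val ht)
    have e := MulAction.selfEquivSigmaOrbitsQuotientStabilizer ↥T ↥(Cfsg.suzukiOvoid F m)
    haveI := Fintype.ofFinite (MulAction.orbitRel.Quotient ↥T ↥(Cfsg.suzukiOvoid F m))
    rw [Nat.card_congr e, Nat.card_sigma]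
    refine Finset.dvd_sum fun ω _ => ?_
    rw [hstab, ← Subgroup.index, Subgroup.index_bot]
  · refine hp5.trans ?_
    rw [← hoy]
    exact (Subgroup.orderOf_le_card _ (Set.toFinite _) hyC)
  · obtain ⟨N, hN⟩ : ∃ N, N = Subgroup.normalizer (T : Set ↥(Cfsg.Sz F m)) := ⟨_, rfl⟩
    rw [← hN]
    have hTN : T ≤ N := hN ▸ Subgroup.le_normalizer
    obtain ⟨n, hn⟩ : ∃ n, n = (T.subgroupOf N).index := ⟨_, rfl⟩
    have hcard : Nat.card ↥N = n * Nat.card ↥T := by
      rw [hn, ← Nat.card_congr (Subgroup.subgroupOfEquivOfLe hTN).toEquiv, Subgroup.index_mul_card]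
    refine ⟨n, ?_, hcard⟩
    have h3 : ¬ 3 ∣ n := fun h' => three_not_dvd h
      ((dvd_mul_of_dvd_left h' (Nat.card ↥T)).trans (hcard ▸ Subgroup.card_subgroup_dvd_card N))
    have hn0 : n ≠ 0 := by rw [hn]; exact Subgroup.index_ne_zero_of_finite
    have hle : n ≤ 4 := by
      refine le_trans ?_ hroots
      rw [hn, Subgroup.index]
      refine Nat.card_le_card_of_injective (Quotient.lift (fun g : ↥N => (⟨g.1 * y * g.1⁻¹,
        (Subgroup.mem_normalizer_iff.mp (hN ▸ g.2) _).mp hyC, g.1, rfl⟩ :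
          {w : ↥(Cfsg.Sz F m) // w ∈ T ∧ ∃ n, w = n * y * n⁻¹})) fun a b e => ?_) ?_
      · have e' : a.1⁻¹ * b.1 ∈ T := (QuotientGroup.leftRel_apply (s := T.subgroupOf N)).mp e
        rw [← hCy, Subgroup.mem_centralizer_singleton_iff] at e'
        refine Subtype.ext ?_
        show a.1 * y * a.1⁻¹ = b.1 * y * b.1⁻¹
        rw [show b.1 * y * b.1⁻¹ = a.1 * ((a.1⁻¹ * b.1) * y) * (a.1⁻¹ * b.1)⁻¹ * a.1⁻¹ by group, e']
        group
      · intro u v
        refine Quotient.inductionOn₂' u v fun a b e => ?_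
        have e' : a.1 * y * a.1⁻¹ = b.1 * y * b.1⁻¹ := congrArg Subtype.val e
        refine Quotient.sound' (QuotientGroup.leftRel_apply.mpr ?_)
        show a.1⁻¹ * b.1 ∈ T
        rw [← hCy, Subgroup.mem_centralizer_singleton_iff]
        calc a.1⁻¹ * b.1 * y = a.1⁻¹ * (b.1 * y * b.1⁻¹) * b.1 := by group
          _ = y * (a.1⁻¹ * b.1) := by rw [← e']; group
    rcases Nat.lt_or_ge n 3 with h' | h'
    · omega
    · have : n ≠ 3 := fun e => h3 (by rw [e])
      omega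

end Cfsg.Lib.Linear.Suz
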