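import Cfsg.Agent.Lib.Linear.Suzuki.Tori

/-!
# The two classes of tori of a Suzuki group
-/

set_option autoImplicit false

namespace Cfsg.Lib.Linear.Suz

open scoped Matrix LinearAlgebra.Projectivization

variable {F : Type*} [Field F] [Fintype F] {m : ℕ} (h : Params F m)
include h

theorem conj_centralizer (σ x : ↥(Cfsg.Sz F m)) :
    Subgroup.centralizer ({σ * x * σ⁻¹} : Set ↥(Cfsg.Sz F m)) =
      (Subgroup.centralizer ({x} : Set ↥(Cfsg.Sz F m))).map (MulAut.conj σ).toMonoidHom := by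
  ext c
  rw [Subgroup.mem_centralizer_singleton_iff, Subgroup.mem_map]
  constructor
  · intro hc
    refine ⟨σ⁻¹ * c * σ, Subgroup.mem_centralizer_singleton_iff.mpr ?_, ?_⟩
    · calc σ⁻¹ * c * σ * x = σ⁻¹ * (c * (σ * x * σ⁻¹)) * σ := by group
        _ = x * (σ⁻¹ * c * σ) := by rw [hc]; group
    · show σ * (σ⁻¹ * c * σ) * σ⁻¹ = c
      group
  · rintro ⟨d, hd, rfl⟩
    rw [Subgroup.mem_centralizer_singleton_iff] at hd
    show σ * d * σ⁻¹ * (σ * x * σ⁻¹) = σ * x * σ⁻¹ * (σ * d * σ⁻¹)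
    rw [show σ * d * σ⁻¹ * (σ * x * σ⁻¹) = σ * (d * x) * σ⁻¹ by group, hd]
    group

theorem card_conj_centralizer (σ x : ↥(Cfsg.Sz F m)) :
    Nat.card ↥(Subgroup.centralizer ({σ * x * σ⁻¹} : Set ↥(Cfsg.Sz F m))) =
      Nat.card ↥(Subgroup.centralizer ({x} : Set ↥(Cfsg.Sz F m))) := by
  rw [conj_centralizer h]
  exact Subgroup.card_map_of_injective (MulAut.conj σ).injective

theorem torus_conjSet {x : ↥(Cfsg.Sz F m)} (hx : Fpf h x) :
    (∀ z ∈ conjSet (Subgroup.centralizer ({x} : Set ↥(Cfsg.Sz F m))), Fpf h z) ∧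
    (Subgroup.normalizer (Subgroup.centralizer ({x} : Set ↥(Cfsg.Sz F m)) : Set ↥(Cfsg.Sz F m))).index *
      (Nat.card ↥(Subgroup.centralizer ({x} : Set ↥(Cfsg.Sz F m))) - 1) =
      (conjSet (Subgroup.centralizer ({x} : Set ↥(Cfsg.Sz F m)))).ncard ∧
    ∀ z ∈ conjSet (Subgroup.centralizer ({x} : Set ↥(Cfsg.Sz F m))),
      Nat.card ↥(Subgroup.centralizer ({z} : Set ↥(Cfsg.Sz F m))) =
        Nat.card ↥(Subgroup.centralizer ({x} : Set ↥(Cfsg.Sz F m))) := by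
  obtain ⟨-, hT, -, -, -⟩ := torus_data h hx
  refine ⟨?_, ?_, ?_⟩
  · rintro z ⟨hz, σ, hσ⟩
    have := fpf_conj h (hT _ hσ fun e => hz (by rwa [mul_inv_eq_one, mul_eq_left] at e)).1 σ⁻¹
    rwa [show σ⁻¹ * (σ * z * σ⁻¹) * σ⁻¹⁻¹ = z by group] at this
  · refine (ncard_conjSet _ _ (fun n hn t ht => (Subgroup.mem_normalizer_iff.mp hn t).mp ht) ?_).symm
    intro t ht ht1 g hg
    refine Subgroup.mem_normalizer_fintype fun u hu => ?_
    rw [← (hT _ hg fun e => ht1 (by rwa [mul_inv_eq_one, mul_eq_left] at e)).2, conj_centralizer h]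
    rw [SetLike.mem_coe] at hu
    rw [← (hT t ht ht1).2] at hu
    exact ⟨u, hu, rfl⟩
  · rintro z ⟨hz, σ, hσ⟩
    rw [← card_conj_centralizer h σ z,
      (hT _ hσ fun e => hz (by rwa [mul_inv_eq_one, mul_eq_left] at e)).2]

theorem ncard_US : 2 * (conjSet (US h)).ncard = 2 * (((2 ^ (2 * m + 1)) ^ 2 + 1) * ((2 ^ (2 * m + 1)) ^ 2 - 1)) := by
  rw [ncard_conjSet (US h) (MulAction.stabilizer ↥(Cfsg.Sz F m) (Cfsg.suzukiPointInfinity F))
    (fun n hn t ht => stab_normalizes h hn ht) (fun t ht ht1 g hg => conj_mem_stab h ht hg ht1 rfl),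
    card_US h]
  congr 1
  congr 1
  have hc := (MulAction.stabilizer ↥(Cfsg.Sz F m) (Cfsg.suzukiPointInfinity F)).index_mul_card
  rw [card_stab_inf h, card_Sz' h] at hc
  have hq := q_ge h
  exact Nat.eq_of_mul_eq_mul_right (Nat.mul_pos (by positivity) (by omega)) (hc.trans (by ring))

theorem ncard_DS : 2 * (conjSet (dS h).range).ncard =
    (2 ^ (2 * m + 1)) ^ 2 * ((2 ^ (2 * m + 1)) ^ 2 + 1) * (2 ^ (2 * m + 1) - 2) := by
  rw [ncard_conjSet (dS h).range (Subgroup.normalizer ((dS h).range : Set ↥(Cfsg.Sz F m)))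
    (fun n hn t ht => (Subgroup.mem_normalizer_iff.mp hn t).mp ht) ?_, card_DS h]
  · have hc := (Subgroup.normalizer ((dS h).range : Set ↥(Cfsg.Sz F m))).index_mul_card
    rw [card_NDS h, card_Sz' h] at hc
    have hq := q_ge h
    rw [show (2 ^ (2 * m + 1)) ^ 2 * ((2 ^ (2 * m + 1)) ^ 2 + 1) * (2 ^ (2 * m + 1) - 2) =
      (2 ^ (2 * m + 1)) ^ 2 * ((2 ^ (2 * m + 1)) ^ 2 + 1) * (2 ^ (2 * m + 1) - 1 - 1) by
      rw [Nat.sub_sub], ← mul_assoc]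
    congr 1
    exact Nat.eq_of_mul_eq_mul_right (show 0 < 2 ^ (2 * m + 1) - 1 by omega) (Eq.trans (by ring) hc)
  · intro t ht ht1 g hg
    refine Subgroup.mem_normalizer_fintype fun u hu => ?_
    rw [SetLike.mem_coe, ← centralizer_DS h hg fun e => ht1 (by rwa [mul_inv_eq_one, mul_eq_left] at e),
      conj_centralizer h, centralizer_DS h ht ht1]
    exact ⟨u, hu, rfl⟩

theorem partition_count :
    (4 : ℤ) * {x : ↥(Cfsg.Sz F m) | Fpf h x}.ncard =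
      2 * Nat.card ↥(Cfsg.Sz F m) -
        2 * ((2 : ℤ) ^ (2 * m + 1)) ^ 2 * (((2 : ℤ) ^ (2 * m + 1)) ^ 2 - 1) := by
  classical
  have hdisj1 : Disjoint (conjSet (US h)) (conjSet (dS h).range) := Set.disjoint_left.mpr fun x hu hd => by
    obtain ⟨hx, σ, hσ⟩ := hu
    obtain ⟨-, τ, hτ⟩ := hd
    obtain ⟨k, hk⟩ := hτ
    obtain ⟨a, b, hab⟩ := hσ
    have h4 : x ^ 4 = 1 := by
      have := Monoid.exponent_dvd_iff_forall_pow_eq_one.mp
        (show Monoid.exponent ↥(US h) ∣ 4 by rw [(US_props h).1])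
        (⟨uS h a b, a, b, rfl⟩ : ↥(US h))
      have e : uS h a b ^ 4 = 1 := congrArg Subtype.val this
      rw [← hab, conj_pow, mul_inv_eq_one, mul_eq_left] at e
      exact e
    have hodd : x ^ (2 ^ (2 * m + 1) - 1) = 1 := by
      have e : dS h k ^ (2 ^ (2 * m + 1) - 1) = 1 := by
        rw [← map_pow, ← h.card, ← Fintype.card_units, pow_card_eq_one, map_one]
      rw [hk, conj_pow, mul_inv_eq_one, mul_eq_left] at e
      exact e
    have h1 : orderOf x ∣ Nat.gcd 4 (2 ^ (2 * m + 1) - 1) :=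
      Nat.dvd_gcd (orderOf_dvd_of_pow_eq_one h4) (orderOf_dvd_of_pow_eq_one hodd)
    have h2 : Nat.gcd 4 (2 ^ (2 * m + 1) - 1) = 1 := by
      have hq := q_ge h
      have he : 2 ∣ 2 ^ (2 * m + 1) := dvd_pow_self 2 (by omega)
      exact Nat.Coprime.pow_left 2 ((Nat.prime_two.coprime_iff_not_dvd).mpr (by omega))
    rw [h2, Nat.dvd_one, orderOf_eq_one_iff] at h1
    exact hx h1
  have hdisj2 : Disjoint (conjSet (US h) ∪ conjSet (dS h).range) {x : ↥(Cfsg.Sz F m) | Fpf h x} :=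
    Set.disjoint_left.mpr fun x hx hf => not_fpf_of_conjSet h hx hf
  have huniv : conjSet (US h) ∪ conjSet (dS h).range ∪ {x : ↥(Cfsg.Sz F m) | Fpf h x} =
      Set.univ \ {1} := by
    ext x
    simp only [Set.mem_union, Set.mem_diff, Set.mem_univ, true_and, Set.mem_singleton_iff]
    constructor
    · rintro ((hx | hx) | hx)
      exacts [hx.1, hx.1, fpf_ne_one h hx]
    · intro hx
      by_cases hf : Fpf h x
      · exact Or.inr hf
      · exact Or.inl (classify h hx hf)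
  have hsum := congrArg Set.ncard huniv
  rw [Set.ncard_union_eq hdisj2, Set.ncard_union_eq hdisj1, Set.ncard_sdiff_singleton_of_mem (Set.mem_univ _),
    Set.ncard_univ] at hsum
  have hU := ncard_US h
  have hD := ncard_DS h
  have hq := q_ge h
  have hG := card_Sz' h
  have h1 : 1 ≤ Nat.card ↥(Cfsg.Sz F m) := Nat.one_le_iff_ne_zero.mpr Nat.card_pos.ne'
  have h2 : 1 ≤ (2 ^ (2 * m + 1)) ^ 2 := Nat.one_le_pow _ _ (by omega)
  zify [h1, h2, (show 2 ≤ 2 ^ (2 * m + 1) by omega), (show 1 ≤ 2 ^ (2 * m + 1) by omega)] at hsum hU hD hG ⊢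
  rw [hG] at hsum ⊢
  linear_combination 4 * hsum - 2 * hU - 2 * hD

theorem count_ne_one {q t n X M : ℤ} (hn : n = 1 ∨ n = 2 ∨ n = 4) (ht : 5 ≤ t) (hq : 8 ≤ q)
    (hM : M = q ^ 2 * (q ^ 2 + 1) * (q - 1)) (hXM : X * (n * t) = M * (t - 1))
    (h4 : 4 * X = 2 * M - 2 * q ^ 2 * (q ^ 2 - 1)) : False := by
  have hk : 4 * (M * (t - 1)) = n * t * (2 * M - 2 * q ^ 2 * (q ^ 2 - 1)) := by
    rw [← hXM, ← h4]; ring
  have hq2 : 0 < q ^ 2 * (q - 1) := by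
    have : 0 < q - 1 := by linarith
    positivity
  rcases hn with rfl | rfl | rfl
  · have : q ^ 2 * (q - 1) * ((q ^ 2 + 1) * (2 * t - 4) + 2 * t * (q + 1)) = 0 := by
      subst hM; linear_combination hk
    have : 0 < (q ^ 2 + 1) * (2 * t - 4) + 2 * t * (q + 1) := by nlinarith
    nlinarith
  · have h0 : q ^ 2 * (q - 1) * (4 * (t * (q + 1) - (q ^ 2 + 1))) = 0 := by
      subst hM; linear_combination hk
    rcases mul_eq_zero.mp h0 with h' | h'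
    · linarith
    · have e : t * (q + 1) = q ^ 2 + 1 := by linarith
      rcases le_or_gt q t with h'' | h''
      · nlinarith
      · nlinarith
  · have h0 : q ^ 2 * (q - 1) * (4 * ((q ^ 2 + 1) * (t + 1) - 2 * t * (q + 1))) = 0 := by
      subst hM; linear_combination -hk
    rcases mul_eq_zero.mp h0 with h' | h'
    · linarith
    · nlinarith [mul_le_mul_of_nonneg_left (show 2 * (q + 1) ≤ q ^ 2 + 1 by nlinarith) (show 0 ≤ t by linarith)]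

theorem count_two {M X n t : ℤ} (hn : n = 1 ∨ n = 2 ∨ n = 4) (ht : 5 ≤ t) (hM : 0 < M) (hX : 0 ≤ X)
    (hXM : X * (n * t) = M * (t - 1)) : 4 * M ≤ 20 * X ∧ (n ≠ 4 → 8 * M ≤ 20 * X) := by
  rcases hn with rfl | rfl | rfl
  · exact ⟨by nlinarith, fun _ => by nlinarith⟩
  · exact ⟨by nlinarith, fun _ => by nlinarith⟩
  · exact ⟨by nlinarith, fun e => absurd rfl e⟩

theorem sylow_le_torus {p : ℕ} [Fact p.Prime] (hp : p ∣ (2 ^ (2 * m + 1)) ^ 2 + 1)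
    (P : Sylow p ↥(Cfsg.Sz F m)) :
    ∃ y, Fpf h y ∧ orderOf y = p ∧ (P : Subgroup ↥(Cfsg.Sz F m)) ≤ Subgroup.centralizer {y} := by
  classical
  have hdvd : p ∣ Nat.card ↥(P : Subgroup ↥(Cfsg.Sz F m)) :=
    P.dvd_card_of_dvd_card (by rw [card_Sz' h]; exact dvd_mul_of_dvd_left (dvd_mul_of_dvd_right hp _) _)
  haveI : Nontrivial ↥(P : Subgroup ↥(Cfsg.Sz F m)) := Finite.one_lt_card_iff_nontrivial.mp
    (lt_of_lt_of_le (Fact.out : p.Prime).one_lt (Nat.le_of_dvd Nat.card_pos hdvd))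
  haveI := P.isPGroup'.center_nontrivial
  have hZ : p ∣ Nat.card (Subgroup.center ↥(P : Subgroup ↥(Cfsg.Sz F m))) := by
    obtain ⟨n, hn0, hn⟩ := (P.isPGroup'.to_subgroup _).nontrivial_iff_card.mp
      (inferInstance : Nontrivial (Subgroup.center ↥(P : Subgroup ↥(Cfsg.Sz F m))))
    rw [hn]; exact dvd_pow_self p hn0.ne'
  obtain ⟨⟨⟨y, hyP⟩, hyZ⟩, hy⟩ := exists_prime_orderOf_dvd_card' p hZ
  rw [Subgroup.orderOf_mk, Subgroup.orderOf_mk] at hy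
  have hy1 : y ≠ 1 := fun e => (Fact.out : p.Prime).ne_one (by rw [← hy, e, orderOf_one])
  refine ⟨y, ?_, hy, fun c hc => Subgroup.mem_centralizer_singleton_iff.mpr
    (congrArg Subtype.val (Subgroup.mem_center_iff.mp hyZ ⟨c, hc⟩))⟩
  by_contra hf
  obtain ⟨f1, f2, f3⟩ := prime_facts h hp
  rcases classify h hy1 hf with ⟨-, σ, a, b, e⟩ | ⟨-, σ, k, e⟩
  · have h4 : (σ * y * σ⁻¹) ^ 4 = 1 := by
      rw [e]
      exact congrArg Subtype.val (Monoid.exponent_dvd_iff_forall_pow_eq_one.mp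
        (show Monoid.exponent ↥(US h) ∣ 4 by rw [(US_props h).1])
        (⟨uS h a b, a, b, rfl⟩ : ↥(US h)))
    rw [conj_pow, mul_inv_eq_one, mul_eq_left] at h4
    have := Nat.le_of_dvd (by norm_num) (hy ▸ orderOf_dvd_of_pow_eq_one h4)
    omega
  · have h4 : (σ * y * σ⁻¹) ^ (2 ^ (2 * m + 1) - 1) = 1 := by
      rw [← e, ← map_pow, ← h.card, ← Fintype.card_units, pow_card_eq_one, map_one]
    rw [conj_pow, mul_inv_eq_one, mul_eq_left] at h4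
    refine f1 1 (by norm_num) le_rfl ?_
    rw [pow_one, h.card]
    exact hy ▸ orderOf_dvd_of_pow_eq_one h4

/-- The two classes of tori. -/
theorem tori : ∃ x₁ x₂ : ↥(Cfsg.Sz F m), Fpf h x₁ ∧ Fpf h x₂ ∧
    Nat.card ↥(Subgroup.centralizer ({x₁} : Set ↥(Cfsg.Sz F m))) = 2 ^ (2 * m + 1) + 2 ^ (m + 1) + 1 ∧
    Nat.card ↥(Subgroup.centralizer ({x₂} : Set ↥(Cfsg.Sz F m))) = 2 ^ (2 * m + 1) - 2 ^ (m + 1) + 1 ∧
    Nat.card ↥(Subgroup.normalizer (Subgroup.centralizer ({x₁} : Set ↥(Cfsg.Sz F m)) : Set ↥(Cfsg.Sz F m))) =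
      4 * Nat.card ↥(Subgroup.centralizer ({x₁} : Set ↥(Cfsg.Sz F m))) ∧
    Nat.card ↥(Subgroup.normalizer (Subgroup.centralizer ({x₂} : Set ↥(Cfsg.Sz F m)) : Set ↥(Cfsg.Sz F m))) =
      4 * Nat.card ↥(Subgroup.centralizer ({x₂} : Set ↥(Cfsg.Sz F m))) ∧
    ∀ z, Fpf h z →
      z ∈ conjSet (Subgroup.centralizer ({x₁} : Set ↥(Cfsg.Sz F m))) ∨
      z ∈ conjSet (Subgroup.centralizer ({x₂} : Set ↥(Cfsg.Sz F m))) := by
  classical
  obtain ⟨q, hq⟩ : ∃ q : ℤ, q = (2 : ℤ) ^ (2 * m + 1) := ⟨_, rfl⟩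
  obtain ⟨M, hM⟩ : ∃ M : ℤ, M = (Nat.card ↥(Cfsg.Sz F m) : ℤ) := ⟨_, rfl⟩
  have hq8 : 8 ≤ q := by rw [hq]; exact_mod_cast q_ge h
  have hMeq : M = q ^ 2 * (q ^ 2 + 1) * (q - 1) := by
    rw [hM, card_Sz' h, hq]
    push_cast [Nat.one_le_two_pow]
    ring
  have hMpos : 0 < M := by rw [hM]; exact_mod_cast Nat.card_pos
  obtain ⟨R, hR⟩ : ∃ R, R = {x : ↥(Cfsg.Sz F m) | Fpf h x} := ⟨_, rfl⟩
  have hRc : 4 * (R.ncard : ℤ) = 2 * M - 2 * q ^ 2 * (q ^ 2 - 1) := by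
    rw [hR, hM, hq]; exact partition_count h
  have hdata : ∀ x, Fpf h x → ∃ (n t : ℤ), (n = 1 ∨ n = 2 ∨ n = 4) ∧ 5 ≤ t ∧
      t = Nat.card ↥(Subgroup.centralizer ({x} : Set ↥(Cfsg.Sz F m))) ∧
      (Nat.card ↥(Subgroup.normalizer (Subgroup.centralizer ({x} : Set ↥(Cfsg.Sz F m)) : Set ↥(Cfsg.Sz F m))) : ℤ) = n * t ∧
      ((conjSet (Subgroup.centralizer ({x} : Set ↥(Cfsg.Sz F m)))).ncard : ℤ) * (n * t) = M * (t - 1) := by
    intro x hx
    obtain ⟨-, -, -, h5, n, hn, hN⟩ := torus_data h hx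
    obtain ⟨-, hc, -⟩ := torus_conjSet h hx
    refine ⟨n, _, ?_, (by exact_mod_cast h5), rfl, (by exact_mod_cast hN), ?_⟩
    · rcases hn with rfl | rfl | rfl <;> norm_num
    · have hidx := (Subgroup.normalizer (Subgroup.centralizer ({x} : Set ↥(Cfsg.Sz F m)) : Set ↥(Cfsg.Sz F m))).index_mul_card
      rw [hN] at hidx
      rw [hM, ← hc, ← hidx, Nat.cast_mul, Nat.cast_sub (le_trans (by norm_num) h5)]
      push_cast
      ring
  have hsub : ∀ x, Fpf h x → conjSet (Subgroup.centralizer ({x} : Set ↥(Cfsg.Sz F m))) ⊆ R :=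
    fun x hx z hz => hR ▸ (torus_conjSet h hx).1 z hz
  have hmemconj : ∀ x, Fpf h x → x ∈ conjSet (Subgroup.centralizer ({x} : Set ↥(Cfsg.Sz F m))) :=
    fun x hx => ⟨fpf_ne_one h hx, 1, by simp [Subgroup.mem_centralizer_singleton_iff]⟩
  have hdisj : ∀ x y, Fpf h x → Fpf h y → y ∉ conjSet (Subgroup.centralizer ({x} : Set ↥(Cfsg.Sz F m))) →
      Disjoint (conjSet (Subgroup.centralizer ({x} : Set ↥(Cfsg.Sz F m))))
        (conjSet (Subgroup.centralizer ({y} : Set ↥(Cfsg.Sz F m)))) := by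
    intro x y hx hy hnot
    refine Set.disjoint_left.mpr fun z hzx hzy => hnot ?_
    obtain ⟨hz, σ, hσ⟩ := hzx
    obtain ⟨-, τ, hτ⟩ := hzy
    have e1 := ((torus_data h hx).2.1 _ hσ fun e => hz (by rwa [mul_inv_eq_one, mul_eq_left] at e)).2
    have e2 := ((torus_data h hy).2.1 _ hτ fun e => hz (by rwa [mul_inv_eq_one, mul_eq_left] at e)).2
    refine ⟨fpf_ne_one h hy, σ * τ⁻¹, ?_⟩
    rw [← e1, conj_centralizer h]
    have hy' : y ∈ Subgroup.centralizer ({τ * z * τ⁻¹} : Set ↥(Cfsg.Sz F m)) := by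
      rw [e2]; exact Subgroup.mem_centralizer_singleton_iff.mpr rfl
    rw [conj_centralizer h] at hy'
    obtain ⟨d, hd, rfl⟩ := hy'
    refine ⟨d, hd, ?_⟩
    show σ * d * σ⁻¹ = σ * τ⁻¹ * (τ * d * τ⁻¹) * (σ * τ⁻¹)⁻¹
    group
  obtain ⟨x₁, hx₁⟩ : ∃ x, Fpf h x := by
    by_contra hc
    push Not at hc
    have : R = ∅ := by rw [hR]; exact Set.eq_empty_iff_forall_notMem.mpr hc
    rw [this, Set.ncard_empty, Nat.cast_zero, mul_zero, hMeq] at hRc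
    nlinarith [mul_pos (show (0:ℤ) < q - 1 by linarith) (show (0:ℤ) < q ^ 2 by positivity)]
  obtain ⟨x₂, hx₂, hx₂n⟩ : ∃ y, Fpf h y ∧ y ∉ conjSet (Subgroup.centralizer ({x₁} : Set ↥(Cfsg.Sz F m))) := by
    by_contra hc
    push Not at hc
    have e : conjSet (Subgroup.centralizer ({x₁} : Set ↥(Cfsg.Sz F m))) = R :=
      Set.Subset.antisymm (hsub x₁ hx₁) fun z hz => hc z (by rw [hR] at hz; exact hz)
    obtain ⟨n, t, hn, ht5, -, -, hXM⟩ := hdata x₁ hx₁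
    rw [e] at hXM
    exact count_ne_one h hn ht5 hq8 hMeq hXM hRc
  obtain ⟨n₁, t₁, hn₁, ht₁, htc₁, hN₁, hXM₁⟩ := hdata x₁ hx₁
  obtain ⟨n₂, t₂, hn₂, ht₂, htc₂, hN₂, hXM₂⟩ := hdata x₂ hx₂
  have hle12 : ((conjSet (Subgroup.centralizer ({x₁} : Set ↥(Cfsg.Sz F m)))).ncard : ℤ) +
      (conjSet (Subgroup.centralizer ({x₂} : Set ↥(Cfsg.Sz F m)))).ncard ≤ R.ncard := by
    rw [← Nat.cast_add, ← Set.ncard_union_eq (hdisj x₁ x₂ hx₁ hx₂ hx₂n)]
    exact_mod_cast Set.ncard_le_ncard (Set.union_subset (hsub x₁ hx₁) (hsub x₂ hx₂)) (Set.toFinite _)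
  obtain ⟨b1, c1⟩ := count_two h hn₁ ht₁ hMpos (Nat.cast_nonneg _) hXM₁
  obtain ⟨b2, c2⟩ := count_two h hn₂ ht₂ hMpos (Nat.cast_nonneg _) hXM₂
  have hneg : 0 < q ^ 2 * (q ^ 2 - 1) := mul_pos (by positivity) (by nlinarith)
  obtain rfl : n₁ = 4 := by
    by_contra hne; linarith [c1 hne]
  obtain rfl : n₂ = 4 := by
    by_contra hne; linarith [c2 hne]
  have hall : ∀ z, Fpf h z →
      z ∈ conjSet (Subgroup.centralizer ({x₁} : Set ↥(Cfsg.Sz F m))) ∨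
      z ∈ conjSet (Subgroup.centralizer ({x₂} : Set ↥(Cfsg.Sz F m))) := by
    intro z hz
    by_contra hc
    push Not at hc
    obtain ⟨n₃, t₃, hn₃, ht₃, -, -, hXM₃⟩ := hdata z hz
    obtain ⟨b3, -⟩ := count_two h hn₃ ht₃ hMpos (Nat.cast_nonneg _) hXM₃
    have hd3 : Disjoint (conjSet (Subgroup.centralizer ({x₁} : Set ↥(Cfsg.Sz F m))) ∪
        conjSet (Subgroup.centralizer ({x₂} : Set ↥(Cfsg.Sz F m))))
        (conjSet (Subgroup.centralizer ({z} : Set ↥(Cfsg.Sz F m)))) :=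
      Set.disjoint_union_left.mpr ⟨hdisj x₁ z hx₁ hz hc.1, hdisj x₂ z hx₂ hz hc.2⟩
    have hle : ((conjSet (Subgroup.centralizer ({x₁} : Set ↥(Cfsg.Sz F m)))).ncard : ℤ) +
        (conjSet (Subgroup.centralizer ({x₂} : Set ↥(Cfsg.Sz F m)))).ncard +
        (conjSet (Subgroup.centralizer ({z} : Set ↥(Cfsg.Sz F m)))).ncard ≤ R.ncard := by
      rw [← Nat.cast_add, ← Nat.cast_add, ← Set.ncard_union_eq (hdisj x₁ x₂ hx₁ hx₂ hx₂n),
        ← Set.ncard_union_eq hd3]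
      exact_mod_cast Set.ncard_le_ncard
        (Set.union_subset (Set.union_subset (hsub x₁ hx₁) (hsub x₂ hx₂)) (hsub z hz)) (Set.toFinite _)
    linarith
  have hsum : ((conjSet (Subgroup.centralizer ({x₁} : Set ↥(Cfsg.Sz F m)))).ncard : ℤ) +
      (conjSet (Subgroup.centralizer ({x₂} : Set ↥(Cfsg.Sz F m)))).ncard = R.ncard := by
    rw [← Nat.cast_add, ← Set.ncard_union_eq (hdisj x₁ x₂ hx₁ hx₂ hx₂n)]
    congr 2
    exact Set.Subset.antisymm (Set.union_subset (hsub x₁ hx₁) (hsub x₂ hx₂))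
      fun z hz => hall z (by rw [hR] at hz; exact hz)
  -- the orders are coprime with product `q² + 1`
  obtain ⟨s₁, hs₁⟩ : ∃ s, s = Nat.card ↥(Subgroup.centralizer ({x₁} : Set ↥(Cfsg.Sz F m))) := ⟨_, rfl⟩
  obtain ⟨s₂, hs₂⟩ : ∃ s, s = Nat.card ↥(Subgroup.centralizer ({x₂} : Set ↥(Cfsg.Sz F m))) := ⟨_, rfl⟩
  have hd1 : s₁ ∣ (2 ^ (2 * m + 1)) ^ 2 + 1 := hs₁ ▸ (torus_data h hx₁).2.2.1
  have hd2 : s₂ ∣ (2 ^ (2 * m + 1)) ^ 2 + 1 := hs₂ ▸ (torus_data h hx₂).2.2.1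
  have hco : Nat.Coprime s₁ s₂ := by
    refine Nat.coprime_of_dvd fun p hp h1 h2 => ?_
    haveI : Fact p.Prime := ⟨hp⟩
    rw [hs₁] at h1; rw [hs₂] at h2
    obtain ⟨⟨y₁, hy₁⟩, ho₁⟩ := exists_prime_orderOf_dvd_card' p h1
    obtain ⟨⟨y₂, hy₂⟩, ho₂⟩ := exists_prime_orderOf_dvd_card' p h2
    rw [Subgroup.orderOf_mk] at ho₁ ho₂
    obtain ⟨P, hP⟩ := (IsPGroup.of_card (n := 1) (by rw [Nat.card_zpowers, ho₁, pow_one]) :
      IsPGroup p ↥(Subgroup.zpowers y₁)).exists_le_sylow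
    obtain ⟨Q, hQ⟩ := (IsPGroup.of_card (n := 1) (by rw [Nat.card_zpowers, ho₂, pow_one]) :
      IsPGroup p ↥(Subgroup.zpowers y₂)).exists_le_sylow
    obtain ⟨g, hg⟩ := MulAction.exists_smul_eq ↥(Cfsg.Sz F m) Q P
    obtain ⟨y, hyf, -, hPy⟩ := sylow_le_torus h (dvd_trans (by rw [hs₁]; exact h1) hd1) P
    have hgy₂ : g * y₂ * g⁻¹ ∈ (P : Subgroup ↥(Cfsg.Sz F m)) := by
      rw [← hg]; exact ⟨y₂, hQ (Subgroup.mem_zpowers y₂), rfl⟩
    have hy1' : y₁ ≠ 1 := fun e => hp.ne_one (by rw [← ho₁, e, orderOf_one])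
    have hy2' : g * y₂ * g⁻¹ ≠ 1 := fun e => hp.ne_one (by
      rw [mul_inv_eq_one, mul_eq_left] at e; rw [← ho₂, e, orderOf_one])
    obtain ⟨-, hTy, -⟩ := torus_data h hyf
    have e1 := (hTy _ (hPy (hP (Subgroup.mem_zpowers y₁))) hy1').2
    have e2 := (hTy _ (hPy hgy₂) hy2').2
    have e1' := ((torus_data h hx₁).2.1 _ hy₁ hy1').2
    refine hx₂n ⟨fpf_ne_one h hx₂, g, ?_⟩
    rw [← e1', e1, ← e2, conj_centralizer h,
      ((torus_data h hx₂).2.1 _ hy₂ fun e => hy2' (by rw [e, mul_one, mul_inv_cancel])).2]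
    exact ⟨x₂, Subgroup.mem_centralizer_singleton_iff.mpr rfl, rfl⟩
  have hprod : s₁ * s₂ = (2 ^ (2 * m + 1)) ^ 2 + 1 := by
    refine Nat.dvd_antisymm (hco.mul_dvd_of_dvd_of_dvd hd1 hd2) ?_
    rw [Nat.dvd_iff_prime_pow_dvd_dvd]
    intro p k hp hpk
    rcases Nat.eq_zero_or_pos k with rfl | hk
    · simp
    haveI : Fact p.Prime := ⟨hp⟩
    obtain ⟨P⟩ : Nonempty (Sylow p ↥(Cfsg.Sz F m)) := inferInstance
    obtain ⟨y, hyf, -, hPy⟩ := sylow_le_torus h ((dvd_pow_self p hk.ne').trans hpk) P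
    have hpP : p ^ k ∣ Nat.card ↥(P : Subgroup ↥(Cfsg.Sz F m)) :=
      P.pow_dvd_card_of_pow_dvd_card (by
        rw [card_Sz' h]; exact dvd_mul_of_dvd_left (dvd_mul_of_dvd_right hpk _) _)
    have hpy := hpP.trans (Subgroup.card_dvd_of_le hPy)
    rcases hall y hyf with hy' | hy'
    · rw [(torus_conjSet h hx₁).2.2 y hy', ← hs₁] at hpy
      exact dvd_mul_of_dvd_left hpy _
    · rw [(torus_conjSet h hx₂).2.2 y hy', ← hs₂] at hpy
      exact dvd_mul_of_dvd_right hpy _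
  rw [← hs₁] at htc₁
  rw [← hs₂] at htc₂
  have hprodZ : t₁ * t₂ = q ^ 2 + 1 := by
    rw [htc₁, htc₂, hq]; exact_mod_cast hprod
  have hsum' : t₁ + t₂ = 2 * (q + 1) := by
    have e : q ^ 2 * (q - 1) * (q ^ 2 + 1) * (t₁ + t₂ - 2 * (q + 1)) = 0 := by
      subst hMeq
      linear_combination t₂ * hXM₁ + t₁ * hXM₂ - 4 * (t₁ * t₂) * hsum - t₁ * t₂ * hRc +
        2 * q ^ 2 * (q ^ 2 - 1) * hprodZ
    have hne : q ^ 2 * (q - 1) * (q ^ 2 + 1) ≠ 0 := by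
      have : (0 : ℤ) < q - 1 := by linarith
      positivity
    linarith [(mul_eq_zero.mp e).resolve_left hne]
  have hr : ((2 : ℤ) ^ (m + 1)) ^ 2 = 2 * q := by rw [hq]; ring
  have hrle : 2 ^ (m + 1) ≤ 2 ^ (2 * m + 1) := Nat.pow_le_pow_right two_pos (by omega)
  have hsq : (t₁ - (q + 1) - 2 ^ (m + 1)) * (t₁ - (q + 1) + 2 ^ (m + 1)) = 0 := by
    linear_combination t₁ * hsum' - hprodZ - hr
  have hN1' : Nat.card ↥(Subgroup.normalizer (Subgroup.centralizer ({x₁} : Set ↥(Cfsg.Sz F m)) : Set ↥(Cfsg.Sz F m))) =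
      4 * Nat.card ↥(Subgroup.centralizer ({x₁} : Set ↥(Cfsg.Sz F m))) := by
    rw [← hs₁]; rw [htc₁] at hN₁; exact_mod_cast hN₁
  have hN2' : Nat.card ↥(Subgroup.normalizer (Subgroup.centralizer ({x₂} : Set ↥(Cfsg.Sz F m)) : Set ↥(Cfsg.Sz F m))) =
      4 * Nat.card ↥(Subgroup.centralizer ({x₂} : Set ↥(Cfsg.Sz F m))) := by
    rw [← hs₂]; rw [htc₂] at hN₂; exact_mod_cast hN₂
  have hval : ∀ s : ℕ, ((s : ℤ) = q + 2 ^ (m + 1) + 1 → s = 2 ^ (2 * m + 1) + 2 ^ (m + 1) + 1) ∧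
      ((s : ℤ) = q - 2 ^ (m + 1) + 1 → s = 2 ^ (2 * m + 1) - 2 ^ (m + 1) + 1) := fun s => by
    constructor <;> intro e <;> zify [hrle] <;> rw [e, hq]
  rcases mul_eq_zero.mp hsq with e | e
  · exact ⟨x₁, x₂, hx₁, hx₂, (hs₁.symm.trans ((hval s₁).1 (by rw [← htc₁]; linarith))),
      (hs₂.symm.trans ((hval s₂).2 (by rw [← htc₂]; linarith))), hN1', hN2', hall⟩
  · exact ⟨x₂, x₁, hx₂, hx₁, (hs₂.symm.trans ((hval s₂).1 (by rw [← htc₂]; linarith))),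
      (hs₁.symm.trans ((hval s₁).2 (by rw [← htc₁]; linarith))), hN2', hN1', fun z hz => (hall z hz).symm⟩

end Cfsg.Lib.Linear.Suz
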